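import Cfsg.Agent.P5.ExCent
import Cfsg.Agent.L.SimpleRed

/-! The Klein four case of the Gorenstein-Walter theorem, with section B as a hypothesis. -/

set_option autoImplicit false
set_option linter.unusedSectionVars false

namespace Cfsg.Agent.P5

open Subgroup Cfsg Cfsg.Agent Cfsg.Agent.FT
open Cfsg.Agent.H2 (pPrimeCoreOf layerOf)

universe u

/-- The statement of section B. -/
def BBot : Prop := ∀ (G : Type u) [Group G] [Finite G] [IsSimpleGroup G] (U : Subgroup G)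
  (t s x : G), ¬ 8 ∣ Nat.card G → Ind.{u} (Nat.card G) → Hyp ⊤ U t s → Tri x t s →
    IsCoatom 𝐂[t] → U ⊓ 𝐂[s] = ⊥

/-- `G` is isomorphic to `PSL₂(q)` with `q > 3`, `q ≡ ±3 (mod 8)`. -/
def IsL2 (G : Type*) [Group G] : Prop :=
  ∃ (F : Type) (_ : Field F) (_ : Fintype F), 3 < Fintype.card F ∧
    (Fintype.card F % 8 = 3 ∨ Fintype.card F % 8 = 5) ∧
    Nonempty (G ≃* Matrix.ProjectiveSpecialLinearGroup (Fin 2) F)

variable {G : Type u} [Group G]

theorem bsw_comap {H : Type*} [Group H] (e : G ≃* H) {K : Subgroup H} {t s : G}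
    (h : P3.BSW K (e t) (e s)) : P3.BSW (K.comap e.toMonoidHom) t s := by
  refine ⟨⟨⟨fun a b => Subtype.ext (e.injective ?_)⟩⟩, h.tK, fun f => h.t1 (by rw [f, map_one]),
    e.injective (by rw [map_mul, h.tt, map_one]), fun y hy f => ?_, h.sK,
    e.injective (by rw [map_mul, h.ss, map_one]), fun y hy => e.injective ?_, fun y hy => ?_,
    fun y hy f z hz => ?_, fun y h1 h2 => ?_⟩
  · rw [coe_mul, coe_mul, map_mul, map_mul]
    exact (h.commute a.2 b.2).eq
  · exact (h.uniq _ hy (by simpa using congrArg e f)).imp (by simp) (by simp)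
  · simpa using h.inv _ hy
  · simpa using h.centt _ (hy.map e)
  · exact h.cent _ hy (fun f' => f (e.injective (by simpa using f'))) _ (hz.map e)
  · simpa using e.symm.toMonoidHom.map_isConj (h.isConj (e y) (by simpa using h1)
      (by simpa using congrArg e h2))

theorem IsL2.of_equiv {H : Type*} [Group H] (h : IsL2 H) (e : G ≃* H) : IsL2 G := by
  obtain ⟨F, _, _, h1, h2, ⟨f⟩⟩ := h
  exact ⟨F, inferInstance, inferInstance, h1, h2, ⟨e.trans f⟩⟩

variable [Finite G]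

theorem Hyp.bsw_top {A : Subgroup G} {t s : G} (h : Hyp ⊤ A t s)
    (inv : ∀ a ∈ A, s * a * s⁻¹ = a⁻¹)
    (cent : ∀ a ∈ A, a ≠ 1 → ∀ g, Commute a g → g ∈ A ∨ g * t ∈ A) :
    P3.BSW (A ⊔ zpowers t) t s :=
  bsw_comap (K := (A ⊔ zpowers t).subgroupOf ⊤) topEquiv.symm
    (h.bsw inv fun a ha a1 g _ => cent a ha a1 g)

theorem isL2_of_bsw {K : Subgroup G} {t s : G} (h : P3.BSW K t s) (h8 : ¬ 8 ∣ Nat.card G)
    (h12 : Nat.card G ≠ 12) : IsL2 G := by
  obtain ⟨F, _, _, hq, ⟨e⟩⟩ := h.exists_psl2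
  obtain ⟨k, hk⟩ : 2 ∣ 𝐨(K) := by
    have := orderOf_dvd_card_of_mem h.tK
    rwa [orderOf_eq_prime (by rw [sq, h.tt]) h.t1] at this
  have hc := P3.two_mul_card_PSL2 (F := F) (by rw [Nat.card_eq_fintype_card, Nat.odd_iff]; omega)
  rw [← Nat.card_congr e.toEquiv, Nat.card_eq_fintype_card (α := F)] at hc
  have h1 := Fintype.one_lt_card (α := F)
  have ko : k % 2 = 1 := by
    by_contra hn
    obtain ⟨m, rfl⟩ : 2 ∣ k := by omega
    refine h8 (Nat.dvd_of_mul_dvd_mul_left two_pos ?_)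
    rw [hc, mul_assoc]
    refine Dvd.dvd.mul_left ?_ _
    rcases hq with f | f
    · exact ⟨m * (4 * m + 1), by rw [f, hk, Nat.add_sub_cancel]; ring⟩
    · obtain ⟨m, rfl⟩ : ∃ m', m = m' + 1 := ⟨m - 1, by omega⟩
      exact ⟨(4 * m + 3) * (m + 1), by
        rw [f, show Fintype.card F - 1 = 8 * m + 6 by omega, hk]; ring⟩
  refine ⟨F, inferInstance, inferInstance, ?_, by omega, ⟨e⟩⟩
  by_contra hn
  rw [show Fintype.card F = 3 by omega] at hc
  omega

theorem LT.isSimpleGroup {L A : Subgroup G} {t s : G} (h : LT L A t s) : IsSimpleGroup L := by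
  haveI : Nontrivial L := ⟨⟨⟨t, h.hyp.tX⟩, 1, fun e => h.hyp.t1 (congrArg Subtype.val e)⟩⟩
  refine ⟨fun N hN => (h.simple (N.map L.subtype)
    ⟨map_subtype_le N, H2.le_normalizer_map_subtype N⟩).imp (fun e => ?_) fun e => ?_⟩
  · exact (map_eq_bot_iff_of_injective N L.subtype_injective).1 e
  · exact map_injective L.subtype_injective (by rw [e, ← MonoidHom.range_eq_map, range_subtype])

theorem LT.not_comm {L A : Subgroup G} {t s : G} (h : LT L A t s) : ¬ IsMulCommutative L := by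
  obtain ⟨x, xL, tri⟩ := h.tri
  exact fun hc => tri.not_commute h.hyp.v4
    (congrArg Subtype.val (hc.is_comm.comm ⟨x, xL⟩ ⟨t, h.hyp.tX⟩))

theorem LT.not_isSolvable {L A : Subgroup G} {t s : G} (h : LT L A t s) :
    ¬ Group.IsSolvable L :=
  haveI := h.isSimpleGroup
  Cfsg.Agent.L.not_isSolvable_of_isSimpleGroup h.not_comm

theorem card_ne_twelve (hs : ¬ Group.IsSolvable G) : Nat.card G ≠ 12 := fun e =>
  hs (H6.isSolvable_of_primes_two 2 3 fun r hr h => by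
    rw [e, show 12 = 2 ^ 2 * 3 from rfl, hr.dvd_mul] at h
    exact h.imp (fun h => (Nat.prime_dvd_prime_iff_eq hr Nat.prime_two).1 (hr.dvd_of_dvd_pow h))
      (Nat.prime_dvd_prime_iff_eq hr Nat.prime_three).1)

theorem LT.isL2 {L A : Subgroup G} {t s : G} (h : LT L A t s) : IsL2 L :=
  isL2_of_bsw (h.hyp.bsw h.inv h.cent) h.hyp.not_eight_dvd (card_ne_twelve h.not_isSolvable)

theorem Hyp.bsw_of_B_bot [IsSimpleGroup G] {U : Subgroup G} {t s : G} (h : Hyp ⊤ U t s)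
    (co : IsCoatom 𝐂[t]) (hB : U ⊓ 𝐂[s] = ⊥) : P3.BSW (U ⊔ zpowers t) t s := by
  have fix : ∀ a ∈ U, Commute s a → a = 1 := fun a ha hc =>
    mem_bot.1 (hB ▸ mem_inf.2 ⟨ha, Mx.mem_cent1.2 hc.symm⟩)
  have inv := Cfsg.Agent.L.inverts_of_fpf h.ss h.sU fix
  have cm : ∀ a ∈ U, ∀ b ∈ U, Commute a b := fun a ha b hb =>
    Cfsg.Agent.L.commute_of_inverts h.ss inv ha hb
  have inv' : ∀ a ∈ U, s * a * s⁻¹ = a⁻¹ := fun a ha => by rw [inv_eq_of_sq h.ss, inv a ha]
  refine h.bsw_top inv' fun a ha a1 g hg => ?_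
  have h1 := h.cent1_le co ha a1 (fun b hb => Mx.cent1_le_norm_zpowers a
    (Mx.mem_cent1.2 (cm b hb a ha))) (inv' a ha) (Mx.mem_cent1.2 hg.symm)
  rcases h.cover g ⟨mem_top g, h1⟩ with e | e | e | e
  · exact Or.inl e
  · exact Or.inr e
  · exact absurd (fix a ha (by
      simpa using ((cm a ha _ e).mul_right hg.inv_right).symm)) a1
  · exact absurd (fix a ha (by
      simpa using (((cm a ha _ e).mul_right (h.cU ha).symm.inv_right).mul_right
        hg.inv_right).symm)) a1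

theorem BBot.step (hB : BBot.{u}) [IsSimpleGroup G] (hna : ¬ IsMulCommutative G)
    (h8 : ¬ 8 ∣ Nat.card G) (hI : Ind.{u} (Nat.card G)) :
    ∃ (K : Subgroup G) (t s : G), P3.BSW K t s := by
  obtain ⟨t, s, x, hV, tri⟩ := exists_tri hna h8
  have h := hyp_of_tri h8 hV (mem_top t) (mem_top s) (mem_top x) tri
  generalize pPrimeCoreOf 2 (⊤ ⊓ 𝐂[t]) = U at h
  rcases eq_or_ne U ⊥ with rfl | hU
  · exact ⟨_, t, s, h.bsw_top (fun a ha => by simp [mem_bot.1 ha])
      fun a ha a1 => absurd (mem_bot.1 ha) a1⟩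
  · have co := maximal h8 hI h tri hU
    exact ⟨_, t, s, h.bsw_of_B_bot co (hB G U t s x h8 hI h tri co)⟩

theorem BBot.ind (hB : BBot.{u}) (n : ℕ) : Ind.{u} n := by
  induction n with
  | zero => exact fun K _ _ h => absurd h (Nat.not_lt_zero _)
  | succ n ih =>
    intro K _ _ h hs hna h8
    rcases (Nat.lt_succ_iff_lt_or_eq.1 h) with e | e
    · exact ih K e hs hna h8
    · exact hB.step hna h8 (e ▸ ih)

theorem BBot.gw4 (hB : BBot.{u}) [hs : IsSimpleGroup G] (hna : ¬ IsMulCommutative G)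
    (h8 : ¬ 8 ∣ Nat.card G) : ∃ (K : Subgroup G) (t s : G), P3.BSW K t s :=
  hB.ind _ G (Nat.lt_succ_self _) hs hna h8

theorem BBot.isL2 (hB : BBot.{u}) [IsSimpleGroup G] (hna : ¬ IsMulCommutative G)
    (h8 : ¬ 8 ∣ Nat.card G) : IsL2 G := by
  obtain ⟨K, t, s, h⟩ := hB.gw4 hna h8
  exact isL2_of_bsw h h8 (card_ne_twelve (Cfsg.Agent.L.not_isSolvable_of_isSimpleGroup hna))

theorem LT.odd_index {L A : Subgroup G} {t s : G} (h : LT L A t s) (h8 : ¬ 8 ∣ Nat.card G) :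
    Odd L.index :=
  Nat.not_even_iff_odd.1 fun e => (h.hyp.v4.k4 h8).odd ((even_iff_two_dvd.1 e).trans
    (index_dvd_of_le (V4.le_iff.2 ⟨h.hyp.tX, h.hyp.sX⟩)))

theorem LT.cent_eq_bot {L A : Subgroup G} [L.Normal] {t s : G} (h : LT L A t s)
    (h8 : ¬ 8 ∣ Nat.card G) (hO : pPrimeCoreOf 2 (⊤ : Subgroup G) = ⊥) : 𝐂(L) = ⊥ := by
  have h1 : L ⊓ 𝐂(L) = ⊥ := (h.simple _ ⟨inf_le_left, H1.le_normalizer_inf le_normalizer
    (H1.le_normalizer_centralizer le_normalizer)⟩).resolve_right fun e => by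
      obtain ⟨x, xL, tri⟩ := h.tri
      exact tri.not_commute h.hyp.v4 (mem_centralizer_iff.1 ((e.ge xL).2) t h.hyp.tX).symm
  have h2 : Odd 𝐨((𝐂(L) : Subgroup G)) := by
    rw [← relIndex_bot_left, ← h1, inf_relIndex_right]
    exact (h.odd_index h8).of_dvd_nat (relIndex_dvd_index_of_normal _ _)
  exact eq_bot_iff.2 (hO ▸ le_pPrimeCoreOf ⟨le_top, (normalizer_eq_top _).ge⟩
    (Nat.coprime_two_right.2 h2))

/-- Structure of a group with `O(G) = 1` whose order is not divisible by eight. -/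
theorem BBot.struct (hB : BBot.{u}) (h8 : ¬ 8 ∣ Nat.card G) (hs : ¬ Group.IsSolvable G)
    (hO : pPrimeCoreOf 2 (⊤ : Subgroup G) = ⊥) :
    ∃ (L A : Subgroup G) (t s : G), L.Normal ∧ LT L A t s := by
  obtain ⟨V, hV⟩ := exists_k4 hs h8
  rcases hV.normal_or_LT (hB.ind _) (Nat.lt_succ_self _) hO with h | ⟨L, hL, h⟩
  · exact absurd (Cfsg.Agent.L.isSolvable_of_normal_of_quotient V hV.isSolvable (feit_thompson _
      (Nat.not_even_iff_odd.1 fun e => hV.odd (even_iff_two_dvd.1 e)))) hs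
  · obtain ⟨t, ht, t1, -⟩ := hV.exists_ne 1
    obtain ⟨s, hs, s1, st⟩ := hV.exists_ne t
    obtain ⟨A, hA⟩ := h t ht s hs t1 s1 st.symm
    exact ⟨L, A, t, s, hL, hA⟩

end Cfsg.Agent.P5
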