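import Cfsg.Agent.P5.B3
import Cfsg.Agent.P5.Final0

/-! The Klein four case of the Gorenstein-Walter theorem. -/

set_option autoImplicit false

namespace Cfsg.Agent.P5

universe u

theorem bBot : BBot.{u} := fun _ _ _ _ _ _ _ _ h8 hI h tri co => B_bot h8 hI h tri co

theorem ind_all (n : ℕ) : Ind.{u} n := bBot.ind n

variable {G : Type u} [Group G] [Finite G]

theorem gw4 [IsSimpleGroup G] (hna : ¬ IsMulCommutative G) (h8 : ¬ 8 ∣ Nat.card G) :
    ∃ (K : Subgroup G) (t s : G), P3.BSW K t s := bBot.gw4 hna h8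

theorem isL2_of_simple [IsSimpleGroup G] (hna : ¬ IsMulCommutative G) (h8 : ¬ 8 ∣ Nat.card G) :
    IsL2 G := bBot.isL2 hna h8

end Cfsg.Agent.P5
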