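import Cfsg.Agent.P5.Max0
import Cfsg.Agent.S3752
import Cfsg.Agent.S3753

/-!
Bender's lemmas on maximal subgroups of a simple group with Klein four Sylow `2`-subgroups.
-/

set_option autoImplicit false
set_option linter.unusedSectionVars false

namespace Cfsg.Agent.P5

open Cfsg Subgroup H2
open scoped commutatorElement Pointwise

local notation:max "𝐂[" t "]" => Subgroup.centralizer (Singleton.singleton t : Set _)
local notation:max "𝐂(" X ")" => Subgroup.centralizer (SetLike.coe X)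
local notation:max "𝐍(" X ")" => Subgroup.normalizer (SetLike.coe X)
local notation:max "𝐎(" X ")" => H2.pPrimeCoreOf 2 X

universe u

variable {G : Type u} [Group G]

namespace Mx

theorem le_cent_of_le {A A' B B' : Subgroup G} (hA : A ≤ A') (hB : B ≤ B') (h1 : A ≤ 𝐍(B'))
    (h2 : B ≤ 𝐍(A')) (hc : (Nat.card A').Coprime (Nat.card B')) : A ≤ 𝐂(B) := by
  rw [← commutator_eq_bot_iff_le_centralizer, eq_bot_iff, ← H1.inf_eq_bot_of_coprime' hc]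
  exact le_inf ((commutator_mono hA le_rfl).trans (H1.commutator_le_of_le_normalizer h2))
    ((commutator_mono le_rfl hB).trans
      (by rw [commutator_comm]; exact H1.commutator_le_of_le_normalizer h1))

theorem comm_le_cent_of_inverts {A Q : Subgroup G} {t : G} (htt : t * t = 1) (htA : t ∈ 𝐍(A))
    (hinv : ∀ a ∈ A, t * a * t = a⁻¹) (hQ : Q ≤ 𝐍(A)) : ⁅Q, zpowers t⁆ ≤ 𝐂(A) := by
  have hti : t⁻¹ = t := inv_eq_of_mul_eq_one_right htt
  refine H1.commutator_zpowers_le (H1.normalizer_le_normalizer_centralizer A htA) fun q hq => ?_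
  refine mem_centralizer_iff.2 fun a ha => (commute_of_conj_eq ?_).symm.eq
  have h1 := hinv a ha
  have h2 := hinv _ (H1.conj_mem_of_le_normalizer' hQ hq (inv_mem ha))
  calc ⁅q, t⁆ * a * ⁅q, t⁆⁻¹ = q * t * q⁻¹ * (t⁻¹ * a * t) * q * t⁻¹ * q⁻¹ := by
        rw [commutatorElement_def]; group
    _ = q * (t * (q⁻¹ * a⁻¹ * q) * t) * q⁻¹ := by rw [hti, h1]; group
    _ = a := by rw [h2]; group

theorem mem_norm_of_comm_eq {Q : Subgroup G} {t : G} (h : ⁅Q, zpowers t⁆ = Q) : t ∈ 𝐍(Q) := by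
  have : zpowers t ≤ 𝐍(⁅Q, zpowers t⁆) := H1.le_normalizer_commutator_self
  rw [h] at this
  exact this (mem_zpowers t)

variable [Finite G]

theorem le_cent_of_comm_eq {r : ℕ} (hr : r.Prime) {R Q : Subgroup G} {t : G} (htt : t * t = 1)
    (hR : IsPGroup r R) (hRo : Odd (Nat.card R)) (hQR : Q ≤ 𝐍(R)) (htR : t ∈ 𝐍(R))
    (hQ : (Nat.card Q).Coprime r) (hQt : ⁅Q, zpowers t⁆ = Q) (h : R ⊓ 𝐂[t] ≤ 𝐂(Q)) :
    Q ≤ 𝐂(R) := by
  haveI := Fact.mk hr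
  by_contra hcon
  have hnt : ⁅R, Q⁆ ≠ ⊥ := fun e => hcon (H1.commutator_eq_bot_iff_le_centralizer'.1 e)
  obtain ⟨P, hPR, hBP, hnt', hmin⟩ := H1.exists_minimal_nontrivial (B := Q ⊔ zpowers t)
    (sup_le hQR (zpowers_le.2 htR)) hnt
  have hP : IsPGroup r P := hR.to_le hPR
  have hBQ : Q ⊔ zpowers t ≤ 𝐍(Q) := sup_le le_normalizer (zpowers_le.2 (mem_norm_of_comm_eq hQt))
  have e1 := H1.minimal_commutator_eq hP hBP le_sup_left hBQ hQ hnt' hmin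
  have e2 := H1.minimal_centralizer_le hP hBP le_sup_left hBQ hQ hnt' hmin
  have htP : t ∈ 𝐍(P) := hBP (mem_sup_right (mem_zpowers t))
  have hQP : Q ≤ 𝐍(P) := le_sup_left.trans hBP
  haveI := H1.normal_subgroupOf_of_le (H1.le_normalizer_commutator (le_refl 𝐍(P)) (le_refl 𝐍(P)))
  have h1 := H1.bar_inf_centralizer_bar (Y := 𝐍(P)) (N := ⁅P, P⁆) (zpowers_le.2 htP)
    le_normalizer (zpowers_le.2 htP) (coprime_zpowers htt (odd_of_le hPR hRo))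
    (Or.inr (H1.isSolvable_of_isPGroup hP))
  have h2 : H1.bar 𝐍(P) ⁅P, P⁆ (P ⊓ 𝐂(zpowers t)) = ⊥ := by
    rw [H1.bar_eq_bot_iff (inf_le_left.trans le_normalizer), cent_zpowers]
    exact (le_inf inf_le_left ((inf_le_inf_right _ hPR).trans h)).trans e2
  have h3 := H1.bar_zpowers (N := ⁅P, P⁆) (⟨t, htP⟩ : 𝐍(P))
  simp only at h3
  rw [h2, h3, cent_zpowers] at h1
  obtain ⟨w, hw⟩ : ∃ w, w = H1.qmk 𝐍(P) ⁅P, P⁆ ⟨t, htP⟩ := ⟨_, rfl⟩
  rw [← hw] at h1 h3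
  have hww : w * w = 1 := by
    rw [hw, ← map_mul, show (⟨t, htP⟩ : 𝐍(P)) * ⟨t, htP⟩ = 1 from Subtype.ext htt, map_one]
  have hwn : w ∈ 𝐍(H1.bar 𝐍(P) ⁅P, P⁆ P) := by
    haveI := H1.bar_normal (Y := 𝐍(P)) (N := ⁅P, P⁆) (H := P) le_rfl
    exact (normalizer_eq_top _).ge (mem_top w)
  have h4 := L.inverts_of_fpf hww hwn fun a ha hc =>
    mem_bot.1 (h1 ▸ mem_inf.2 ⟨ha, mem_cent1.2 hc.symm⟩)
  have h5 := comm_le_cent_of_inverts hww hwn h4 (H1.bar_le_normalizer hQP)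
  rw [← h3, ← H1.bar_commutator hQP (zpowers_le.2 htP), hQt,
    H1.bar_le_centralizer_iff hQP le_normalizer, commutator_comm, e1] at h5
  have hP1 : P ≠ ⊥ := fun e => hnt' (by rw [e, commutator_bot_left])
  exact (H1.commutator_lt_of_isSolvable (H1.isSolvable_of_isPGroup hP) hP1).not_ge h5

theorem le_cent_fittingOf {W Y : Subgroup G}
    (h : ∀ r : ℕ, r.Prime → W ≤ 𝐂(pCoreOf r Y)) : W ≤ 𝐂(fittingOf Y) := by
  rw [le_centralizer_iff, fittingOf_eq_iSup_pCoreOf]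
  exact iSup_le fun r => le_centralizer_iff.1 (h r r.2)

theorem fittingOf_le_of {W Y : Subgroup G} (h : ∀ r : ℕ, r.Prime → pCoreOf r Y ≤ W) :
    fittingOf Y ≤ W := by
  rw [fittingOf_eq_iSup_pCoreOf]
  exact iSup_le fun r => h r r.2

theorem eq_bot_of_odd {p : ℕ} (hp : p.Prime) {Y Q : Subgroup G} {t : G} (htt : t * t = 1)
    (hY : Odd (Nat.card Y)) (htY : t ∈ 𝐍(Y)) (hQY : Q ≤ Y) (hQ : IsPGroup p Q)
    (hQt : ⁅Q, zpowers t⁆ = Q) (hn : Y ⊓ 𝐂[t] ≤ 𝐍(Q)) (h0 : pCoreOf p Y = ⊥) : Q = ⊥ := by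
  haveI := isSolvable_of_odd hY
  have h1 : Q ≤ 𝐂(fittingOf Y) := by
    refine le_cent_fittingOf fun r hr => ?_
    by_cases e : r = p
    · rw [e, h0, coe_bot]
      exact fun q _ => mem_cent1.2 (Commute.one_right q)
    have hQR : Q ≤ 𝐍(pCoreOf r Y) := hQY.trans (le_normalizer_pCoreOf r Y)
    have hc := coprime_of_primes hr hp e (isPGroup_pCoreOf r Y) hQ
    haveI := Fact.mk hp
    refine le_cent_of_comm_eq hr htt (isPGroup_pCoreOf r Y) (odd_of_le (pCoreOf_le r Y) hY) hQR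
      (normalizer_le_normalizer_pCoreOf r Y htY) ?_ hQt ?_
    · exact (H1.coprime_card_of_isPGroup hQ ((Nat.coprime_primes hr hp).2 e)).symm
    · exact le_cent_of_le inf_le_left le_rfl ((inf_le_inf_right _ (pCoreOf_le r Y)).trans hn) hQR hc
  exact eq_bot_iff.2 (h0 ▸ le_pCoreOf_of_le_fittingOf hQ
    ((le_inf hQY h1).trans inf_centralizer_fittingOf_le))

/-- Bender's lemma: a `p`-subgroup `Q = [Q, t]` of an odd order group `Y` normalized by `C_Y(t)`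
lies in `O_p(Y)`. -/
theorem le_pCoreOf_of_odd {p : ℕ} (hp : p.Prime) {Y Q : Subgroup G} {t : G} (htt : t * t = 1)
    (hY : Odd (Nat.card Y)) (htY : t ∈ 𝐍(Y)) (hQY : Q ≤ Y) (hQ : IsPGroup p Q)
    (hQt : ⁅Q, zpowers t⁆ = Q) (hn : Y ⊓ 𝐂[t] ≤ 𝐍(Q)) : Q ≤ pCoreOf p Y := by
  haveI := H1.normal_subgroupOf_of_le (normalizer_le_normalizer_pCoreOf p Y)
  have h3 := H1.bar_zpowers (N := pCoreOf p Y) (⟨t, htY⟩ : 𝐍(Y))
  simp only at h3
  have h1 := H1.bar_inf_centralizer_bar (Y := 𝐍(Y)) (N := pCoreOf p Y) (zpowers_le.2 htY)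
    le_normalizer (zpowers_le.2 htY) (coprime_zpowers htt hY) (Or.inr (isSolvable_of_odd hY))
  rw [h3, cent_zpowers, cent_zpowers] at h1
  obtain ⟨w, hw⟩ : ∃ w, w = H1.qmk 𝐍(Y) (pCoreOf p Y) ⟨t, htY⟩ := ⟨_, rfl⟩
  rw [← hw] at h1 h3
  have hww : w * w = 1 := by
    rw [hw, ← map_mul, show (⟨t, htY⟩ : 𝐍(Y)) * ⟨t, htY⟩ = 1 from Subtype.ext htt, map_one]
  have hwn : w ∈ 𝐍(H1.bar 𝐍(Y) (pCoreOf p Y) Y) := by
    haveI := H1.bar_normal (Y := 𝐍(Y)) (N := pCoreOf p Y) (H := Y) le_rfl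
    exact (normalizer_eq_top _).ge (mem_top w)
  have hQN : Q ≤ 𝐍(Y) := hQY.trans le_normalizer
  rw [← H1.bar_eq_bot_iff hQN]
  refine eq_bot_of_odd hp hww (hY.of_dvd_nat (H1.card_bar_dvd Y)) hwn (H1.bar_mono hQY)
    (H1.isPGroup_bar hQ) ?_ ?_ ?_
  · rw [← h3, ← H1.bar_commutator hQN (zpowers_le.2 htY), hQt]
  · rw [h1]
    exact H1.bar_le_normalizer hn
  · rw [FT.pCoreOf_bar hp (pCoreOf_le p Y) le_normalizer (isPGroup_pCoreOf p Y), H1.bar_self]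

/-- The center of the Fitting subgroup. -/
def ZF (M : Subgroup G) : Subgroup G := fittingOf M ⊓ 𝐂(fittingOf M)

/-- The Sylow `r`-subgroup of the center of the Fitting subgroup. -/
def Zr (r : ℕ) (M : Subgroup G) : Subgroup G := pCoreOf r M ⊓ 𝐂(fittingOf M)

theorem ZF_le (M : Subgroup G) : ZF M ≤ M := inf_le_left.trans (fittingOf_le M)

theorem norm_le_norm_ZF (M : Subgroup G) : 𝐍(M) ≤ 𝐍(ZF M) :=
  H1.le_normalizer_inf (normalizer_le_normalizer_fittingOf M)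
    (H1.le_normalizer_centralizer (normalizer_le_normalizer_fittingOf M))

theorem le_norm_ZF (M : Subgroup G) : M ≤ 𝐍(ZF M) := le_normalizer.trans (norm_le_norm_ZF M)

theorem ZF_le_cent {M Y : Subgroup G} (h : Y ≤ fittingOf M) : ZF M ≤ 𝐂(Y) :=
  inf_le_right.trans (centralizer_anti h)

theorem conj_smul_ZF (g : G) (M : Subgroup G) :
    MulAut.conj g • ZF M = ZF (MulAut.conj g • M) := by
  rw [ZF, ZF, smul_inf, ← centralizer_conj_smul, conj_smul_fittingOf]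

theorem Zr_le_ZF {r : ℕ} (hr : r.Prime) (M : Subgroup G) : Zr r M ≤ ZF M :=
  inf_le_inf_right _ (pCoreOf_le_fittingOf hr M)

theorem Zr_le (r : ℕ) (M : Subgroup G) : Zr r M ≤ M := inf_le_left.trans (pCoreOf_le r M)

theorem isPGroup_Zr (r : ℕ) (M : Subgroup G) : IsPGroup r (Zr r M) :=
  (isPGroup_pCoreOf r M).to_le inf_le_left

theorem le_norm_Zr (r : ℕ) (M : Subgroup G) : M ≤ 𝐍(Zr r M) :=
  H1.le_normalizer_inf (le_normalizer_pCoreOf r M)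
    (H1.le_normalizer_centralizer (le_normalizer_fittingOf M))

theorem Zr_ne_bot {r : ℕ} (hr : r.Prime) {M : Subgroup G} (h : pCoreOf r M ≠ ⊥) : Zr r M ≠ ⊥ :=
  L.inf_centralizer_ne_bot_of_isNilpotent (pCoreOf_le_fittingOf hr M)
    ((fittingOf_le M).trans (le_normalizer_pCoreOf r M)) h

theorem pCoreOf_le_cent {p q : ℕ} (hp : p.Prime) (hq : q.Prime) (h : p ≠ q) (M : Subgroup G) :
    pCoreOf p M ≤ 𝐂(pCoreOf q M) :=
  (pCoreOf_le_pPrimeCoreOf hp hq h M).trans (pPrimeCoreOf_le_centralizer_pCoreOf hq M)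

/-- The Fitting subgroup of `M` is not of prime power order. -/
def Two (M : Subgroup G) : Prop := ∀ r : ℕ, r.Prime → ∃ q : ℕ, q.Prime ∧ q ≠ r ∧ pCoreOf q M ≠ ⊥

variable [IsSimpleGroup G]

theorem norm_ne_top {X : Subgroup G} (h1 : X ≠ ⊥) (h2 : X ≠ ⊤) : 𝐍(X) ≠ ⊤ := fun e =>
  (IsSimpleGroup.eq_bot_or_eq_top_of_normal X (normal_of_top_le_normalizer e.ge)).elim h1 h2

theorem norm_eq {M X : Subgroup G} (hM : IsCoatom M) (h1 : X ≠ ⊥) (h2 : X ≤ M)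
    (h3 : M ≤ 𝐍(X)) : 𝐍(X) = M :=
  ((hM.le_iff.1 h3).resolve_left
    (norm_ne_top h1 fun e => hM.1 (top_le_iff.1 (e ▸ h2))))

theorem exists_coatom_norm {M X : Subgroup G} (hM : M ≠ ⊤) (h1 : X ≠ ⊥) (h2 : X ≤ M) :
    ∃ R, IsCoatom R ∧ 𝐍(X) ≤ R :=
  exists_coatom_ge (norm_ne_top h1 fun e => hM (top_le_iff.1 (e ▸ h2)))

theorem mem_of_conj_smul_eq {M : Subgroup G} (hM : IsCoatom M) (h1 : M ≠ ⊥) {g : G}
    (h : MulAut.conj g • M = M) : g ∈ M :=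
  norm_eq hM h1 le_rfl le_normalizer ▸ mem_normalizer_iff_conj_smul.2 h

/-- The `P × Q` argument. -/
theorem pCoreOf_le_of_two {r q : ℕ} (hr : r.Prime) (hq : q.Prime) (hne : q ≠ r)
    {M R A B : Subgroup G} (hM : IsCoatom M) (hA : IsPGroup r A) (hA1 : A ≠ ⊥) (hAM : A ≤ M)
    (hMA : M ≤ 𝐍(A)) (hAR : A ≤ R) (hB : IsPGroup q B) (hB1 : B ≠ ⊥) (hBM : B ≤ M)
    (hMB : M ≤ 𝐍(B)) (hBR : B ≤ R) : pCoreOf r R ≤ M := by
  haveI := Fact.mk hr
  have hBn := hBR.trans (le_normalizer_pCoreOf r R)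
  have hc := coprime_of_primes hq hr hne hB (isPGroup_pCoreOf r R)
  have h1 := H1.pxq_lemma hA (isPGroup_pCoreOf r R) (hAR.trans (le_normalizer_pCoreOf r R)) hBn
    (le_cent_of_coprime (hAM.trans hMB) (hBM.trans hMA) (coprime_of_primes hr hq hne.symm hA hB))
    hc (le_cent_of_le inf_le_left le_rfl ((inf_le_right.trans ((centralizer_le_normalizer _).trans
      (norm_eq hM hA1 hAM hMA).le)).trans hMB) hBn hc.symm)
  exact (le_centralizer_iff.1 h1).trans ((centralizer_le_normalizer _).trans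
    (norm_eq hM hB1 hBM hMB).le)

theorem Two.pCoreOf_le {M R : Subgroup G} (h2 : Two M) (hM : IsCoatom M) (hZ : ZF M ≤ R) {r : ℕ}
    (hr : r.Prime) (h : pCoreOf r M ≠ ⊥) : pCoreOf r R ≤ M := by
  obtain ⟨q, hq, hne, hq1⟩ := h2 r hr
  exact pCoreOf_le_of_two hr hq hne hM (isPGroup_Zr r M) (Zr_ne_bot hr h) (Zr_le r M)
    (le_norm_Zr r M) ((Zr_le_ZF hr M).trans hZ) (isPGroup_Zr q M) (Zr_ne_bot hq hq1) (Zr_le q M)
    (le_norm_Zr q M) ((Zr_le_ZF hq M).trans hZ)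

end Mx

open Mx

namespace K4

variable [Finite G] [IsSimpleGroup G] {V : Subgroup G} (hV : K4 V)
include hV

/-- Bender's theorem on pairs of maximal subgroups. -/
theorem eq_of_fstar {M₁ M₂ : Subgroup G} (h₁ : IsCoatom M₁) (h₂ : IsCoatom M₂)
    (k₁ : fstarOf M₁ ≤ M₂) (k₂ : fstarOf M₂ ≤ M₁) : M₁ = M₂ := by
  by_contra hne
  have hP : ∀ A : Subgroup G, A ≠ ⊥ → A ≤ M₁ ⊓ M₂ →
      (M₁ ≤ 𝐍(A) → M₂ ⊓ 𝐍(A) = M₁ ⊓ M₂) ∧ (M₂ ≤ 𝐍(A) → M₁ ⊓ 𝐍(A) = M₁ ⊓ M₂) :=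
    fun A a b => ⟨fun c => by rw [norm_eq h₁ a (b.trans inf_le_left) c, inf_comm],
      fun c => by rw [norm_eq h₂ a (b.trans inf_le_right) c]⟩
  obtain ⟨p, hp, c1, c2, c3⟩ := S3752.result M₁ M₂ hne hP k₁ k₂
  haveI := Fact.mk hp
  have key : ∀ (M : Subgroup G) (S : Sylow 2 M), IsMulCommutative (S : Subgroup M) := by
    intro M S
    have := hV.comm_two _ (S.isPGroup'.map M.subtype)
    refine ⟨⟨fun a b => Subtype.ext (Subtype.ext ?_)⟩⟩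
    exact le_centralizer_of_comm this (mem_map_of_mem M.subtype b.2) _
      (mem_map_of_mem M.subtype a.2)
  rcases S3753.result M₁ M₂ hne hP c1 c2 c3 with ⟨S, hS⟩ | ⟨S, hS⟩
  · exact hS (key _ S)
  · exact hS (key _ S)

theorem eq_of_fitting {M₁ M₂ : Subgroup G} (h₁ : IsCoatom M₁) (h₂ : IsCoatom M₂)
    (e₁ : layerOf M₁ = ⊥) (e₂ : layerOf M₂ = ⊥) (k₁ : fittingOf M₁ ≤ M₂)
    (k₂ : fittingOf M₂ ≤ M₁) : M₁ = M₂ :=
  hV.eq_of_fstar h₁ h₂ (by rwa [fstarOf_eq, e₁, bot_sup_eq]) (by rwa [fstarOf_eq, e₂, bot_sup_eq])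

theorem eq_of_two {M R : Subgroup G} (hM : IsCoatom M) (hR : IsCoatom R) (eM : layerOf M = ⊥)
    (eR : layerOf R = ⊥) (h2 : Two M) (hF : fittingOf R ≤ M) (hZ : ZF M ≤ R) : R = M := by
  have key : ∀ r : ℕ, r.Prime → pCoreOf r M ≠ ⊥ → pCoreOf r R ≠ ⊥ := by
    intro r hr h1 h0
    haveI := Fact.mk hr
    have hZR : Zr r M ≤ R := (Zr_le_ZF hr M).trans hZ
    have a1 := fittingOf_le_sup hr R
    rw [h0, bot_sup_eq] at a1
    have a2 : Zr r M ≤ 𝐂(fittingOf R) := le_cent_of_le le_rfl a1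
      (hZR.trans (le_normalizer_pPrimeCoreOf r R)) (hF.trans (le_norm_Zr r M))
      (H1.coprime_card_of_isPGroup (isPGroup_Zr r M) (coprime_card_pPrimeCoreOf r R)).symm
    exact Zr_ne_bot hr h1 (eq_bot_iff.2 (h0 ▸ le_pCoreOf_of_le_fittingOf (isPGroup_Zr r M)
      ((le_inf hZR a2).trans (inf_centralizer_fittingOf_le_of_layerOf_eq_bot eR))))
  refine hV.eq_of_fitting hR hM eR eM hF (fittingOf_le_of fun r hr => ?_)
  by_cases h0 : pCoreOf r M = ⊥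
  · exact h0 ▸ bot_le
  obtain ⟨q, hq, hne, hq1⟩ := h2 r hr
  exact pCoreOf_le_of_two hr hq hne hR (isPGroup_pCoreOf r R) (key r hr h0) (pCoreOf_le r R)
    (le_normalizer_pCoreOf r R) ((pCoreOf_le_fittingOf hr R).trans hF) (isPGroup_pCoreOf q R)
    (key q hq hq1) (pCoreOf_le q R) (le_normalizer_pCoreOf q R)
    ((pCoreOf_le_fittingOf hq R).trans hF)

theorem cent1_ne_top {t : G} (ht : t ∈ V) (ht1 : t ≠ 1) : 𝐂[t] ≠ ⊤ := fun e => by
  refine norm_ne_top (X := zpowers t) (fun h => ht1 (zpowers_eq_bot.1 h)) (fun h => hV.ne_top ?_)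
    (top_le_iff.1 (e ▸ cent1_le_norm_zpowers t))
  exact top_le_iff.1 (h ▸ zpowers_le.2 ht)

end K4

/-- The full form of the fact `D1`. -/
theorem KFact.le_pCoreOf [Finite G] {V X : Subgroup G} (hV : K4 V) (h : KFact V X) (hX : V ≤ X)
    {t : G} (ht : t ∈ V) (ht1 : t ≠ 1) {p : ℕ} (hp : p.Prime) (hp2 : p ≠ 2) {Q : Subgroup G}
    (hQX : Q ≤ X) (hQ : IsPGroup p Q) (hQt : ⁅Q, zpowers t⁆ = Q) (hn : X ⊓ 𝐂[t] ≤ 𝐍(Q)) :
    Q ≤ pCoreOf p X :=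
  (le_pCoreOf_of_odd hp (hV.sq t ht) (odd_O X) (le_normalizer_pPrimeCoreOf 2 X (hX ht))
    (h.d1 t ht ht1 p hp hp2 Q hQX hQ hQt hn) hQ hQt
    ((inf_le_inf_right _ (pPrimeCoreOf_le 2 X)).trans hn)).trans
    (((snIn_pCoreOf p _).trans (snIn_pPrimeCoreOf 2 X)).le_pCoreOf (isPGroup_pCoreOf p _))

end Cfsg.Agent.P5
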