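import Cfsg.Agent.P5.Defs
import Cfsg.Agent.P5.Max1

/-!
The interface lemmas `J0`, `J1`, `J2` of plan P5.
-/

set_option autoImplicit false
set_option linter.unusedSectionVars false

namespace Cfsg.Agent.P5

open Subgroup Cfsg Cfsg.Agent Cfsg.Agent.FT
open Cfsg.Agent.H2 (pPrimeCoreOf fstarOf layerOf)
open scoped commutatorElement Pointwise

universe u

variable {G : Type u} [Group G]

namespace V4

variable {t s : G} (h : V4 t s)
include h

theorem ts1 : t * s ≠ 1 := fun e => h.ts (by rw [eq_inv_of_mul_eq_one_left e, inv_eq_of_sq h.ss])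

theorem ts_ne_t : t * s ≠ t := fun e => h.s1 (by simpa using e)

theorem ts_ne_s : t * s ≠ s := fun e => h.t1 (by simpa using e)

theorem tsts : t * s * (t * s) = 1 := by
  rw [mul_assoc, ← mul_assoc s, ← h.comm.eq, mul_assoc t s s, h.ss, mul_one, h.tt]

theorem mem_iff {v : G} : v ∈ closure ({t, s} : Set G) ↔ v = 1 ∨ v = t ∨ v = s ∨ v = t * s := by
  have e1 : t * (t * s) = s := by rw [← mul_assoc, h.tt, one_mul]
  have e2 : s * t = t * s := h.comm.eq.symm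
  have e3 : s * (t * s) = t := by rw [← e2, ← mul_assoc, h.ss, one_mul]
  constructor
  · intro hv
    induction hv using closure_induction_left with
    | one => exact Or.inl rfl
    | mul_left x hx y _ ih =>
      rcases hx with rfl | rfl <;> rcases ih with rfl | rfl | rfl | rfl <;>
        simp [h.tt, h.ss, e1, e2, e3]
    | inv_mul_cancel x hx y _ ih =>
      rcases hx with rfl | rfl <;> rcases ih with rfl | rfl | rfl | rfl <;>
        simp [inv_eq_of_sq h.tt, inv_eq_of_sq h.ss, h.tt, h.ss, e1, e2, e3]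
  · have ht : t ∈ closure ({t, s} : Set G) := subset_closure (by simp)
    have hs : s ∈ closure ({t, s} : Set G) := subset_closure (by simp)
    rintro (rfl | rfl | rfl | rfl)
    exacts [one_mem _, ht, hs, mul_mem ht hs]

omit h in
theorem t_mem : t ∈ closure ({t, s} : Set G) := subset_closure (by simp)

omit h in
theorem s_mem : s ∈ closure ({t, s} : Set G) := subset_closure (by simp)

omit h in
theorem le_iff {X : Subgroup G} : closure ({t, s} : Set G) ≤ X ↔ t ∈ X ∧ s ∈ X := by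
  rw [closure_le, Set.insert_subset_iff, Set.singleton_subset_iff]; rfl

theorem sq {v : G} (hv : v ∈ closure ({t, s} : Set G)) : v * v = 1 := by
  rcases h.mem_iff.1 hv with rfl | rfl | rfl | rfl
  exacts [mul_one 1, h.tt, h.ss, h.tsts]

theorem card : Nat.card (closure ({t, s} : Set G)) = 4 := by
  classical
  have e : ((closure ({t, s} : Set G) : Subgroup G) : Set G) = ({1, t, s, t * s} : Finset G) := by
    ext v
    simp [h.mem_iff]
  change Nat.card ((closure ({t, s} : Set G) : Subgroup G) : Set G) = 4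
  rw [e, Nat.card_coe_set_eq, Set.ncard_coe_finset,
    Finset.card_insert_of_notMem (by simp [h.t1.symm, h.s1.symm, h.ts1.symm]),
    Finset.card_insert_of_notMem (by simp [h.ts, h.s1]),
    Finset.card_insert_of_notMem (by simp [h.t1]), Finset.card_singleton]

theorem isPGroup : IsPGroup 2 (closure ({t, s} : Set G)) :=
  IsPGroup.of_card (n := 2) (by rw [h.card]; rfl)

theorem not_dvd_relIndex {X : Subgroup G} (h8 : ¬ 8 ∣ 𝐨(X)) (tX : t ∈ X) (sX : s ∈ X) :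
    ¬ 2 ∣ (closure ({t, s} : Set G)).relIndex X := fun hd => h8 (by
  rw [← H1.card_mul_relIndex (le_iff.2 ⟨tX, sX⟩), h.card]
  exact Nat.mul_dvd_mul_left 4 hd)

theorem k4 (h8 : ¬ 8 ∣ Nat.card G) : K4 (closure ({t, s} : Set G)) where
  card := h.card
  sq _ hv := h.sq hv
  odd := by
    rw [← relIndex_top_right]
    exact h.not_dvd_relIndex (by rwa [card_top]) (mem_top t) (mem_top s)

theorem swap : V4 s t := ⟨h.s1, h.t1, h.ts.symm, h.ss, h.tt, h.comm.symm⟩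

theorem rot : V4 s (t * s) :=
  ⟨h.s1, h.ts1, h.ts_ne_s.symm, h.ss, h.tsts, h.comm.symm.mul_right (Commute.refl s)⟩

theorem map {H : Type u} [Group H] (f : G →* H) (h1 : f t ≠ 1) (h2 : f s ≠ 1)
    (h3 : f (t * s) ≠ 1) : V4 (f t) (f s) :=
  ⟨h1, h2, fun e => h3 (by rw [map_mul, e, ← map_mul, h.ss, map_one]),
    by rw [← map_mul, h.tt, map_one], by rw [← map_mul, h.ss, map_one], h.comm.map f⟩

theorem subtype {X : Subgroup G} (tX : t ∈ X) (sX : s ∈ X) : V4 (⟨t, tX⟩ : X) ⟨s, sX⟩ :=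
  ⟨fun e => h.t1 (congrArg Subtype.val e), fun e => h.s1 (congrArg Subtype.val e),
    fun e => h.ts (congrArg Subtype.val e), Subtype.ext h.tt, Subtype.ext h.ss,
    Subtype.ext h.comm.eq⟩

end V4

theorem K4.v4 {V : Subgroup G} (hV : K4 V) {t s : G} (ht : t ∈ V) (hs : s ∈ V) (ht1 : t ≠ 1)
    (hs1 : s ≠ 1) (hts : t ≠ s) : V4 t s :=
  ⟨ht1, hs1, hts, hV.sq t ht, hV.sq s hs, hV.comm ht hs⟩

theorem K4.eq_closure {V : Subgroup G} (hV : K4 V) {t s : G} (ht : t ∈ V) (hs : s ∈ V)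
    (ht1 : t ≠ 1) (hs1 : s ≠ 1) (hts : t ≠ s) : V = closure ({t, s} : Set G) :=
  le_antisymm (hV.le_of_mem ht hs ht1 hs1 hts V4.t_mem V4.s_mem) (V4.le_iff.2 ⟨ht, hs⟩)

theorem Tri.rot {x t s : G} (hx : Tri x t s) (h : V4 t s) : Tri x s (t * s) :=
  ⟨hx.2, by rw [hx.third h, h.comm.eq, ← mul_assoc, h.ss, one_mul]⟩

theorem Tri.map {H : Type u} [Group H] (f : G →* H) {x t s : G} (hx : Tri x t s) :
    Tri (f x) (f t) (f s) :=
  ⟨by rw [← map_inv, ← map_mul, ← map_mul, hx.1],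
    by rw [← map_inv, ← map_mul, ← map_mul, hx.2, map_mul]⟩

theorem Tri.not_commute {x t s : G} (hx : Tri x t s) (h : V4 t s) : ¬ Commute x t := fun e =>
  h.ts (by rw [← hx.1, e.eq, mul_inv_cancel_right])

theorem Tri.exists_conj {x t s : G} (hx : Tri x t s) (h : V4 t s) {v : G}
    (hv : v ∈ closure ({t, s} : Set G)) (hv1 : v ≠ 1) : ∃ g ∈ zpowers x, g * t * g⁻¹ = v := by
  rcases h.mem_iff.1 hv with rfl | rfl | rfl | rfl
  · exact absurd rfl hv1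
  · exact ⟨1, one_mem _, by simp⟩
  · exact ⟨x, mem_zpowers x, hx.1⟩
  · refine ⟨x * x, mul_mem (mem_zpowers x) (mem_zpowers x), ?_⟩
    rw [← hx.2, ← hx.1]; group

variable [Finite G]

theorem Tri.mem_norm {x t s : G} (hx : Tri x t s) (h : V4 t s) :
    x ∈ 𝐍(closure ({t, s} : Set G)) := by
  refine H2.mem_normalizer_of_conj_smul_le fun v hv => ?_
  obtain ⟨w, hw, rfl⟩ := hv
  change x * w * x⁻¹ ∈ _
  rcases h.mem_iff.1 hw with rfl | rfl | rfl | rfl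
  · simp
  · exact hx.1 ▸ V4.s_mem
  · exact hx.2 ▸ mul_mem V4.t_mem V4.s_mem
  · exact (hx.third h).symm ▸ V4.t_mem

theorem Tri.not_mem_cent {x t s : G} (hx : Tri x t s) (h : V4 t s) :
    x ∉ 𝐂(closure ({t, s} : Set G)) := fun e =>
  hx.not_commute h (mem_centralizer_iff.1 e t V4.t_mem).symm

theorem K4.exists_tri {V : Subgroup G} (hV : K4 V) {x : G} (hx : x ∈ 𝐍(V)) (hxc : x ∉ 𝐂(V))
    {t s : G} (ht : t ∈ V) (hs : s ∈ V) (ht1 : t ≠ 1) (hs1 : s ≠ 1) (hts : t ≠ s) :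
    ∃ g ∈ zpowers x, Tri g t s := by
  obtain ⟨g, hg, e⟩ := hV.exists_conj_of_not_cent hx hxc ht ht1 hs hs1
  have hgN := zpowers_le.2 hx hg
  refine ⟨g, hg, e, ?_⟩
  rcases hV.mem_cases ht hs ht1 hs1 hts (hV.conj_mem hgN hs) with f | f | f | f
  · exact absurd (by simpa using f) hs1
  · have h1 : g * (t * s) * g⁻¹ = t * s := by rw [← conj_mul, e, f, (hV.comm hs ht).eq]
    have h2 := hV.mem_cent_of_commute hgN (mul_mem ht hs) (hV.mul_ne_one hs hts)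
      (Mx.commute_of_conj_eq h1)
    exact absurd (by rw [← e, ← mem_centralizer_iff.1 h2 t ht, mul_inv_cancel_right]) hts
  · exact absurd (mul_left_cancel (mul_right_cancel (e.trans f.symm))) hts
  · exact f

/-- Involutions of `X` are conjugate to `t` when `V` is a Sylow subgroup of `X`. -/
theorem V4.conj_of_tri {X : Subgroup G} {t s x : G} (hV : V4 t s) (h8 : ¬ 8 ∣ 𝐨(X)) (tX : t ∈ X)
    (sX : s ∈ X) (xX : x ∈ X) (tri : Tri x t s) {j : G} (hj : j ∈ X) (j1 : j ≠ 1)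
    (jj : j * j = 1) : ∃ g ∈ X, g * t * g⁻¹ = j := by
  obtain ⟨k, hk, hle⟩ := H1.exists_conj_le_sylow hV.isPGroup (hV.not_dvd_relIndex h8 tX sX)
    (zpowers_le.2 hj) (H2.isPGroup_zpowers_of_pow_eq_one (k := 1) (by rw [pow_one, pow_two, jj]))
  obtain ⟨g, hg, e⟩ := tri.exists_conj hV (H1.map_conj_le_iff.1 hle j (mem_zpowers j))
    (fun e => j1 (by simpa using e))
  refine ⟨k⁻¹ * g, mul_mem (inv_mem hk) (zpowers_le.2 xX hg), ?_⟩
  calc k⁻¹ * g * t * (k⁻¹ * g)⁻¹ = k⁻¹ * (g * t * g⁻¹) * k := by group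
    _ = j := by rw [e]; group

theorem V4.cover_of_le_sup {U C : Subgroup G} {t s : G} (hV : V4 t s) (tU : U ≤ 𝐂[t])
    (sU : s ∈ 𝐍(U)) (h : C ≤ U ⊔ closure ({t, s} : Set G)) {g : G} (hg : g ∈ C) :
    g ∈ U ∨ g * t ∈ U ∨ s * g ∈ U ∨ s * g * t ∈ U := by
  have hn : closure ({t, s} : Set G) ≤ 𝐍(U) := V4.le_iff.2
    ⟨centralizer_le_normalizer _ (Mx.zpowers_le_cent_iff.2 tU (mem_zpowers t)), sU⟩
  obtain ⟨o, ho, v, hv, rfl⟩ := (H1.mem_sup_iff_of_le_normalizer' hn).1 ((sup_comm U _).le (h hg))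
  have hs : s * o * s ∈ U := by
    have := (mem_normalizer_iff.1 sU o).1 ho
    rwa [inv_eq_of_sq hV.ss] at this
  rcases hV.mem_iff.1 hv with rfl | rfl | rfl | rfl
  · exact Or.inl (by simpa using ho)
  · exact Or.inr (Or.inl (by rwa [mul_assoc, hV.tt, mul_one]))
  · exact Or.inr (Or.inr (Or.inl (by rwa [← mul_assoc])))
  · refine Or.inr (Or.inr (Or.inr ?_))
    rwa [hV.comm.eq, ← mul_assoc, ← mul_assoc, mul_assoc _ t t, hV.tt, mul_one]

theorem hyp_of_tri {X : Subgroup G} {t s x : G} (h8 : ¬ 8 ∣ Nat.card G) (hV : V4 t s)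
    (tX : t ∈ X) (sX : s ∈ X) (xX : x ∈ X) (tri : Tri x t s) :
    Hyp X (pPrimeCoreOf 2 (X ⊓ 𝐂[t])) t s := by
  have k := hV.k4 h8
  have hC : closure ({t, s} : Set G) ≤ X ⊓ 𝐂[t] :=
    le_inf (V4.le_iff.2 ⟨tX, sX⟩) (k.le_cent1 V4.t_mem)
  have hU := H2.pPrimeCoreOf_le 2 (X ⊓ 𝐂[t])
  have hs := H2.le_normalizer_pPrimeCoreOf 2 _ (hC V4.s_mem)
  exact ⟨tX, sX, hV.t1, hV.s1, hV.ts, hV.tt, hV.ss, hV.comm, hU.trans inf_le_left,
    hU.trans inf_le_right, Mx.odd_O _, hs, fun g hg => hV.cover_of_le_sup (hU.trans inf_le_right) hs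
      (k.le_sup hC ((inf_le_inf_right _ inf_le_right).trans (k.cent1_inf_norm V4.t_mem hV.t1))) hg,
    fun j hj => hV.conj_of_tri (fun hd => h8 (hd.trans (card_subgroup_dvd_card X))) tX sX xX tri hj⟩

/-- A nonsolvable group of order not divisible by `8` has Klein four Sylow `2`-subgroups. -/
theorem exists_k4 (hns : ¬ Group.IsSolvable G) (h8 : ¬ 8 ∣ Nat.card G) :
    ∃ V : Subgroup G, K4 V := by
  obtain ⟨P⟩ : Nonempty (Sylow 2 G) := inferInstance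
  have hP : ¬ IsCyclic P := by
    intro hc
    have h2 : (Nat.card G).minFac = 2 := (Nat.minFac_eq_two_iff _).2 (even_iff_two_dvd.1
      (Nat.not_odd_iff_even.1 fun ho => hns (feit_thompson G ho)))
    have h3 := Mx.isSolvable_of_le_sup le_top P.isPGroup' (Mx.le_sup_of_burnside le_top P.isPGroup'
      (by rw [relIndex_top_right]; exact P.not_dvd_index)
      (inf_le_right.trans (IsCyclic.normalizer_le_centralizer h2 hc)))
    exact hns (Group.isSolvable_of_surjective (f := (⊤ : Subgroup G).subtype) fun g => ⟨⟨g, trivial⟩, rfl⟩)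
  obtain ⟨k, hk⟩ := IsPGroup.iff_card.1 P.isPGroup'
  have hk3 : k < 3 := by
    by_contra h
    exact h8 ((pow_dvd_pow 2 (not_lt.1 h)).trans (hk ▸ card_subgroup_dvd_card _))
  have hk2 : k = 2 := by
    by_contra h
    refine hP (isCyclic_of_card_dvd_prime (p := 2) ?_)
    rw [hk]
    interval_cases k <;> simp_all
  subst hk2
  refine ⟨P, hk, fun v hv => ?_, P.not_dvd_index⟩
  by_contra hne
  have h1 : orderOf (⟨v, hv⟩ : (P : Subgroup G)) ∣ 2 ^ 2 := hk ▸ orderOf_dvd_natCard _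
  obtain ⟨i, hi, e⟩ := (Nat.dvd_prime_pow Nat.prime_two).1 h1
  rcases hi.lt_or_eq with hi | rfl
  · have : orderOf (⟨v, hv⟩ : (P : Subgroup G)) ∣ 2 := by
      rw [e]; interval_cases i <;> simp
    exact hne (by simpa [sq] using congrArg Subtype.val (orderOf_dvd_iff_pow_eq_one.1 this))
  · exact hP (isCyclic_of_orderOf_eq_card _ (e.trans hk.symm))

theorem exists_tri [IsSimpleGroup G] (hna : ¬ IsMulCommutative G) (h8 : ¬ 8 ∣ Nat.card G) :
    ∃ t s x : G, V4 t s ∧ Tri x t s := by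
  obtain ⟨V, hV⟩ := exists_k4 (fun h => hna ⟨⟨IsSimpleGroup.comm_iff_isSolvable.2 h⟩⟩) h8
  obtain ⟨t, ht, ht1, -⟩ := hV.exists_ne 1
  obtain ⟨s, hs, hs1, hst⟩ := hV.exists_ne t
  obtain ⟨x, hx, hxc⟩ := hV.exists_not_cent
  obtain ⟨g, -, hg⟩ := hV.exists_tri hx hxc ht hs ht1 hs1 hst.symm
  exact ⟨t, s, g, hV.v4 ht hs ht1 hs1 hst.symm, hg⟩

theorem Hyp.eq_core {X U : Subgroup G} {t s : G} (h : Hyp X U t s) :
    U = pPrimeCoreOf 2 (X ⊓ 𝐂[t]) := by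
  refine H1.eq_of_le_of_card_le (Mx.le_O_of_snIn (H2.SnIn.of_normal h.UH h.HU) h.odd)
    (Nat.le_of_dvd Nat.card_pos ?_)
  have h1 := Subgroup.card_dvd_of_le (H2.pPrimeCoreOf_le 2 (X ⊓ 𝐂[t]))
  rw [h.card_H] at h1
  exact ((H2.coprime_card_pPrimeCoreOf 2 _).pow_right 2).dvd_of_dvd_mul_left h1

theorem Hyp.le_of_odd {X U W : Subgroup G} {t s : G} (h : Hyp X U t s) (hW : W ≤ X ⊓ 𝐂[t])
    (ho : Odd 𝐨(W)) : W ≤ U := by
  have h1 : U.relIndex W ∣ 𝐨(W) := relIndex_dvd_card _ _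
  have h2 : U.relIndex (X ⊓ 𝐂[t]) = 2 ^ 2 := by
    have := H1.card_mul_relIndex h.UH
    rw [h.card_H, mul_comm] at this
    exact Nat.eq_of_mul_eq_mul_right Nat.card_pos this
  have h3 : U.relIndex W ∣ 2 ^ 2 := by
    rw [← H1.relIndex_sup_of_le_normalizer (hW.trans h.HU), ← h2,
      ← relIndex_mul_relIndex U (W ⊔ U) (X ⊓ 𝐂[t]) le_sup_right (sup_le hW h.UH)]
    exact dvd_mul_right _ _
  exact relIndex_eq_one.1 (Nat.eq_one_of_dvd_coprimes
    ((Nat.coprime_two_right.2 ho).pow_right 2) h1 h3)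

/-- Under `Hyp` the order of `X` is not divisible by `8`. -/
theorem Hyp.not_eight_dvd {X U : Subgroup G} {t s : G} (h : Hyp X U t s) : ¬ 8 ∣ 𝐨(X) := by
  intro h8
  obtain ⟨P, a1, a2, a3⟩ := H1.exists_sylow_le 2 X
  have hP : 8 ∣ 𝐨(P) := by
    rw [← H1.card_mul_relIndex a1] at h8
    exact ((Nat.coprime_two_left.2 (Nat.odd_iff.2 (Nat.two_dvd_ne_zero.1 a3))).pow_left
      3).dvd_of_dvd_mul_right h8
  obtain ⟨Q, b1, b2, b3⟩ := H2.inf_centralizer_ne_bot_of_isPGroup a2 le_normalizer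
    ((by norm_num : 2 ∣ 8).trans hP)
  obtain ⟨k, hk⟩ := IsPGroup.iff_card.1 b3
  have : 2 ∣ 𝐨(Q) := hk ▸ dvd_pow_self 2 fun e => b2 (card_eq_one.1 (by rw [hk, e, pow_zero]))
  obtain ⟨z, hz⟩ := exists_prime_orderOf_dvd_card' 2 this
  have hz2 : (z : G) * z = 1 := by
    rw [← sq, ← hz]; exact congrArg Subtype.val (pow_orderOf_eq_one z)
  have hz1 : (z : G) ≠ 1 := fun e => by
    rw [show z = 1 from Subtype.ext e, orderOf_one] at hz; omega
  obtain ⟨g, hg, e⟩ := h.conj z (a1 (b1 z.2).1) hz1 hz2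
  have h1 : MulAut.conj g⁻¹ • P ≤ X ⊓ 𝐂[t] := by
    refine le_inf (H2.conj_smul_le_of_mem a1 (inv_mem hg)) fun y hy => ?_
    have := mem_centralizer_iff.1 (b1 z.2).2 _ (H2.mem_conj_smul.1 hy)
    rw [← e, inv_inv] at this
    exact Mx.mem_cent1.2 (by
      show y * t = t * y
      calc y * t = g⁻¹ * (g * y * g⁻¹ * (g * t * g⁻¹)) * g := by group
        _ = t * y := by rw [this]; group)
  have h2 := Subgroup.card_dvd_of_le h1
  rw [H2.card_conj_smul, h.card_H] at h2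
  obtain ⟨m, hm⟩ := h.odd
  have := hP.trans h2
  omega

theorem normal_compl_or_tri {X : Subgroup G} {t s : G} (h8 : ¬ 8 ∣ Nat.card G) (hV : V4 t s)
    (tX : t ∈ X) (sX : s ∈ X) :
    (∀ g ∈ X, g ∈ pPrimeCoreOf 2 X ⊔ closure ({t, s} : Set G)) ∨ ∃ x ∈ X, Tri x t s := by
  have k := hV.k4 h8
  by_cases h : X ⊓ 𝐍(closure ({t, s} : Set G)) ≤ 𝐂(closure ({t, s} : Set G))
  · exact Or.inl (k.le_sup (V4.le_iff.2 ⟨tX, sX⟩) h)
  · obtain ⟨x, hx, hxc⟩ := SetLike.not_le_iff_exists.1 h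
    obtain ⟨g, hg, e⟩ := k.exists_tri hx.2 hxc V4.t_mem V4.s_mem hV.t1 hV.s1 hV.ts
    exact Or.inr ⟨g, zpowers_le.2 hx.1 hg, e⟩

theorem le_pCoreOf_of_comm {U Q : Subgroup G} {τ : G} {q : ℕ} (hU : Odd 𝐨(U)) (hτ : τ * τ = 1)
    (hn : τ ∈ 𝐍(U)) (hQU : Q ≤ U) (hQ : IsPGroup q Q) (hq : q.Prime) (hc : ⁅Q, zpowers τ⁆ = Q)
    (hN : U ⊓ 𝐂[τ] ≤ 𝐍(Q)) : Q ≤ pCoreOf q U :=
  Mx.le_pCoreOf_of_odd hq hτ hU hn hQU hQ hc hN

theorem comm_of_not_eight_dvd (h8 : ¬ 8 ∣ Nat.card G) (T : Subgroup G) (hT : IsPGroup 2 T) :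
    IsMulCommutative T := by
  obtain ⟨k, hk⟩ := IsPGroup.iff_card.1 hT
  have hk3 : k < 3 := by
    by_contra h
    exact h8 ((pow_dvd_pow 2 (not_lt.1 h)).trans (hk ▸ card_subgroup_dvd_card _))
  by_cases h : k = 2
  · exact IsPGroup.isMulCommutative_of_card_eq_prime_sq (h ▸ hk)
  · refine (isCyclic_of_card_dvd_prime (p := 2) ?_).isMulCommutative
    rw [hk]
    interval_cases k <;> simp_all

theorem bt [IsSimpleGroup G] (h8 : ¬ 8 ∣ Nat.card G) {M₁ M₂ : Subgroup G} (h₁ : IsCoatom M₁)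
    (h₂ : IsCoatom M₂) (k₁ : fstarOf M₁ ≤ M₂) (k₂ : fstarOf M₂ ≤ M₁) : M₁ = M₂ := by
  by_contra hne
  have hP : ∀ A : Subgroup G, A ≠ ⊥ → A ≤ M₁ ⊓ M₂ →
      (M₁ ≤ 𝐍(A) → M₂ ⊓ 𝐍(A) = M₁ ⊓ M₂) ∧ (M₂ ≤ 𝐍(A) → M₁ ⊓ 𝐍(A) = M₁ ⊓ M₂) :=
    fun A a b => ⟨fun c => by rw [Mx.norm_eq h₁ a (b.trans inf_le_left) c, inf_comm],
      fun c => by rw [Mx.norm_eq h₂ a (b.trans inf_le_right) c]⟩
  obtain ⟨p, hp, c1, c2, c3⟩ := S3752.result M₁ M₂ hne hP k₁ k₂
  haveI := Fact.mk hp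
  have key : ∀ (M : Subgroup G) (S : Sylow 2 M), IsMulCommutative (S : Subgroup M) := fun M S =>
    comm_of_not_eight_dvd (fun hd => h8 (hd.trans (card_subgroup_dvd_card M))) _ S.isPGroup'
  rcases S3753.result M₁ M₂ hne hP c1 c2 c3 with ⟨S, hS⟩ | ⟨S, hS⟩
  · exact hS (key _ S)
  · exact hS (key _ S)

theorem bender_ii [IsSimpleGroup G] {A R : Subgroup G} {p q : ℕ} (hA : IsCoatom A)
    (hZ : fittingOf A ⊓ 𝐂(fittingOf A) ≤ R) (hp : p.Prime) (hq : q.Prime) (hpq : p ≠ q)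
    (h1 : pCoreOf p A ≠ ⊥) (h2 : pCoreOf q A ≠ ⊥) : pCoreOf p R ≤ A :=
  Mx.pCoreOf_le_of_two hp hq hpq.symm hA (Mx.isPGroup_Zr p A) (Mx.Zr_ne_bot hp h1) (Mx.Zr_le p A)
    (Mx.le_norm_Zr p A) ((Mx.Zr_le_ZF hp A).trans hZ) (Mx.isPGroup_Zr q A) (Mx.Zr_ne_bot hq h2)
    (Mx.Zr_le q A) (Mx.le_norm_Zr q A) ((Mx.Zr_le_ZF hq A).trans hZ)

theorem bender_i {A R Y : Subgroup G} {q : ℕ} (hA : A ⊓ 𝐂(fittingOf A) ≤ fittingOf A)
    (hY : Y ≤ fittingOf A) (hR : Y ⊔ fittingOf A ⊓ 𝐂(Y) ≤ R) (hq : q.Prime)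
    (h0 : pCoreOf q A = ⊥) : pCoreOf q R ⊓ A = ⊥ := by
  haveI := Fact.mk hq
  have hQ : IsPGroup q (pCoreOf q R ⊓ A : Subgroup G) :=
    (H2.isPGroup_pCoreOf q R).to_le inf_le_left
  have hF := H2.fittingOf_le_sup hq A
  rw [h0, bot_sup_eq] at hF
  have hc : (𝐨(fittingOf A)).Coprime q :=
    (H2.coprime_card_pPrimeCoreOf q A).coprime_dvd_left (Subgroup.card_dvd_of_le hF)
  have hH : Y ⊔ fittingOf A ⊓ 𝐂(Y) ≤ fittingOf A := sup_le hY inf_le_left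
  have hn : pCoreOf q R ⊓ A ≤ 𝐍(fittingOf A) := inf_le_right.trans (H2.le_normalizer_fittingOf A)
  have h1 : Y ⊔ fittingOf A ⊓ 𝐂(Y) ≤ 𝐂(pCoreOf q R ⊓ A) :=
    Mx.le_cent_of_le hH inf_le_left (hR.trans (H2.le_normalizer_pCoreOf q R)) hn
      (H1.coprime_card_of_isPGroup (H2.isPGroup_pCoreOf q R) hc)
  have h2 := H1.le_centralizer_of_centralizer_le inferInstance hn
    (H1.coprime_card_of_isPGroup hQ hc).symm hH h1
    (((inf_le_inf_left _ (H2.centralizer_anti le_sup_left)).trans le_sup_right).trans h1)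
  exact eq_bot_iff.2 (h0 ▸ H2.le_pCoreOf_of_le_fittingOf hQ ((le_inf inf_le_right h2).trans hA))

end Cfsg.Agent.P5
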