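import Cfsg.Agent.P5.Hyp
import Cfsg.Agent.P3.Final
import Cfsg.Agent.H2.Components

/-! Definitions shared by the parts of the Klein four case. -/

set_option autoImplicit false

namespace Cfsg.Agent.P5

open Subgroup Cfsg Cfsg.Agent Cfsg.Agent.FT

universe u

/-- The theorem holds for the simple groups of order less than `n`. -/
def Ind (n : ℕ) : Prop :=
  ∀ (K : Type u) [Group K] [Finite K], Nat.card K < n → IsSimpleGroup K → ¬ IsMulCommutative K →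
    ¬ 8 ∣ Nat.card K → ∃ (A : Subgroup K) (t s : K), P3.BSW A t s

variable {G : Type u} [Group G]

/-- `{1, t, s, t s}` is a Klein four group. -/
structure V4 (t s : G) : Prop where
  t1 : t ≠ 1
  s1 : s ≠ 1
  ts : t ≠ s
  tt : t * t = 1
  ss : s * s = 1
  comm : Commute t s

/-- `x` permutes the three involutions cyclically. -/
def Tri (x t s : G) : Prop := x * t * x⁻¹ = s ∧ x * s * x⁻¹ = t * s

/-- `L` is simple with `C_L(t) = A ⋊ ⟨t, s⟩` dihedral, of the order of `PSL₂(q)`. -/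
structure LT (L A : Subgroup G) (t s : G) : Prop where
  hyp : Hyp L A t s
  inv : ∀ a ∈ A, s * a * s⁻¹ = a⁻¹
  cyc : IsCyclic A
  cent : ∀ a ∈ A, a ≠ 1 → ∀ g ∈ L, Commute a g → g ∈ A ∨ g * t ∈ A
  perf : ⁅L, L⁆ = L
  simple : ∀ N : Subgroup G, N ⊲ L → N = ⊥ ∨ N = L
  tri : ∃ x ∈ L, Tri x t s
  ord : ∃ q : ℕ, IsPrimePow q ∧ (q = 4 * 𝐨(A) + 1 ∨ q + 1 = 4 * 𝐨(A)) ∧
    2 * 𝐨(L) = q * (q ^ 2 - 1)

theorem Hyp.v4 {X U : Subgroup G} {t s : G} (h : Hyp X U t s) : V4 t s :=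
  ⟨h.t1, h.s1, h.ts, h.tt, h.ss, h.comm⟩

theorem Tri.third {x t s : G} (hx : Tri x t s) (h : V4 t s) : x * (t * s) * x⁻¹ = t := by
  rw [← conj_mul, hx.1, hx.2, h.comm.eq, ← mul_assoc, h.ss, one_mul]

end Cfsg.Agent.P5
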