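import Cfsg.Agent.P5.Loc
import Cfsg.Agent.H3.CyclicNormal
import Cfsg.Agent.P4.PSL2

/-!
The interface lemma `J4` of plan P5: `p`-groups acting on a subgroup of type `LT`.
-/

set_option autoImplicit false
set_option linter.unusedSectionVars false

namespace Cfsg.Agent.P5

open Subgroup Cfsg Cfsg.Agent Cfsg.Agent.FT
open Cfsg.Agent.H2 (pPrimeCoreOf fstarOf layerOf)
open scoped commutatorElement Pointwise

universe u

variable {G : Type u} [Group G]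

theorem Mx.card_eq_of_dvd {p k k₀ q q₀ l l₀ : ℕ} (hp : p.Prime) (hp2 : p ≠ 2) (h0 : p ∣ k₀)
    (hk0 : 0 < k₀) (hk : k = k₀ ∨ k = p * k₀) (hq₀ : IsPrimePow q₀)
    (e₀ : q₀ = 4 * k₀ + 1 ∨ q₀ + 1 = 4 * k₀) (e : q = 4 * k + 1 ∨ q + 1 = 4 * k)
    (o₀ : 2 * l₀ = q₀ * (q₀ ^ 2 - 1)) (o : 2 * l = q * (q ^ 2 - 1)) (hl : 0 < l) (hd : l₀ ∣ l) :
    l₀ = l := by
  have hp3 : 3 ≤ p := by have := hp.two_le; omega
  have hpk := Nat.le_of_dvd hk0 h0
  have hd' : q₀ ∣ q * (q ^ 2 - 1) := by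
    rw [← o]
    exact (Dvd.intro _ o₀.symm).trans (Nat.mul_dvd_mul_left 2 hd)
  have small : ∀ z : ℤ, (q₀ : ℤ) ∣ z → z ≠ 0 → |z| < q₀ → False := fun z a b c =>
    b (Int.eq_zero_of_abs_lt_dvd a c)
  rcases hk with rfl | rfl
  · by_cases hq : q₀ = q
    · rw [hq, ← o] at o₀; omega
    exfalso
    rcases e₀ with e₀ | e₀
    · have h1 : q < q₀ := by omega
      have h2 : q * (q ^ 2 - 1) < q₀ * (q₀ ^ 2 - 1) := by
        refine Nat.mul_lt_mul_of_lt_of_le h1 (Nat.sub_le_sub_right (Nat.pow_le_pow_left h1.le 2) 1)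
          ?_
        have : 1 < q₀ ^ 2 := Nat.one_lt_pow two_ne_zero (by omega)
        omega
      have := Nat.le_of_dvd hl hd
      omega
    · have h1 : q = q₀ + 2 := by omega
      subst h1
      have h2 : (q₀ + 2) * ((q₀ + 2) ^ 2 - 1) = q₀ * (q₀ ^ 2 + 6 * q₀ + 11) + 6 := by
        rw [show (q₀ + 2) ^ 2 - 1 = q₀ ^ 2 + 4 * q₀ + 3 from Nat.sub_eq_of_eq_add (by ring)]
        ring
      rw [h2, Nat.dvd_add_right (dvd_mul_right _ _)] at hd'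
      have := Nat.le_of_dvd (by norm_num) hd'
      omega
  · exfalso
    have hk1 : 0 < p * k₀ := Nat.mul_pos hp.pos hk0
    obtain ⟨w, hw, hw'⟩ : ∃ w, q ^ 2 - 1 = 8 * (p * k₀) * w ∧
        ((q = 4 * (p * k₀) + 1 ∧ 2 * w = q + 1) ∨ (q + 1 = 4 * (p * k₀) ∧ 2 * w + 1 = q)) := by
      rcases e with e | e
      · exact ⟨2 * (p * k₀) + 1, Nat.sub_eq_of_eq_add (by rw [e]; ring), Or.inl ⟨e, by omega⟩⟩
      · obtain ⟨w, hw⟩ : ∃ w, w + 1 = 2 * (p * k₀) := ⟨2 * (p * k₀) - 1, by omega⟩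
        refine ⟨w, Nat.sub_eq_of_eq_add ?_, Or.inr ⟨e, by omega⟩⟩
        rw [show q = 2 * w + 1 by omega, show 8 * (p * k₀) = 4 * (w + 1) by omega]
        ring
    have c1 : q₀.Coprime (4 * k₀) := by
      rcases e₀ with e₀ | e₀
      · rw [e₀]; simp
      · rw [← e₀]; simp
    have c2 : q₀.Coprime (8 * (p * k₀)) := by
      have a1 : q₀.Coprime k₀ := c1.coprime_dvd_right (dvd_mul_left _ _)
      have a2 : q₀.Coprime 2 := c1.coprime_dvd_right (Dvd.dvd.mul_right (by norm_num) _)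
      exact (a2.pow_right 3).mul_right ((a1.coprime_dvd_right h0).mul_right a1)
    have c3 : q.Coprime w := by
      refine Nat.Coprime.coprime_dvd_right (dvd_mul_left w 2) ?_
      rcases hw' with ⟨-, f⟩ | ⟨-, f⟩
      · rw [f]; simp
      · rw [← f]; simp
    rw [hw, mul_left_comm] at hd'
    have h1 := (c3.isPrimePow_dvd_mul hq₀).1 (c2.dvd_of_dvd_mul_left hd')
    have h2 : (q₀ : ℤ) ∣ q ∨ (q₀ : ℤ) ∣ (2 * w : ℕ) := h1.imp Int.natCast_dvd_natCast.2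
      fun h => Int.natCast_dvd_natCast.2 (h.mul_left 2)
    have h3 : (q₀ : ℤ) ∣ (p * q₀ : ℕ) := Int.natCast_dvd_natCast.2 (dvd_mul_left _ _)
    have h4 : p * q₀ = 4 * (p * k₀) + p ∨ p * q₀ + p = 4 * (p * k₀) := by
      rcases e₀ with e₀ | e₀
      · left; rw [e₀]; ring
      · right; rw [← mul_add_one, e₀]; ring
    generalize p * q₀ = a at h3 h4
    generalize p * k₀ = b at h4 hw'
    rcases h2 with h2 | h2
    · refine small _ (dvd_sub h3 h2) (by omega) (abs_lt.2 ⟨by omega, by omega⟩)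
    · refine small _ (dvd_sub h3 h2) (by omega) (abs_lt.2 ⟨by omega, by omega⟩)

theorem Mx.exists_zpowers_eq {A : Subgroup G} (h : IsCyclic A) : ∃ a : G, zpowers a = A := by
  obtain ⟨a, ha⟩ := IsCyclic.exists_generator (α := A)
  refine ⟨a, le_antisymm (zpowers_le.2 a.2) fun y hy => ?_⟩
  obtain ⟨n, hn⟩ := mem_zpowers_iff.1 (ha ⟨y, hy⟩)
  exact mem_zpowers_iff.2 ⟨n, by simpa using congrArg Subtype.val hn⟩

variable [Finite G]

/-- An element acting with order dividing the odd prime `p` on a cyclic group and centralizing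
its `p`-complement centralizes a subgroup of index at most `p` and order divisible by `p`. -/
theorem Mx.card_cyc_fix {p : ℕ} (hp : p.Prime) (hp2 : p ≠ 2) {A : Subgroup G} (hA : IsCyclic A)
    (hd : p ∣ 𝐨(A)) {b : G} (hb : b ∈ 𝐍(A)) (hbp : b ^ p ∈ 𝐂(A))
    (hc : b ∈ 𝐂(pPrimeCoreOf p A)) :
    p ∣ 𝐨((A ⊓ 𝐂[b] : Subgroup G)) ∧
      (𝐨(A) = 𝐨((A ⊓ 𝐂[b] : Subgroup G)) ∨ 𝐨(A) = p * 𝐨((A ⊓ 𝐂[b] : Subgroup G))) := by
  haveI := Fact.mk hp
  have hcomm := H2.le_centralizer_of_comm hA.isMulCommutative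
  obtain ⟨a, rfl⟩ := Mx.exists_zpowers_eq hA
  rw [Nat.card_zpowers] at hd ⊢
  obtain ⟨m, hm⟩ := mem_zpowers_iff.1 ((mem_normalizer_iff.1 hb a).1 (mem_zpowers a))
  have hn0 : orderOf a ≠ 0 := (orderOf_pos a).ne'
  obtain ⟨e, n, hn, he⟩ := Nat.exists_eq_pow_mul_and_not_dvd hn0 p hp.ne_one
  obtain ⟨e, rfl⟩ : ∃ e', e = e' + 1 := Nat.exists_eq_succ_of_ne_zero (by
    rintro rfl
    rw [he, pow_zero, one_mul] at hd
    exact hn hd)
  have fix : ∀ j : ℕ, (orderOf (a ^ j) : ℤ) ∣ m - 1 ↔ a ^ j ∈ 𝐂[b] := fun j => by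
    rw [← H3.zpow_eq_self_iff_dvd, mem_cent1_comm, mem_cent1_iff_conj, ← conj_pow, ← hm, ← zpow_natCast,
      ← zpow_natCast, ← zpow_mul, ← zpow_mul, mul_comm]
  have h1 : (orderOf a : ℤ) ∣ m ^ p - 1 := by
    rw [← H3.zpow_eq_self_iff_dvd, ← H3.pow_conj_of_conj hm.symm,
      ← mem_centralizer_iff.1 hbp a (mem_zpowers a), mul_inv_cancel_right]
  have h2 : (p : ℤ) ∣ m - 1 := by
    have := (Int.natCast_dvd_natCast.2 hd).trans h1
    rw [← ZMod.intCast_zmod_eq_zero_iff_dvd] at this ⊢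
    push_cast at this ⊢
    rwa [ZMod.pow_card] at this
  have h3 : (p : ℤ) ^ e ∣ m - 1 := H3.pow_dvd_sub_one_of_pow_prime hp h2 (fun h => absurd h hp2)
    (Dvd.dvd.trans (by rw [he]; push_cast; exact dvd_mul_right _ _) h1)
  have o1 : orderOf (a ^ p ^ (e + 1)) = n := by
    rw [orderOf_pow_of_dvd (pow_pos hp.pos _).ne' (he ▸ dvd_mul_right _ _), he,
      Nat.mul_div_cancel_left _ (pow_pos hp.pos _)]
  have h4 : (n : ℤ) ∣ m - 1 := by
    rw [← o1, fix]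
    have hle : zpowers (a ^ p ^ (e + 1)) ≤ zpowers a := zpowers_le.2 (pow_mem (mem_zpowers a) _)
    have := (H2.SnIn.of_normal hle (hcomm.trans ((H2.centralizer_anti hle).trans
      (centralizer_le_normalizer _)))).le_pPrimeCoreOf (p := p)
      (by rw [Nat.card_zpowers, o1]; exact ((Nat.Prime.coprime_iff_not_dvd hp).2 hn).symm)
    exact Mx.mem_cent1.2 (mem_centralizer_iff.1 hc _ (this (mem_zpowers _)))
  have o2 : orderOf (a ^ p) = p ^ e * n := by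
    rw [orderOf_pow_of_dvd hp.ne_zero hd, he, pow_succ', mul_assoc,
      Nat.mul_div_cancel_left _ hp.pos]
  have o3 : orderOf (a ^ (orderOf a / p)) = p := orderOf_pow_orderOf_div hn0 hd
  have m2 : a ^ p ∈ zpowers a ⊓ 𝐂[b] := mem_inf.2 ⟨pow_mem (mem_zpowers a) _, (fix p).1 (by
    rw [o2]; push_cast
    exact IsCoprime.mul_dvd (Nat.isCoprime_iff_coprime.2
      ((Nat.Prime.coprime_iff_not_dvd hp).2 hn)).pow_left h3 h4)⟩
  have m3 : a ^ (orderOf a / p) ∈ zpowers a ⊓ 𝐂[b] :=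
    mem_inf.2 ⟨pow_mem (mem_zpowers a) _, (fix _).1 (by rw [o3]; exact h2)⟩
  refine ⟨o3 ▸ orderOf_dvd_card_of_mem m3, ?_⟩
  obtain ⟨j, hj⟩ := o2 ▸ orderOf_dvd_card_of_mem m2
  have h5 := Subgroup.card_dvd_of_le (inf_le_left : zpowers a ⊓ 𝐂[b] ≤ _)
  rw [Nat.card_zpowers, hj, he, pow_succ, mul_right_comm _ p] at h5
  have hpos : 0 < p ^ e * n := o2 ▸ orderOf_pos _
  rcases (Nat.dvd_prime hp).1 ((Nat.mul_dvd_mul_iff_left hpos).1 h5) with rfl | rfl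
  · right; rw [hj, he]; ring
  · left; rw [hj, he]; ring

omit [Finite G] in
theorem Hyp.mem_sup_iff {L A : Subgroup G} {t s : G} (h : Hyp L A t s) {g : G} :
    g ∈ A ⊔ zpowers t ↔ g ∈ A ∨ g * t ∈ A := by
  constructor
  · intro hg
    obtain ⟨a, ha, z, hz, rfl⟩ := (H1.mem_sup_iff_of_le_normalizer' (zpowers_le.2 h.tU)).1
      ((sup_comm A _).le hg)
    obtain ⟨n, rfl⟩ := mem_zpowers_iff.1 hz
    have h2 : t ^ (2 : ℤ) = 1 := by rw [zpow_two, h.tt]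
    rcases Int.even_or_odd' n with ⟨k, rfl | rfl⟩
    · left; rwa [zpow_mul, h2, one_zpow, mul_one]
    · right; rwa [zpow_add, zpow_mul, h2, one_zpow, one_mul, zpow_one, mul_assoc, h.tt, mul_one]
  · rintro (hg | hg)
    · exact mem_sup_left hg
    · exact (mul_mem_cancel_right (mem_sup_right (mem_zpowers t))).1 (mem_sup_left hg)

theorem Hyp.card_sup {L A : Subgroup G} {t s : G} (h : Hyp L A t s) :
    𝐨((A ⊔ zpowers t : Subgroup G)) = 2 * 𝐨(A) := by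
  rw [sup_comm, H1.card_sup_of_coprime (zpowers_le.2 h.tU) (Mx.coprime_zpowers h.tt h.odd),
    Nat.card_zpowers, orderOf_eq_prime (by rw [pow_two, h.tt]) h.t1]

theorem Hyp.bsw {L A : Subgroup G} {t s : G} (h : Hyp L A t s)
    (inv : ∀ a ∈ A, s * a * s⁻¹ = a⁻¹)
    (cent : ∀ a ∈ A, a ≠ 1 → ∀ g ∈ L, Commute a g → g ∈ A ∨ g * t ∈ A) :
    P3.BSW ((A ⊔ zpowers t).subgroupOf L) (⟨t, h.tX⟩ : L) ⟨s, h.sX⟩ := by
  have hsi := inv_eq_of_sq h.ss
  have hti := inv_eq_of_sq h.tt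
  have inv' : ∀ g ∈ A ⊔ zpowers t, s * g * s = g⁻¹ := fun g hg => by
    rcases h.mem_sup_iff.1 hg with e | e
    · have := inv g e
      rwa [hsi] at this
    · have h1 := inv _ e
      have h2 := (h.cU e).eq
      rw [hsi, mul_inv_rev, hti] at h1
      have h3 : t * g⁻¹ = g⁻¹ * t := by
        have : t * g = g * t := by
          calc t * g = t * (g * t) * t := by rw [mul_assoc, mul_assoc, h.tt, mul_one]
            _ = g * t := by rw [h2, mul_assoc, h.tt, mul_one]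
        exact (Commute.inv_right this).eq
      refine mul_right_cancel (b := t) ?_
      rw [← h3, ← h1, mul_assoc, ← h.comm.eq]; group
  refine ⟨⟨⟨fun a b => Subtype.ext (Subtype.ext (Cfsg.Agent.L.commute_of_inverts h.ss inv' a.2 b.2))⟩⟩,
    mem_sup_right (mem_zpowers t), fun e => h.t1 (congrArg Subtype.val e), Subtype.ext h.tt,
    fun x hx e => ?_, fun hs => ?_, Subtype.ext h.ss, fun x hx => Subtype.ext (inv' x hx),
    fun g hg => ?_, fun x hx e g hg => ?_, fun u h1 h2 => ?_⟩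
  · have e' : (x : G) * x = 1 := congrArg Subtype.val e
    rcases h.mem_sup_iff.1 (mem_subgroupOf.1 hx) with f | f
    · exact Or.inl (Subtype.ext (eq_one_of_odd h.odd f e'))
    · refine Or.inr (Subtype.ext ?_)
      have c : Commute t (x : G) :=
        mem_cent1_iff_commute.1 (sup_le h.Ut (zpowers_le.2 (self_mem_cent1 t)) hx)
      have := eq_one_of_odd h.odd f (by
        rw [mul_assoc, ← mul_assoc t, c.eq, mul_assoc (x : G) t t, h.tt, mul_one, e'])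
      rw [eq_inv_of_mul_eq_one_left this, hti]
  · exact (h.mem_sup_iff.1 hs).elim h.s_notMem h.st_notMem
  · rcases h.cover g ⟨g.2, mem_cent1_iff_commute.2 (congrArg Subtype.val hg.eq)⟩ with f | f | f | f
    · exact Or.inl (h.mem_sup_iff.2 (Or.inl f))
    · exact Or.inl (h.mem_sup_iff.2 (Or.inr f))
    · exact Or.inr (h.mem_sup_iff.2 (Or.inl f))
    · exact Or.inr (h.mem_sup_iff.2 (Or.inr f))
  · have c : Commute (x : G) g := congrArg Subtype.val hg.eq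
    refine h.mem_sup_iff.2 (cent (x * x) ?_ (fun f => e (Subtype.ext f)) g g.2 (c.mul_left c))
    rcases h.mem_sup_iff.1 (mem_subgroupOf.1 hx) with f | f
    · exact mul_mem f f
    · have c' : Commute t (x : G) :=
        mem_cent1_iff_commute.1 (sup_le h.Ut (zpowers_le.2 (self_mem_cent1 t)) hx)
      have := mul_mem f f
      rwa [mul_assoc, ← mul_assoc t, c'.eq, mul_assoc (x : G) t t, h.tt, mul_one] at this
  · obtain ⟨g, hg, e⟩ := h.conj u u.2 (fun f => h1 (Subtype.ext f)) (congrArg Subtype.val h2)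
    exact isConj_iff.2 ⟨⟨g, hg⟩, Subtype.ext e⟩

theorem bsw_ord {K : Subgroup G} {t s : G} (h : P3.BSW K t s) {k : ℕ} (hk : 𝐨(K) = 2 * k) :
    ∃ q : ℕ, IsPrimePow q ∧ (q = 4 * k + 1 ∨ q + 1 = 4 * k) ∧
      2 * Nat.card G = q * (q ^ 2 - 1) := by
  classical
  obtain ⟨F, _, _, h1, ⟨e⟩⟩ := h.exists_psl2
  refine ⟨Fintype.card F, FiniteField.isPrimePow_card F, by omega, ?_⟩
  have ho : Odd (Nat.card F) := by
    rw [Nat.card_eq_fintype_card, Nat.odd_iff]; omega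
  rw [Nat.card_congr e.toEquiv, P3.two_mul_card_PSL2 ho, Nat.card_eq_fintype_card, mul_assoc,
    mul_comm (_ - 1), ← Nat.pow_two_sub_pow_two, one_pow]

theorem Hyp.ord {L A : Subgroup G} {t s : G} (h : Hyp L A t s)
    (inv : ∀ a ∈ A, s * a * s⁻¹ = a⁻¹)
    (cent : ∀ a ∈ A, a ≠ 1 → ∀ g ∈ L, Commute a g → g ∈ A ∨ g * t ∈ A) :
    ∃ q : ℕ, IsPrimePow q ∧ (q = 4 * 𝐨(A) + 1 ∨ q + 1 = 4 * 𝐨(A)) ∧
      2 * 𝐨(L) = q * (q ^ 2 - 1) :=
  bsw_ord (h.bsw inv cent) (by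
    rw [H2.card_subgroupOf_of_le (sup_le h.UX (zpowers_le.2 h.tX)), h.card_sup])

theorem Hyp.inf_cent1 {L A : Subgroup G} {t s x b : G} (h : Hyp L A t s) (xL : x ∈ L)
    (tri : Tri x t s) (ht : t ∈ 𝐂[b]) (hs : s ∈ 𝐂[b]) (hx : x ∈ 𝐂[b]) :
    Hyp (L ⊓ 𝐂[b]) (A ⊓ 𝐂[b]) t s where
  tX := ⟨h.tX, ht⟩
  sX := ⟨h.sX, hs⟩
  t1 := h.t1
  s1 := h.s1
  ts := h.ts
  tt := h.tt
  ss := h.ss
  comm := h.comm
  UX := inf_le_inf_right _ h.UX
  Ut := inf_le_left.trans h.Ut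
  odd := Mx.odd_of_le inf_le_left h.odd
  sU := H1.le_normalizer_inf (zpowers_le.2 h.sU) ((zpowers_le.2 hs).trans le_normalizer)
    (mem_zpowers s)
  cover g hg := by
    have hb := hg.1.2
    rcases h.cover g ⟨hg.1.1, hg.2⟩ with f | f | f | f
    · exact Or.inl ⟨f, hb⟩
    · exact Or.inr (Or.inl ⟨f, mul_mem hb ht⟩)
    · exact Or.inr (Or.inr (Or.inl ⟨f, mul_mem hs hb⟩))
    · exact Or.inr (Or.inr (Or.inr ⟨f, mul_mem (mul_mem hs hb) ht⟩))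
  conj j hj := h.v4.conj_of_tri
    (fun hd => h.not_eight_dvd (hd.trans (Subgroup.card_dvd_of_le inf_le_left)))
    ⟨h.tX, ht⟩ ⟨h.sX, hs⟩ ⟨xL, hx⟩ tri hj

theorem Hyp.norm_le {L A : Subgroup G} {t s : G} (h : Hyp L A t s) : 𝐍(L) ⊓ 𝐂[t] ≤ 𝐍(A) := by
  rw [h.eq_core]
  exact (H1.le_normalizer_inf inf_le_left (inf_le_right.trans le_normalizer)).trans
    (H2.normalizer_le_normalizer_pPrimeCoreOf 2 _)

theorem LT.le_cent {L A P : Subgroup G} {t s x : G} {p : ℕ} (h : LT L A t s) (xL : x ∈ L)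
    (tri : Tri x t s) (hp : p.Prime) (hd : p ∣ 𝐨(A)) (hP : IsPGroup p P) (hN : P ≤ 𝐍(L))
    (hC : P ≤ 𝐂[t] ⊓ 𝐂[s] ⊓ 𝐂[x]) (hA : P ≤ 𝐂(pPrimeCoreOf p A)) : P ≤ 𝐂(L) := by
  have hp2 : p ≠ 2 := by
    rintro rfl
    exact Nat.not_even_iff_odd.2 h.hyp.odd (even_iff_two_dvd.2 hd)
  by_contra hcon
  obtain ⟨g, hg, hgC⟩ := SetLike.not_le_iff_exists.1 hcon
  obtain ⟨k, h1, h2⟩ := H3.exists_pow_not_mem_pow_mem hP (U := (𝐂(L)).subgroupOf P)
    (g := ⟨g, hg⟩) hgC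
  obtain ⟨b, hb⟩ : ∃ b : P, b = ⟨g, hg⟩ ^ p ^ k := ⟨_, rfl⟩
  rw [← hb, mem_subgroupOf] at h1 h2
  rw [SubgroupClass.coe_pow] at h2
  have ht : t ∈ 𝐂[(b : G)] := mem_cent1_comm.1 (hC b.2).1.1
  have hs : s ∈ 𝐂[(b : G)] := mem_cent1_comm.1 (hC b.2).1.2
  have hx : x ∈ 𝐂[(b : G)] := mem_cent1_comm.1 (hC b.2).2
  obtain ⟨a1, a2⟩ := Mx.card_cyc_fix hp hp2 h.cyc hd (h.hyp.norm_le ⟨hN b.2, (hC b.2).1.1⟩)
    (H2.centralizer_anti h.hyp.UX h2) (hA b.2)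
  obtain ⟨q₀, b1, b2, b3⟩ := (h.hyp.inf_cent1 xL tri ht hs hx).ord (fun a ha => h.inv a ha.1)
    fun a ha ha1 g hg hc => (h.cent a ha.1 ha1 g hg.1 hc).imp (fun f => ⟨f, hg.2⟩)
      fun f => ⟨f, mul_mem hg.2 ht⟩
  obtain ⟨q, -, c2, c3⟩ := h.ord
  have e := Mx.card_eq_of_dvd hp hp2 a1 Nat.card_pos a2 b1 b2 c2 b3 c3 Nat.card_pos
    (Subgroup.card_dvd_of_le inf_le_left)
  have := H1.eq_of_le_of_card_le (inf_le_left : L ⊓ 𝐂[(b : G)] ≤ L) e.ge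
  exact h1 (H1.mem_centralizer_iff_le.2 (this ▸ inf_le_right))

end Cfsg.Agent.P5
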