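import Cfsg.Agent.H2.Puig
import Cfsg.Agent.H2.Components
import Cfsg.Agent.H2.Primitive
import Cfsg.Agent.H1.Generation
import Cfsg.Agent.L.Invol
import Cfsg.Agent.FT.Final

/-!
Groups with a Klein four Sylow `2`-subgroup: definitions and elementary facts used in the
local analysis (section A of the plan P5).
-/

set_option autoImplicit false
set_option linter.unusedSectionVars false

namespace Cfsg.Agent.P5

open Cfsg Subgroup H2
open scoped commutatorElement Pointwise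

local notation:max "𝐂[" t "]" => Subgroup.centralizer (Singleton.singleton t : Set _)
local notation:max "𝐂(" X ")" => Subgroup.centralizer (SetLike.coe X)
local notation:max "𝐍(" X ")" => Subgroup.normalizer (SetLike.coe X)
local notation:max "𝐎(" X ")" => H2.pPrimeCoreOf 2 X

variable {G : Type*} [Group G]

/-- `V` is a Klein four Sylow `2`-subgroup. -/
structure K4 (V : Subgroup G) : Prop where
  card : Nat.card V = 4
  sq : ∀ v ∈ V, v * v = 1
  odd : ¬ 2 ∣ V.index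

/-- The two facts about a proper subgroup `X ≥ V` that the local analysis takes from the
inductive structure of `X / O(X)`. -/
structure KFact (V X : Subgroup G) : Prop where
  d1 : ∀ t ∈ V, t ≠ 1 → ∀ p : ℕ, p.Prime → p ≠ 2 → ∀ Q ≤ X, IsPGroup p Q →
    ⁅Q, zpowers t⁆ = Q → X ⊓ 𝐂[t] ≤ 𝐍(Q) → Q ≤ 𝐎(X)
  k2 : ∀ t ∈ V, t ≠ 1 → ∀ s ∈ V, ∀ p : ℕ, p.Prime → p ≠ 2 → ∀ a ∈ X, (∃ k, a ^ p ^ k = 1) →
    Commute a t → s * a * s = a⁻¹ → a ∉ 𝐎(X) → ¬ p ∣ (𝐎(X) ⊔ (X ⊓ 𝐂[t])).relIndex X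

namespace Mx

theorem mem_cent1 {g t : G} : g ∈ 𝐂[t] ↔ Commute g t := by
  rw [mem_centralizer_singleton_iff]; rfl

theorem commute_of_conj_eq {g v : G} (h : g * v * g⁻¹ = v) : Commute g v :=
  mul_inv_eq_iff_eq_mul.1 h

theorem cent_zpowers (t : G) : 𝐂(zpowers t) = 𝐂[t] := H1.centralizer_zpowers' t

theorem zpowers_le_cent_iff {t : G} {W : Subgroup G} : zpowers t ≤ 𝐂(W) ↔ W ≤ 𝐂[t] := by
  rw [le_centralizer_iff, cent_zpowers]

theorem comm_eq_bot_iff {t : G} {W : Subgroup G} : ⁅W, zpowers t⁆ = ⊥ ↔ W ≤ 𝐂[t] := by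
  rw [commutator_eq_bot_iff_le_centralizer, cent_zpowers]

theorem cent1_le_norm_zpowers (t : G) : 𝐂[t] ≤ 𝐍(zpowers t) :=
  (cent_zpowers t).ge.trans (centralizer_le_normalizer _)

theorem card_zpowers_dvd_two {t : G} (h : t * t = 1) : Nat.card (zpowers t) ∣ 2 := by
  rw [Nat.card_zpowers]
  exact orderOf_dvd_of_pow_eq_one (by rw [pow_two, h])

theorem coprime_zpowers {t : G} (h : t * t = 1) {W : Subgroup G} (hW : Odd (Nat.card W)) :
    (Nat.card (zpowers t)).Coprime (Nat.card W) :=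
  (Nat.coprime_two_left.2 hW).coprime_dvd_left (card_zpowers_dvd_two h)

theorem odd_of_le {W X : Subgroup G} (h : W ≤ X) (hX : Odd (Nat.card X)) : Odd (Nat.card W) :=
  hX.of_dvd_nat (card_dvd_of_le h)

theorem odd_of_isPGroup [Finite G] {p : ℕ} (hp : p.Prime) (hp2 : p ≠ 2) {W : Subgroup G}
    (hW : IsPGroup p W) : Odd (Nat.card W) := by
  haveI := Fact.mk hp
  obtain ⟨k, hk⟩ := IsPGroup.iff_card.1 hW
  rw [hk]
  exact (hp.odd_of_ne_two hp2).pow

theorem odd_O [Finite G] (X : Subgroup G) : Odd (Nat.card 𝐎(X)) :=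
  Nat.coprime_two_right.1 (coprime_card_pPrimeCoreOf 2 X)

theorem le_O_of_snIn [Finite G] {X W : Subgroup G} (h : SnIn X W) (hW : Odd (Nat.card W)) :
    W ≤ 𝐎(X) := h.le_pPrimeCoreOf (Nat.coprime_two_right.2 hW)

theorem isSolvable_of_odd [Finite G] {W : Subgroup G} (hW : Odd (Nat.card W)) :
    Group.IsSolvable W := FT.feit_thompson W hW

theorem odd_sup {A B : Subgroup G} (h : A ≤ 𝐍(B)) (hA : Odd (Nat.card A))
    (hB : Odd (Nat.card B)) : Odd (Nat.card (A ⊔ B : Subgroup G)) :=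
  (hA.mul hB).of_dvd_nat (H1.card_sup_dvd h)

theorem coprime_of_primes [Finite G] {p q : ℕ} (hp : p.Prime) (hq : q.Prime) (h : p ≠ q)
    {A B : Subgroup G} (hA : IsPGroup p A) (hB : IsPGroup q B) :
    (Nat.card A).Coprime (Nat.card B) := by
  haveI := Fact.mk hp
  haveI := Fact.mk hq
  exact IsPGroup.coprime_card_of_ne p q h A B hA hB

/-- Two subgroups of coprime orders normalizing each other commute. -/
theorem le_cent_of_coprime {A B : Subgroup G} (h1 : A ≤ 𝐍(B)) (h2 : B ≤ 𝐍(A))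
    (hc : (Nat.card A).Coprime (Nat.card B)) : A ≤ 𝐂(B) := by
  rw [← commutator_eq_bot_iff_le_centralizer, eq_bot_iff, ← H1.inf_eq_bot_of_coprime' hc]
  exact le_inf (H1.commutator_le_of_le_normalizer h2)
    (by rw [commutator_comm]; exact H1.commutator_le_of_le_normalizer h1)

/-- An element of an odd order subgroup normalized by an involution `s` is the product of an
element centralized by `s` and an element inverted by `s`. -/
theorem exists_cent_mul_inv [Finite G] {W : Subgroup G} (hW : Odd (Nat.card W)) {s : G}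
    (hs : s * s = 1) (hn : s ∈ 𝐍(W)) {c : G} (hc : c ∈ W) :
    ∃ b ∈ W, ∃ a ∈ W, Commute b s ∧ s * a * s = a⁻¹ ∧ c = b * a := by
  have hsi : s⁻¹ = s := inv_eq_of_mul_eq_one_right hs
  obtain ⟨u, hu⟩ : ∃ u, u = s * c⁻¹ * s * c := ⟨_, rfl⟩
  have huW : u ∈ W := by
    have := (mem_normalizer_iff.1 hn c⁻¹).1 (inv_mem hc)
    rw [hsi] at this
    exact hu ▸ mul_mem this hc
  have hus : s * u * s = u⁻¹ := by
    rw [hu, mul_inv_rev, mul_inv_rev, mul_inv_rev, hsi, inv_inv]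
    calc s * (s * c⁻¹ * s * c) * s = (s * s) * c⁻¹ * s * c * s := by group
      _ = _ := by rw [hs]; group
  obtain ⟨m, hm⟩ := hW
  have hpow : u ^ (2 * m + 1) = 1 := by
    rw [← hm]
    exact congrArg Subtype.val (pow_card_eq_one' (x := (⟨u, huW⟩ : W)))
  obtain ⟨a, ha⟩ : ∃ a, a = u ^ (m + 1) := ⟨_, rfl⟩
  have haa : a * a = u := by
    rw [ha, ← pow_add, show m + 1 + (m + 1) = 2 * m + 1 + 1 by ring, pow_succ, hpow, one_mul]
  have has : s * a * s = a⁻¹ := by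
    rw [ha, ← inv_pow, ← hus]
    nth_rewrite 2 [← hsi]
    nth_rewrite 4 [← hsi]
    exact conj_pow.symm
  refine ⟨c * a⁻¹, mul_mem hc (inv_mem (ha ▸ pow_mem huW _)), a, ha ▸ pow_mem huW _, ?_, has,
    by group⟩
  have h1 : s * c * s = c * u⁻¹ := by
    rw [hu, mul_inv_rev, mul_inv_rev, mul_inv_rev, hsi, inv_inv]; group
  have h2 : s * a⁻¹ * s = a := by
    have := congrArg (·⁻¹) has
    simp only [mul_inv_rev, hsi, inv_inv] at this
    rw [← mul_assoc] at this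
    exact this
  have h3 : s * (c * a⁻¹) * s = c * a⁻¹ := by
    calc s * (c * a⁻¹) * s = (s * c * s) * (s * a⁻¹ * s) := by
          rw [show s * c * s * (s * a⁻¹ * s) = s * c * (s * s) * a⁻¹ * s by group, hs]; group
      _ = c * a⁻¹ := by rw [h1, h2, ← haa]; group
  show c * a⁻¹ * s = s * (c * a⁻¹)
  calc c * a⁻¹ * s = s * (c * a⁻¹) * s * s := by rw [h3]
    _ = _ := by rw [mul_assoc _ s s, hs, mul_one]

/-- Burnside's transfer theorem for subgroups. -/
theorem le_sup_of_burnside [Finite G] {p : ℕ} [hp : Fact p.Prime] {X S : Subgroup G}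
    (hSX : S ≤ X) (hS : IsPGroup p S) (hi : ¬ p ∣ S.relIndex X) (h : X ⊓ 𝐍(S) ≤ 𝐂(S)) :
    X ≤ pPrimeCoreOf p X ⊔ S := by
  obtain ⟨P, rfl⟩ := exists_sylow_map_subtype_eq hSX hS hi
  have hP : normalizer ((P : Subgroup X) : Set X) ≤ centralizer ((P : Subgroup X) : Set X) := by
    intro g hg
    have h1 : (g : G) ∈ 𝐍((P : Subgroup X).map X.subtype) :=
      le_normalizer_map X.subtype (mem_map_of_mem _ hg)
    have h2 := h (mem_inf.2 ⟨g.2, h1⟩)
    refine mem_centralizer_iff.2 fun y hy => Subtype.ext ?_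
    exact mem_centralizer_iff.1 h2 _ (mem_map_of_mem X.subtype hy)
  have hc := MonoidHom.ker_transferSylow_isComplement' P hP
  have hk : (MonoidHom.transferSylow P hP).ker ≤ pPrimeCore p X :=
    le_pPrimeCore_of_isSubnormal (Normal.isSubnormal inferInstance)
      ((hp.out.coprime_iff_not_dvd.2 (MonoidHom.not_dvd_card_ker_transferSylow P hP)).symm)
  intro x hx
  have : (⟨x, hx⟩ : X) ∈ pPrimeCore p X ⊔ (P : Subgroup X) :=
    (hc.sup_eq_top.ge.trans (sup_le_sup_right hk _)) (mem_top _)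
  have h2 := mem_map_of_mem X.subtype this
  rwa [Subgroup.map_sup] at h2

/-- If `X = O(X) S` with `S` a `2`-group, every odd order subgroup of `X` lies in `O(X)`. -/
theorem le_O_of_le_sup [Finite G] {X S W : Subgroup G} (hSX : S ≤ X) (hS : IsPGroup 2 S)
    (h : X ≤ 𝐎(X) ⊔ S) (hWX : W ≤ X) (hW : Odd (Nat.card W)) : W ≤ 𝐎(X) := by
  obtain ⟨k, hk⟩ := IsPGroup.iff_card.1 hS
  have hn := le_normalizer_pPrimeCoreOf 2 X
  have h1 : (𝐎(X)).relIndex W ∣ Nat.card W := relIndex_dvd_card _ _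
  have h2 : (𝐎(X)).relIndex W ∣ 2 ^ k := by
    rw [← H1.relIndex_sup_of_le_normalizer (hWX.trans hn)]
    refine (Dvd.intro _ (relIndex_mul_relIndex _ _ (S ⊔ 𝐎(X)) le_sup_right
      (sup_le (hWX.trans (h.trans (sup_comm _ _).le)) le_sup_right))).trans ?_
    rw [H1.relIndex_sup_of_le_normalizer (hSX.trans hn), ← hk]
    exact relIndex_dvd_card _ _
  exact relIndex_eq_one.1 (Nat.eq_one_of_dvd_coprimes
    ((Nat.coprime_two_right.2 hW).pow_right k) h1 h2)

theorem isSolvable_of_le_sup [Finite G] {X S : Subgroup G} (hSX : S ≤ X) (hS : IsPGroup 2 S)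
    (h : X ≤ 𝐎(X) ⊔ S) : Group.IsSolvable X := by
  refine H1.isSolvable_of_le (h.trans (sup_comm _ _).le) (isSolvable_sup_of_le_normalizer
    (hSX.trans (le_normalizer_pPrimeCoreOf 2 X)) (H1.isSolvable_of_isPGroup hS)
    (isSolvable_of_odd (odd_O X)))

end Mx

open Mx

namespace K4

variable {V : Subgroup G} (hV : K4 V)
include hV

theorem inv_eq {v : G} (hv : v ∈ V) : v⁻¹ = v := inv_eq_of_mul_eq_one_right (hV.sq v hv)

theorem comm {a b : G} (ha : a ∈ V) (hb : b ∈ V) : Commute a b := by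
  have h := hV.inv_eq (mul_mem ha hb)
  rw [mul_inv_rev, hV.inv_eq ha, hV.inv_eq hb] at h
  exact h.symm

theorem le_cent : V ≤ 𝐂(V) := fun _ ha => mem_centralizer_iff.2 fun _ hb => (hV.comm hb ha).eq

theorem le_cent1 {t : G} (ht : t ∈ V) : V ≤ 𝐂[t] := fun _ ha => mem_cent1.2 (hV.comm ha ht)

theorem isMulCommutative : IsMulCommutative V :=
  ⟨⟨fun a b => Subtype.ext (hV.comm a.2 b.2).eq⟩⟩

theorem isPGroup : IsPGroup 2 V := IsPGroup.of_card (n := 2) (by rw [hV.card]; rfl)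

theorem isSolvable : Group.IsSolvable V := H1.isSolvable_of_isMulCommutative hV.isMulCommutative

theorem not_isCyclic : ¬ IsCyclic V := by
  intro h
  obtain ⟨g, hg⟩ := IsCyclic.exists_ofOrder_eq_natCard (α := V)
  have : orderOf g ∣ 2 := orderOf_dvd_of_pow_eq_one (Subtype.ext (by
    simpa [pow_two] using hV.sq g g.2))
  rw [hg, hV.card] at this
  omega

theorem coprime {W : Subgroup G} (hW : Odd (Nat.card W)) :
    (Nat.card V).Coprime (Nat.card W) := by
  rw [hV.card]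
  exact (Nat.coprime_two_left.2 hW).pow_left 2

theorem not_dvd_relIndex {X : Subgroup G} (h : V ≤ X) : ¬ 2 ∣ V.relIndex X := fun hd =>
  hV.odd (hd.trans (Dvd.intro _ (relIndex_mul_index h)))

theorem mem_cases {t s : G} (ht : t ∈ V) (hs : s ∈ V) (ht1 : t ≠ 1) (hs1 : s ≠ 1) (hts : t ≠ s)
    {v : G} (hv : v ∈ V) : v = 1 ∨ v = t ∨ v = s ∨ v = t * s := by
  classical
  by_contra hcon
  push Not at hcon
  obtain ⟨h1, h2, h3, h4⟩ := hcon
  have e1 : t * s ≠ 1 := fun e => hts (by rw [eq_inv_of_mul_eq_one_left e, hV.inv_eq hs])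
  have e2 : t * s ≠ t := fun e => hs1 (by simpa using e)
  have e3 : t * s ≠ s := fun e => ht1 (by simpa using e)
  have hfin : (V : Set G).Finite := Set.finite_coe_iff.1
    (Nat.finite_of_card_ne_zero (by rw [show Nat.card (V : Set G) = 4 from hV.card]; omega))
  have hsub : (({1, t, s, t * s, v} : Finset G) : Set G) ⊆ V := by
    intro y hy
    simp only [Finset.coe_insert, Finset.coe_singleton, Set.mem_insert_iff,
      Set.mem_singleton_iff] at hy
    rcases hy with rfl | rfl | rfl | rfl | rfl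
    exacts [one_mem V, ht, hs, mul_mem ht hs, hv]
  have hle := Set.ncard_le_ncard hsub hfin
  rw [Set.ncard_coe_finset, show (V : Set G).ncard = 4 from hV.card] at hle
  rw [Finset.card_insert_of_notMem (by simp [ht1.symm, hs1.symm, e1.symm, h1.symm]),
    Finset.card_insert_of_notMem (by simp [hts, e2.symm, h2.symm]),
    Finset.card_insert_of_notMem (by simp [e3.symm, h3.symm]),
    Finset.card_insert_of_notMem (by simp [h4.symm]), Finset.card_singleton] at hle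
  omega

theorem le_of_mem {t s : G} (ht : t ∈ V) (hs : s ∈ V) (ht1 : t ≠ 1) (hs1 : s ≠ 1) (hts : t ≠ s)
    {X : Subgroup G} (h1 : t ∈ X) (h2 : s ∈ X) : V ≤ X := fun v hv => by
  rcases hV.mem_cases ht hs ht1 hs1 hts hv with rfl | rfl | rfl | rfl
  exacts [one_mem X, h1, h2, mul_mem h1 h2]

theorem mul_ne_one {t s : G} (hs : s ∈ V) (hts : t ≠ s) : t * s ≠ 1 := fun e =>
  hts (by rw [eq_inv_of_mul_eq_one_left e, hV.inv_eq hs])

theorem exists_ne (t : G) : ∃ s ∈ V, s ≠ 1 ∧ s ≠ t := by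
  by_contra hcon
  push Not at hcon
  have hsub : (V : Set G) ⊆ {1, t} := fun v hv => by
    by_cases h : v = 1
    · exact Or.inl h
    · exact Or.inr (hcon v hv h)
  have := Set.ncard_le_ncard hsub (Set.toFinite _)
  rw [show (V : Set G).ncard = 4 from hV.card] at this
  have h2 := Set.ncard_insert_le (1 : G) {t}
  rw [Set.ncard_singleton] at h2
  omega

variable [Finite G]

theorem comm_two (T : Subgroup G) (hT : IsPGroup 2 T) : IsMulCommutative T := by
  obtain ⟨g, -, hg⟩ := H1.exists_conj_le_sylow (H := ⊤) hV.isPGroup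
    (hV.not_dvd_relIndex le_top) le_top hT
  refine ⟨⟨fun a b => Subtype.ext ?_⟩⟩
  have h := hV.comm (H1.map_conj_le_iff.1 hg a a.2) (H1.map_conj_le_iff.1 hg b b.2)
  have e : g * (a * b) * g⁻¹ = g * (b * a) * g⁻¹ := by
    calc g * (a * b) * g⁻¹ = g * a * g⁻¹ * (g * b * g⁻¹) := by group
      _ = g * b * g⁻¹ * (g * a * g⁻¹) := h.eq
      _ = _ := by group
  simpa using e

theorem le_of_two {X T : Subgroup G} (hX : V ≤ X) (hTX : T ≤ X) (hT : IsPGroup 2 T)
    (hn : V ≤ 𝐍(T)) : T ≤ V :=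
  H1.le_sylow_of_le_normalizer hX hV.isPGroup (hV.not_dvd_relIndex hX) hTX hT hn

theorem mem_cent_of_sq {g : G} (hg : g ∈ 𝐍(V)) (h : g * g ∈ 𝐂(V)) : g ∈ 𝐂(V) := by
  haveI := H1.normal_subgroupOf_of_le (H1.normalizer_le_normalizer_centralizer V)
  have h1 : ¬ 2 ∣ (𝐂(V)).relIndex 𝐍(V) := fun hd => by
    have e := relIndex_mul_relIndex V 𝐂(V) 𝐍(V) hV.le_cent (centralizer_le_normalizer _)
    refine hV.not_dvd_relIndex (X := 𝐍(V)) le_normalizer ?_
    rw [← e]
    exact hd.mul_left _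
  have h2 : g ^ (𝐂(V)).relIndex 𝐍(V) ∈ 𝐂(V) := by
    have := pow_index_mem ((𝐂(V)).subgroupOf 𝐍(V)) ⟨g, hg⟩
    rw [mem_subgroupOf, SubgroupClass.coe_pow] at this
    exact this
  obtain ⟨m, hm⟩ : Odd ((𝐂(V)).relIndex 𝐍(V)) :=
    Nat.not_even_iff_odd.1 fun h => h1 (even_iff_two_dvd.1 h)
  rw [hm, pow_succ, pow_mul, pow_two] at h2
  exact (mul_mem_cancel_left (pow_mem h m)).1 h2

theorem conj_mem {g : G} (hg : g ∈ 𝐍(V)) {v : G} (hv : v ∈ V) : g * v * g⁻¹ ∈ V :=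
  (mem_normalizer_iff.1 hg v).1 hv

/-- An element normalizing `V` and centralizing one of its involutions centralizes `V`. -/
theorem mem_cent_of_commute {g t : G} (hg : g ∈ 𝐍(V)) (ht : t ∈ V) (ht1 : t ≠ 1)
    (h : Commute g t) : g ∈ 𝐂(V) := by
  obtain ⟨s, hs, hs1, hst⟩ := hV.exists_ne t
  have key : ∀ u : G, Commute u t → Commute u s → u ∈ 𝐂(V) := fun u a b =>
    H1.mem_centralizer_iff_le.2 (hV.le_of_mem ht hs ht1 hs1 hst.symm (mem_cent1.2 a.symm)
      (mem_cent1.2 b.symm))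
  have e : g * t * g⁻¹ = t := by rw [h.eq]; group
  rcases hV.mem_cases ht hs ht1 hs1 hst.symm (hV.conj_mem hg hs) with e1 | e1 | e1 | e1
  · exact absurd (by simpa using e1) hs1
  · exact absurd (by rw [← e] at e1; simpa using e1) hst
  · exact key g h (commute_of_conj_eq e1)
  · refine hV.mem_cent_of_sq hg (key _ (h.mul_left h) ?_)
    have : g * g * s * (g * g)⁻¹ = s := by
      calc g * g * s * (g * g)⁻¹ = g * (g * s * g⁻¹) * g⁻¹ := by group
        _ = g * (t * s) * g⁻¹ := by rw [e1]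
        _ = (g * t * g⁻¹) * (g * s * g⁻¹) := by group
        _ = s := by rw [e, e1, ← mul_assoc, hV.sq t ht, one_mul]
    exact commute_of_conj_eq this

theorem cent1_inf_norm {t : G} (ht : t ∈ V) (ht1 : t ≠ 1) : 𝐂[t] ⊓ 𝐍(V) ≤ 𝐂(V) :=
  fun _ hg => hV.mem_cent_of_commute hg.2 ht ht1 (mem_cent1.1 hg.1)

theorem le_sup {X : Subgroup G} (hX : V ≤ X) (h : X ⊓ 𝐍(V) ≤ 𝐂(V)) : X ≤ 𝐎(X) ⊔ V :=
  le_sup_of_burnside hX hV.isPGroup (hV.not_dvd_relIndex hX) h

theorem le_O {X W : Subgroup G} (hX : V ≤ X) (h : X ⊓ 𝐍(V) ≤ 𝐂(V)) (hWX : W ≤ X)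
    (hW : Odd (Nat.card W)) : W ≤ 𝐎(X) :=
  le_O_of_le_sup hX hV.isPGroup (hV.le_sup hX h) hWX hW

theorem isSolvable_of_nc {X : Subgroup G} (hX : V ≤ X) (h : X ⊓ 𝐍(V) ≤ 𝐂(V)) :
    Group.IsSolvable X :=
  isSolvable_of_le_sup hX hV.isPGroup (hV.le_sup hX h)

/-- An odd prime not dividing `|Y : S|` does not divide `|X : S|` when `X ≤ Y V`. -/
theorem not_dvd_relIndex_of_le_sup {X Y S : Subgroup G} {p : ℕ} (hp : p.Prime) (hp2 : p ≠ 2)
    (hS : S ≤ Y) (hY : Y ≤ X) (hn : V ≤ 𝐍(Y)) (h : X ≤ Y ⊔ V) (hi : ¬ p ∣ S.relIndex Y) :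
    ¬ p ∣ S.relIndex X := by
  rw [← relIndex_mul_relIndex _ _ _ hS hY, hp.dvd_mul, not_or]
  refine ⟨hi, fun hd => ?_⟩
  have h1 : Y.relIndex X ∣ Y.relIndex (V ⊔ Y) :=
    Dvd.intro _ (relIndex_mul_relIndex _ _ _ hY (h.trans (sup_comm _ _).le))
  rw [H1.relIndex_sup_of_le_normalizer hn] at h1
  have h2 := (hd.trans h1).trans (relIndex_dvd_card Y V)
  rw [hV.card] at h2
  exact hp2 ((Nat.prime_dvd_prime_iff_eq hp Nat.prime_two).1
    (hp.dvd_of_dvd_pow (show p ∣ 2 ^ 2 from h2)))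

/-- A nontrivial layer of an overgroup of `V` contains `V`. -/
theorem le_layerOf {R : Subgroup G} (hR : V ≤ R) (h : layerOf R ≠ ⊥) : V ≤ layerOf R := by
  by_contra hn
  have h1 : ¬ 2 ∣ (V ⊓ layerOf R).relIndex (layerOf R) :=
    not_dvd_relIndex_inf (hV.not_dvd_relIndex hR) hR (layerOf_le R)
      (hR.trans (le_normalizer_layerOf R))
  have h2 : layerOf R ⊓ 𝐍(V ⊓ layerOf R) ≤ 𝐂(V ⊓ layerOf R) := by
    intro g hg
    refine mem_centralizer_iff.2 fun v hv => ?_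
    have hv' := (mem_normalizer_iff.1 hg.2 v).1 hv
    by_contra hne
    have e1 : v ≠ 1 := fun e => hne (by simp [e])
    have e2 : g * v * g⁻¹ ≠ 1 := fun e => e1 (by simpa using e)
    have e3 : v ≠ g * v * g⁻¹ := fun e => hne (by
      calc v * g = g * v * g⁻¹ * g := by rw [← e]
        _ = g * v := by group)
    exact hn (hV.le_of_mem hv.1 hv'.1 e1 e2 e3 hv.2 hv'.2)
  have hS : IsPGroup 2 (V ⊓ layerOf R : Subgroup G) := hV.isPGroup.to_le inf_le_left
  have h3 := isSolvable_of_le_sup inf_le_right hS (le_sup_of_burnside inf_le_right hS h1 h2)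
  exact (H1.commutator_lt_of_isSolvable h3 h).ne (commutator_layerOf R)

theorem layerOf_eq_bot {R W : Subgroup G} (hR : V ≤ R) {t : G} (ht : t ∈ V)
    (hW : W ≤ fittingOf R) (h : ¬ W ≤ 𝐂[t]) : layerOf R = ⊥ := by
  by_contra hne
  exact h (zpowers_le_cent_iff.1 (((zpowers_le.2 ht).trans (hV.le_layerOf hR hne)).trans
    ((layerOf_le_centralizer_fittingOf R).trans (centralizer_anti hW))))

theorem ne_top [IsSimpleGroup G] : V ≠ ⊤ := by
  intro e
  obtain ⟨t, ht, ht1, -⟩ := hV.exists_ne 1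
  obtain ⟨s, hs, hs1, hst⟩ := hV.exists_ne t
  haveI : (zpowers t).Normal := normal_of_top_le_normalizer
    (e.ge.trans ((hV.le_cent1 ht).trans (cent1_le_norm_zpowers t)))
  rcases IsSimpleGroup.eq_bot_or_eq_top_of_normal (zpowers t) inferInstance with h | h
  · exact ht1 (zpowers_eq_bot.1 h)
  · have h1 := card_zpowers_dvd_two (hV.sq t ht)
    rw [h, ← e, hV.card] at h1
    omega

theorem exists_not_cent [IsSimpleGroup G] : ∃ x : G, x ∈ 𝐍(V) ∧ x ∉ 𝐂(V) := by
  by_contra hcon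
  push Not at hcon
  have h1 := hV.le_sup le_top (fun g hg => hcon g hg.2)
  haveI : (𝐎((⊤ : Subgroup G))).Normal :=
    normal_of_top_le_normalizer (le_normalizer_pPrimeCoreOf 2 ⊤)
  rcases IsSimpleGroup.eq_bot_or_eq_top_of_normal 𝐎((⊤ : Subgroup G)) inferInstance with h | h
  · rw [h, bot_sup_eq] at h1
    exact hV.ne_top (top_le_iff.1 h1)
  · have h2 := odd_of_le (le_top.trans h.ge : V ≤ _) (odd_O ⊤)
    rw [hV.card] at h2
    exact absurd h2 (by decide)

/-- `N(V)` is transitive on the involutions of `V` as soon as it does not centralize `V`. -/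
theorem exists_conj_of_not_cent {x : G} (hx : x ∈ 𝐍(V)) (hxc : x ∉ 𝐂(V)) {t s : G} (ht : t ∈ V)
    (ht1 : t ≠ 1) (hs : s ∈ V) (hs1 : s ≠ 1) :
    ∃ g ∈ zpowers x, g * t * g⁻¹ = s := by
  have hfix : ∀ v ∈ V, v ≠ 1 → x * v * x⁻¹ ≠ v := fun v hv hv1 e =>
    hxc (hV.mem_cent_of_commute hx hv hv1 (commute_of_conj_eq e))
  obtain ⟨u, hu⟩ : ∃ u, u = x * t * x⁻¹ := ⟨_, rfl⟩
  have huV : u ∈ V := hu ▸ hV.conj_mem hx ht
  have hu1 : u ≠ 1 := fun e => ht1 (by simpa [hu] using e)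
  have hut : t ≠ u := fun e => hfix t ht ht1 (hu ▸ e.symm)
  rcases hV.mem_cases ht huV ht1 hu1 hut hs with e | e | e | e
  · exact absurd e hs1
  · exact ⟨1, one_mem _, by simp [e]⟩
  · exact ⟨x, mem_zpowers x, by rw [e, hu]⟩
  · refine ⟨x * x, mul_mem (mem_zpowers x) (mem_zpowers x), ?_⟩
    have e0 : x * x * t * (x * x)⁻¹ = x * u * x⁻¹ := by rw [hu]; group
    rw [e0, e]
    rcases hV.mem_cases ht huV ht1 hu1 hut (hV.conj_mem hx huV) with f | f | f | f
    · exact absurd (by simpa using f) hu1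
    · refine absurd ?_ (hfix (t * u) (mul_mem ht huV) (hV.mul_ne_one huV hut))
      calc x * (t * u) * x⁻¹ = (x * t * x⁻¹) * (x * u * x⁻¹) := by group
        _ = t * u := by rw [← hu, f, (hV.comm huV ht).eq]
    · exact absurd f (hfix u huV hu1)
    · exact f

theorem exists_conj [IsSimpleGroup G] {t s : G} (ht : t ∈ V) (ht1 : t ≠ 1) (hs : s ∈ V)
    (hs1 : s ≠ 1) : ∃ g ∈ 𝐍(V), g * t * g⁻¹ = s := by
  obtain ⟨x, hx, hxc⟩ := hV.exists_not_cent
  obtain ⟨g, hg, e⟩ := hV.exists_conj_of_not_cent hx hxc ht ht1 hs hs1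
  exact ⟨g, zpowers_le.2 hx hg, e⟩

end K4

end Cfsg.Agent.P5
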