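import Cfsg.Agent.P5.SMT

/-! Groups with a Klein four Sylow 2-subgroup and one class of involutions: basic set-up. -/

set_option autoImplicit false

namespace Cfsg.Agent.P5

open Subgroup Cfsg Cfsg.Agent Cfsg.Agent.FT

universe u

variable {G : Type u} [Group G]

theorem inv_eq_of_sq {j : G} (h : j * j = 1) : j⁻¹ = j := inv_eq_of_mul_eq_one_right h

theorem eq_one_of_odd [Finite G] {U : Subgroup G} (hU : Odd 𝐨(U)) {j : G} (hj : j ∈ U)
    (h : j * j = 1) : j = 1 := by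
  have h1 := orderOf_dvd_of_pow_eq_one (n := 2) (x := j) (by rw [sq, h])
  have h2 := orderOf_dvd_card_of_mem hj
  rcases (Nat.dvd_prime Nat.prime_two).1 h1 with e | e
  · exact orderOf_eq_one_iff.1 e
  · rw [e] at h2; exact absurd (even_iff_two_dvd.2 h2) (Nat.not_even_iff_odd.2 hU)

theorem pow_card_of_mem [Finite G] {U : Subgroup G} {u : G} (hu : u ∈ U) : u ^ 𝐨(U) = 1 :=
  orderOf_dvd_iff_pow_eq_one.1 (orderOf_dvd_card_of_mem hu)

theorem mul_pow_odd {t u : G} {n : ℕ} (hn : Odd n) (tt : t * t = 1) (hc : Commute t u)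
    (hu : u ^ n = 1) : (u * t) ^ n = t := by
  obtain ⟨m, rfl⟩ := hn
  rw [hc.symm.mul_pow, hu, one_mul, pow_succ, pow_mul, sq, tt, one_pow, one_mul]

/-- A square root in a group of odd order. -/
theorem exists_sqrt [Finite G] {U : Subgroup G} (hU : Odd 𝐨(U)) {u : G} (hu : u ∈ U) :
    ∃ w ∈ zpowers u, w * w = u := by
  obtain ⟨m, hm⟩ := hU
  refine ⟨u ^ (m + 1), pow_mem (mem_zpowers u) _, ?_⟩
  rw [← pow_add, show m + 1 + (m + 1) = 𝐨(U) + 1 by omega, pow_succ, pow_card_of_mem hu, one_mul]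

theorem inverts_of_mem_zpowers {s u w : G} (h : s * u * s⁻¹ = u⁻¹) (hw : w ∈ zpowers u) :
    s * w * s⁻¹ = w⁻¹ := by
  obtain ⟨n, rfl⟩ := mem_zpowers_iff.1 hw
  rw [← conj_zpow, h, inv_zpow]

/-- Two involutions whose product lies in a subgroup of odd order are conjugate. -/
theorem exists_conj_of_odd [Finite G] {U : Subgroup G} (hU : Odd 𝐨(U)) {s j : G}
    (ss : s * s = 1) (jj : j * j = 1) (h : s * j ∈ U) : ∃ w ∈ U, w * s * w⁻¹ = j := by
  obtain ⟨w, hw, e⟩ := exists_sqrt hU h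
  have h1 : s * (s * j) * s⁻¹ = (s * j)⁻¹ := by
    rw [← mul_assoc, ss, one_mul, mul_inv_rev, inv_eq_of_sq jj]
  have h2 := inverts_of_mem_zpowers h1 hw
  refine ⟨w⁻¹, inv_mem (zpowers_le.2 h hw), ?_⟩
  rw [inv_inv, ← h2, inv_mul_cancel_right, mul_assoc, e, ← mul_assoc, ss, one_mul]

/-- `X` has the Sylow 2-subgroup `{1, t, s, t s}`, one class of involutions, and
`C_X(t) = U ⋊ ⟨t, s⟩`. -/
structure Hyp (X U : Subgroup G) (t s : G) : Prop where
  tX : t ∈ X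
  sX : s ∈ X
  t1 : t ≠ 1
  s1 : s ≠ 1
  ts : t ≠ s
  tt : t * t = 1
  ss : s * s = 1
  comm : Commute t s
  UX : U ≤ X
  Ut : U ≤ 𝐂[t]
  odd : Odd 𝐨(U)
  sU : s ∈ 𝐍(U)
  cover : ∀ g ∈ X ⊓ 𝐂[t], g ∈ U ∨ g * t ∈ U ∨ s * g ∈ U ∨ s * g * t ∈ U
  conj : ∀ j ∈ X, j ≠ 1 → j * j = 1 → ∃ g ∈ X, g * t * g⁻¹ = j

namespace Hyp

variable {X U : Subgroup G} {t s : G} (h : Hyp X U t s)
include h

theorem UH : U ≤ X ⊓ 𝐂[t] := le_inf h.UX h.Ut

theorem tH : t ∈ X ⊓ 𝐂[t] := ⟨h.tX, self_mem_cent1 t⟩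

theorem sH : s ∈ X ⊓ 𝐂[t] := ⟨h.sX, mem_cent1_iff_commute.2 h.comm⟩

theorem cU {u : G} (hu : u ∈ U) : Commute t u := mem_cent1_iff_commute.1 (h.Ut hu)

omit h in
theorem cH {g : G} (hg : g ∈ X ⊓ 𝐂[t]) : Commute t g := mem_cent1_iff_commute.1 hg.2

theorem st1 : s * t ≠ 1 := fun e => h.ts (by
  rw [← inv_eq_of_sq h.ss, eq_comm, inv_eq_iff_mul_eq_one, e])

theorem stst : s * t * (s * t) = 1 := by
  rw [mul_assoc, ← mul_assoc t, h.comm.eq, mul_assoc s t t, h.tt, mul_one, h.ss]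

theorem sus {u : G} (hu : u ∈ U) : s * u * s ∈ U := by
  have := (mem_normalizer_iff.1 h.sU u).1 hu
  rwa [inv_eq_of_sq h.ss] at this

theorem tU : t ∈ 𝐍(U) := cent_le_norm U (mem_cent_iff_cent1.2 h.Ut)

theorem HU : X ⊓ 𝐂[t] ≤ 𝐍(U) := fun g hg => by
  have h1 := le_norm_self U
  rcases h.cover g hg with e | e | e | e
  · exact h1 e
  · exact (mul_mem_cancel_right h.tU).1 (h1 e)
  · exact (mul_mem_cancel_left h.sU).1 (h1 e)
  · exact (mul_mem_cancel_left h.sU).1 ((mul_mem_cancel_right h.tU).1 (h1 e))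

theorem normal : U ⊲ X ⊓ 𝐂[t] := ⟨h.UH, h.HU⟩

variable [Finite G]

theorem t_notMem : t ∉ U := fun e => h.t1 (eq_one_of_odd h.odd e h.tt)

theorem s_notMem : s ∉ U := fun e => h.s1 (eq_one_of_odd h.odd e h.ss)

theorem st_notMem : s * t ∉ U := fun e => h.st1 (eq_one_of_odd h.odd e h.stst)

theorem sum_H {M : Type*} [AddCommMonoid M] (F : G → M) :
    ∑ g ∈ fs ((X ⊓ 𝐂[t] : Subgroup G) : Set G), F g =
      ∑ u ∈ fs (U : Set G), (F u + F (u * t) + F (s * u) + F (s * u * t)) := by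
  have e : ((X ⊓ 𝐂[t] : Subgroup G) : Set G) =
      (((U : Set G) ∪ {g | g * t ∈ U}) ∪ {g | s * g ∈ U}) ∪ {g | s * g * t ∈ U} := by
    ext g
    simp only [Set.mem_union, Set.mem_setOf_eq, SetLike.mem_coe]
    refine ⟨fun hg => by have := h.cover g hg; tauto, ?_⟩
    rintro (((e | e) | e) | e)
    · exact h.UH e
    · exact (mul_mem_cancel_right h.tH).1 (h.UH e)
    · exact (mul_mem_cancel_left h.sH).1 (h.UH e)
    · exact (mul_mem_cancel_left h.sH).1 ((mul_mem_cancel_right h.tH).1 (h.UH e))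
  have n1 : ∀ g, g ∈ U → s * g ∉ U := fun g h1 h2 => h.s_notMem ((mul_mem_cancel_right h1).1 h2)
  have n2 : ∀ g, g ∈ U → g * t ∉ U := fun g h1 h2 => h.t_notMem ((mul_mem_cancel_left h1).1 h2)
  have n3 : ∀ g, g ∈ U → s * g * t ∉ U := fun g h1 h2 => h.st_notMem (by
    rw [mul_assoc, ← (h.cU h1).eq, ← mul_assoc] at h2
    exact (mul_mem_cancel_right h1).1 h2)
  have b : ∀ (a c : G), a * a = 1 → c * c = 1 → ∑ g ∈ fs {g | a * g * c ∈ U}, F g =
      ∑ u ∈ fs (U : Set G), F (a * u * c) := fun a c ha hc => by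
    have : ∀ g, a * (a * g * c) * c = g := fun g => by
      rw [← mul_assoc, ← mul_assoc, ha, one_mul, mul_assoc, hc, mul_one]
    exact (sum_fs_bij (A := (U : Set G)) (B := {g | a * g * c ∈ U}) (fun g => a * g * c)
      ⟨fun g hg => by change a * (a * g * c) * c ∈ U; rwa [this],
      fun g _ g' _ e => by simpa using e, fun g hg => ⟨a * g * c, hg, this g⟩⟩ F).symm
  have b1 := b 1 t (mul_one 1) h.tt
  have b2 := b s 1 h.ss (mul_one 1)
  have b3 := b s t h.ss h.tt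
  simp only [one_mul, mul_one] at b1 b2
  rw [e, sum_fs_union, sum_fs_union, sum_fs_union, b1, b2, b3]
  · simp only [Finset.sum_add_distrib]
  · exact Set.disjoint_left.2 n2
  · refine Set.disjoint_left.2 ?_
    rintro g (h1 | h1) h2
    · exact n1 g h1 h2
    · refine n3 _ h1 ?_
      rwa [mul_assoc, mul_assoc, h.tt, mul_one]
  · refine Set.disjoint_left.2 ?_
    rintro g ((h1 | h1) | h1) h2
    · exact n3 g h1 h2
    · exact n1 _ h1 (by rwa [← mul_assoc])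
    · exact n2 _ h1 h2

theorem card_H : 𝐨((X ⊓ 𝐂[t] : Subgroup G)) = 4 * 𝐨(U) := by
  have := h.sum_H fun _ => (1 : ℕ)
  rw [sum_fs_const, sum_fs_const] at this
  simpa [mul_comm] using this

theorem pow_eq {g : G} (hg : g * t ∈ U) : g ^ 𝐨(U) = t := by
  have := mul_pow_odd h.odd h.tt (h.cU hg) (pow_card_of_mem hg)
  rwa [mul_assoc, h.tt, mul_one] at this

omit [Finite G] in
theorem conj_mul_t {g a : G} (hg : g ∈ X ⊓ 𝐂[t]) : g * a * g⁻¹ * t = g * (a * t) * g⁻¹ := by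
  rw [mul_assoc, ← (cH hg).inv_right.eq, ← mul_assoc, ← mul_assoc]

theorem normedTI : NormedTI {g | g * t ∈ U} X (X ⊓ 𝐂[t]) where
  nonempty := ⟨t, by change t * t ∈ U; rw [h.tt]; exact one_mem U⟩
  one_notMem := by change 1 * t ∉ U; rw [one_mul]; exact h.t_notMem
  subset g hg := (mul_mem_cancel_right h.tH).1 (h.UH hg)
  le := inf_le_left
  norm g hg a ha := by
    change g * a * g⁻¹ * t ∈ U
    rw [h.conj_mul_t hg]
    exact (mem_normalizer_iff.1 (h.HU hg) _).1 ha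
  ti g hg a ha h1 := ⟨hg, mem_cent1_iff_conj.2 (by
    have := h.pow_eq h1
    rwa [conj_pow, h.pow_eq ha] at this)⟩

theorem invol_cases {j : G} (hj : j ∈ X ⊓ 𝐂[t]) (j1 : j ≠ 1) (jj : j * j = 1) :
    j = t ∨ s * j ∈ U ∨ s * j * t ∈ U := by
  rcases h.cover j hj with e | e | e
  · exact absurd (eq_one_of_odd h.odd e jj) j1
  · left
    have := eq_one_of_odd h.odd e (by
      rw [mul_assoc, ← mul_assoc t, (cH hj).eq, mul_assoc j t t, h.tt, mul_one, jj])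
    rw [← inv_eq_of_sq h.tt, ← mul_eq_one_iff_eq_inv, this]
  · exact .inr e

theorem mem_class_s {j : G} : j ∈ classSupp {s} (X ⊓ 𝐂[t]) ↔ s * j ∈ U ∧ j * j = 1 := by
  rw [CH1.mem_class]
  constructor
  · rintro ⟨g, hg, rfl⟩
    refine ⟨?_, by rw [conj_mul, h.ss, mul_one, mul_inv_cancel]⟩
    have key : ∀ u ∈ U, s * (u * s * u⁻¹) ∈ U := fun u hu => by
      rw [← mul_assoc, ← mul_assoc]; exact mul_mem (h.sus hu) (inv_mem hu)
    have k2 : ∀ g : G, g * t * s * (g * t)⁻¹ = g * s * g⁻¹ := fun g => by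
      rw [mul_assoc g, h.comm.eq]; group
    have k3 : ∀ g : G, s * g ∈ U → s * (g * s * g⁻¹) ∈ U := fun g hg => by
      have := h.sus (key _ hg)
      rwa [mul_inv_rev, inv_eq_of_sq h.ss, ← mul_assoc s s, h.ss, one_mul, mul_assoc, mul_assoc,
        mul_assoc, mul_assoc, h.ss, mul_one, ← mul_assoc g] at this
    rcases h.cover g hg with e | e | e | e
    · exact key g e
    · exact k2 g ▸ key _ e
    · exact k3 g e
    · exact k2 g ▸ k3 _ (by rwa [← mul_assoc])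
  · rintro ⟨h1, h2⟩
    obtain ⟨w, hw, e⟩ := exists_conj_of_odd h.odd h.ss h2 h1
    exact ⟨w, h.UH hw, e⟩

theorem mem_class_t {j : G} : j ∈ classSupp {t} X ↔ j ∈ X ∧ j ≠ 1 ∧ j * j = 1 := by
  rw [CH1.mem_class]
  constructor
  · rintro ⟨g, hg, rfl⟩
    exact ⟨mul_mem (mul_mem hg h.tX) (inv_mem hg), by simpa using h.t1,
      by rw [conj_mul, h.tt, mul_one, mul_inv_cancel]⟩
  · rintro ⟨h1, h2, h3⟩
    exact h.conj j h1 h2 h3

end Hyp

end Cfsg.Agent.P5
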