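import Cfsg.Agent.P5.Char2
import Cfsg.Agent.FT.Final

/-! The principal block and the blocks of linear characters. -/

set_option autoImplicit false

namespace Cfsg.Agent.P5

open Subgroup Cfsg Cfsg.Agent Cfsg.Agent.FT
open scoped ComplexConjugate commutatorElement

universe u

variable {G : Type u} [Group G]

/-- The elements of `U` inverted by `s` lie in a proper normal subgroup of `X`. -/
def Ker3 (X U : Subgroup G) (s : G) : Prop :=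
  ∃ N : Subgroup G, N ⊲ X ∧ N ≠ X ∧ ∀ u ∈ U, s * u * s⁻¹ = u⁻¹ → u ∈ N

theorem le_cent1_of_inverted {U : Subgroup G} [Finite G] (ho : Odd 𝐨(U)) {s : G} (ss : s * s = 1)
    (hs : s ∈ 𝐍(U)) (h : ∀ u ∈ U, s * u * s⁻¹ = u⁻¹ → Commute s u) : U ≤ 𝐂[s] := fun u hu => by
  have h1 : u⁻¹ * (s * u * s⁻¹) ∈ U := mul_mem (inv_mem hu) ((mem_normalizer_iff.1 hs u).1 hu)
  have h2 : s * (u⁻¹ * (s * u * s⁻¹)) * s⁻¹ = (u⁻¹ * (s * u * s⁻¹))⁻¹ := by
    rw [show s * (u⁻¹ * (s * u * s⁻¹)) * s⁻¹ = s * u⁻¹ * s * u * (s * s)⁻¹ by group, ss]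
    simp [inv_eq_of_sq ss, mul_assoc]
  have h3 := h _ h1 h2
  rw [h3.eq, mul_inv_cancel_right] at h2
  have h4 := eq_one_of_odd ho h1 (mul_eq_one_iff_eq_inv.2 h2)
  exact mem_cent1.2 (mul_inv_eq_iff_eq_mul.1 (inv_mul_eq_one.1 h4).symm)

variable [Finite G]

theorem isSolvable_of_odd {U : Subgroup G} (h : Odd 𝐨(U)) : Group.IsSolvable U :=
  feit_thompson U h

theorem exists_lin {U K : Subgroup G} (hs : Group.IsSolvable U) (hK : K ⊲ U) (hne : K ≠ U) :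
    ∃ α, IsLin U α ∧ K ≤ cfKer α ∧ ∃ u ∈ U, α u ≠ 1 := by
  have := H1.normal_subgroupOf_of_le hK.2
  have h1 := H1.commutator_lt_of_isSolvable (H1.isSolvable_bar (Y := U) (N := K) hs)
    (mt (H1.bar_eq_bot_iff le_rfl).1 fun e => hne (le_antisymm hK.1 e))
  rw [← H1.bar_commutator le_rfl le_rfl] at h1
  obtain ⟨u, hu, hn⟩ := SetLike.not_le_iff_exists.1
    (mt (H1.bar_le_bar_iff hK.1 le_rfl (der_le U)).2 h1.not_ge)
  have h2 := sup_le (der_le U) hK.1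
  obtain ⟨α, hα, h3⟩ := exists_irrKer_notMem_cfKer ⟨h2, le_norm_of_der_le le_sup_left h2⟩ hn
  have h4 := isLin_of_mem_irrKer le_sup_left hα
  exact ⟨α, h4, le_sup_right.trans (mem_irrKer.1 hα).2, u, hu, mt h4.mem_cfKer_iff.2 h3⟩

theorem eq_cf1_of_dg {X : Subgroup G} (perf : ⁅X, X⁆ = X) {χ : G → ℂ} (hχ : χ ∈ Irr X)
    (h : dg χ = 1) : χ = cf1 X :=
  (irr_eq_cf1_iff hχ).2 (perf.ge.trans ((irr_isChar hχ).isLin_of_dg h).der_le_cfKer)

theorem exists_core {M X : Subgroup G} (h : M ≤ X) :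
    ∃ N : Subgroup G, N ⊲ X ∧ N ≤ M ∧ N.relIndex X ≤ (M.relIndex X).factorial := by
  refine ⟨(M.subgroupOf X).normalCore.map X.subtype,
    ⟨map_subtype_le _, H2.le_normalizer_map_subtype _⟩,
    (map_mono (normalCore_le _)).trans (by rw [subgroupOf_map_subtype]; exact inf_le_left), ?_⟩
  rw [relIndex, subgroupOf, comap_map_eq_self_of_injective X.subtype_injective, normalCore_eq_ker,
    index_ker, relIndex, index, ← Nat.card_perm]
  exact card_le_card_group _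

namespace Hyp

variable {X U : Subgroup G} {t s x : G} (h : Hyp X U t s)
include h

omit [Finite G] in
theorem H_le {Y : Subgroup G} (hU : U ≤ Y) (ht : t ∈ Y) (hs : s ∈ Y) : X ⊓ 𝐂[t] ≤ Y :=
  fun g hg => by
    rcases h.cover g hg with e | e | e | e
    · exact hU e
    · exact (mul_mem_cancel_right ht).1 (hU e)
    · exact (mul_mem_cancel_left hs).1 (hU e)
    · exact (mul_mem_cancel_left hs).1 ((mul_mem_cancel_right ht).1 (hU e))

theorem relIndex_U : U.relIndex (X ⊓ 𝐂[t]) = 4 :=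
  Nat.eq_of_mul_eq_mul_left Nat.card_pos (by rw [H1.card_mul_relIndex h.UH, h.card_H, mul_comm])

theorem exists_extension {α : G → ℂ} (hα : α ∈ Irr U) (hs : s ∈ inertia α) :
    ∃ ψ ∈ Irr (X ⊓ 𝐂[t]), res U ψ = α :=
  CH1.ext_of h.normal hα (h.H_le (le_inertia (irr_mem_CF hα))
    (cent_le_inertia (fun _ => CF_off (irr_mem_CF hα)) (mem_cent_iff_cent1.2 h.Ut)) hs)
    (.inl ⟨h.UH, by rw [h.relIndex_U]; exact (Nat.coprime_two_right.2 h.odd).pow_right 2⟩)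

theorem exists_lin_extension {α : G → ℂ} (hα : IsLin U α) (hs : ⁅U, zpowers s⁆ ≤ cfKer α) :
    ∃ ψ, IsLin (X ⊓ 𝐂[t]) ψ ∧ res U ψ = α := by
  obtain ⟨ψ, h1, h2⟩ := h.exists_extension hα.mem_Irr (inv_mem_iff.1 (mem_inertia.2 (funext fun u => by
    rw [cfConj_apply, inv_inv]
    by_cases hu : u ∈ U
    · rw [show s * u * s⁻¹ = ⁅s, u⁆ * u by group, mem_cfKer.1 (hs (commutator_comm_le _ _
        (commutator_mem_commutator (mem_zpowers s) hu)))]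
    · rw [hα.1 u hu, hα.1 _ (mt (mem_normalizer_iff.1 h.sU u).2 hu)])))
  exact ⟨ψ, (irr_isChar h1).isLin (by rw [← res_one U ψ, h2, hα.2.1]), h2⟩

theorem lin_sq {ψ : G → ℂ} (hψ : IsLin (X ⊓ 𝐂[t]) ψ) : ψ s ^ 2 = 1 := by
  rw [sq, ← hψ.2.2 s h.sH s h.sH, h.ss, hψ.2.1]

theorem ker3 {χ : G → ℂ} (hχ : χ ∈ Irr X) (h3 : dg χ = 3) (e : tw U t χ = -cf1 U) :
    Ker3 X U s := by
  have hc := irr_isChar hχ
  have h1 : χ 1 = 3 := by rw [irr_one_eq hχ, h3, Nat.cast_ofNat]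
  have hl := (h.isChar_half hc (.inl rfl)).isLin (by simp [e, h1]; norm_num)
  refine ⟨cfKer χ, ⟨irr_cfKer_le hχ, le_norm_cfKer hc.mem_CF⟩, fun e' => ?_, fun u hu hs => ?_⟩
  · rw [(irr_eq_cf1_iff hχ).2 e'.ge, dg_cf1] at h3; omega
  have h4 := hl.mul_inv hu
  obtain ⟨m, hm⟩ := h.odd
  have h5 := hl.pow_apply hu 𝐨(U)
  rw [pow_card_of_mem hu, hl.2.1, hm] at h5
  simp only [e, Pi.smul_apply, Pi.add_apply, Pi.neg_apply, res_of_mem _ hu, cf1_of_mem hu,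
    res_of_mem _ (inv_mem hu), cf1_of_mem (inv_mem hu), one_smul, smul_eq_mul] at h4 h5
  rw [← hs, CF_conj hc.mem_CF h.sX, ← sq] at h4
  rw [pow_succ, pow_mul, h4, one_pow, one_mul] at h5
  rw [hc.mem_cfKer_iff, h1]
  linear_combination -2 * h5

theorem principal : ∃ a b c : ℤ, a + b + c = -1 ∧
    ((X ⊓ 𝐂[t]).relIndex X : ℚ) * (1 + (1 / a + 1 / b + 1 / c)) =
      8 * (𝐂[s].relIndex (X ⊓ 𝐂[t]) : ℚ) ^ 2 ∧
    ∀ y, y = a ∨ y = b ∨ y = c → y % 4 = 1 ∧ (y = 1 → ⁅X, X⁆ ≠ X) ∧ (y = -3 → Ker3 X U s) := by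
  have e0 := res_cf1 h.UH
  obtain ⟨χ, c1, c2, c3, δ, d1, d2, d3, d4, d5⟩ := h.pure_block (cf1_mem_Irr _)
    (e0 ▸ cf1_mem_Irr _) (fun g _ u hu e => by rw [cf1_of_mem (h.UH hu), cf1_of_mem (h.UH e)])
    (h.lin_sq (isLin_cf1 _))
  have e1 : tw U t (cf1 X) = cf1 U := res_congr fun u hu => cf1_of_mem (mul_mem (h.UX hu) h.tX)
  obtain ⟨l, hl⟩ := c3 _ (cf1_mem_Irr X) (by rw [← ip_res_right, e0, e1]; simp)
  have e2 : δ l = 1 := by
    have := congrFun (d2 l) 1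
    rw [hl, e1, e0] at this
    simp only [cf1_one, Pi.smul_apply, smul_eq_mul, mul_one] at this
    exact_mod_cast this.symm
  obtain ⟨i, j, k, hi, hj, hk, e3⟩ := exists_three l
  have key : ∀ i, i ≠ l → (δ i * dg (χ i)) % 4 = 1 ∧ (δ i * dg (χ i) = 1 → ⁅X, X⁆ ≠ X) ∧
      (δ i * dg (χ i) = -3 → Ker3 X U s) := fun i hi => by
    have := d4 i
    rw [dg_cf1] at this
    refine ⟨by omega, fun e perf => hi (c2 ?_), fun e => ?_⟩
    · rw [hl]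
      exact eq_cf1_of_dg perf (c1 i) (by rcases d1 i with e' | e' <;> rw [e'] at e <;> omega)
    · have e' := (d1 i).resolve_left fun e' => by rw [e'] at e; omega
      exact h.ker3 (c1 i) (by rw [e'] at e; omega) (by rw [d2, e', e0]; simp)
  refine ⟨δ i * dg (χ i), δ j * dg (χ j), δ k * dg (χ k), ?_, ?_, ?_⟩
  · have := e3 fun i => (δ i * dg (χ i) : ℤ)
    rw [← Int.cast_sum, d3, e2, hl, dg_cf1] at this
    have : (0 : ℤ) = 1 * (1 : ℕ) + (δ i * dg (χ i) + δ j * dg (χ j) + δ k * dg (χ k)) := by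
      exact_mod_cast this
    omega
  · rw [e3, e2, hl, dg_cf1, dg_cf1] at d5
    simpa using d5
  · rintro y (rfl | rfl | rfl)
    exacts [key i hi, key j hj, key k hk]

theorem three_le : 3 * 𝐂[s].relIndex (X ⊓ 𝐂[t]) ^ 2 ≤ (X ⊓ 𝐂[t]).relIndex X := by
  obtain ⟨a, b, c, h1, h2, h3⟩ := h.principal
  have ha := (h3 a (.inl rfl)).1
  have hb := (h3 b (.inr (.inl rfl))).1
  have hc := (h3 c (.inr (.inr rfl))).1
  have := sum_inv_le (z := ![1, a, b, c]) (fun i => by fin_cases i <;> simp <;> omega)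
    (by simp [Fin.sum_univ_four]; omega) one_pos fun i hi => by exact_mod_cast hi
  simp only [Fin.sum_univ_four, Matrix.cons_val, Int.cast_one] at this
  have h4 : (0 : ℚ) ≤ (X ⊓ 𝐂[t]).relIndex X := Nat.cast_nonneg _
  exact_mod_cast (by nlinarith :
    3 * (𝐂[s].relIndex (X ⊓ 𝐂[t]) : ℚ) ^ 2 ≤ (X ⊓ 𝐂[t]).relIndex X)

theorem le_fifteen : (X ⊓ 𝐂[t]).relIndex X ≤ 15 * 𝐂[s].relIndex (X ⊓ 𝐂[t]) ^ 2 := by
  obtain ⟨a, b, c, h1, h2, h3⟩ := h.principal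
  have ha := (h3 a (.inl rfl)).1
  have hb := (h3 b (.inr (.inl rfl))).1
  have hc := (h3 c (.inr (.inr rfl))).1
  have := le_sum_inv (m := 3) (a := a) (b := b) (c := c) (by omega) (by omega) (by omega)
    (by omega) h1
  have h4 : (0 : ℚ) ≤ (X ⊓ 𝐂[t]).relIndex X := Nat.cast_nonneg _
  push_cast at this
  exact_mod_cast (by nlinarith :
    ((X ⊓ 𝐂[t]).relIndex X : ℚ) ≤ 15 * (𝐂[s].relIndex (X ⊓ 𝐂[t]) : ℚ) ^ 2)

theorem nine_le (nk : ¬ Ker3 X U s) :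
    9 * (X ⊓ 𝐂[t]).relIndex X ≤ 91 * 𝐂[s].relIndex (X ⊓ 𝐂[t]) ^ 2 := by
  obtain ⟨a, b, c, h1, h2, h3⟩ := h.principal
  obtain ⟨ha, -, ha'⟩ := h3 a (.inl rfl)
  obtain ⟨hb, -, hb'⟩ := h3 b (.inr (.inl rfl))
  obtain ⟨hc, -, hc'⟩ := h3 c (.inr (.inr rfl))
  have := mt ha' nk
  have := mt hb' nk
  have := mt hc' nk
  have := le_sum_inv (m := 7) (a := a) (b := b) (c := c) (by omega) (by omega) (by omega)
    (by omega) h1
  have h4 : (0 : ℚ) ≤ (X ⊓ 𝐂[t]).relIndex X := Nat.cast_nonneg _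
  push_cast at this
  exact_mod_cast (by nlinarith :
    9 * ((X ⊓ 𝐂[t]).relIndex X : ℚ) ≤ 91 * (𝐂[s].relIndex (X ⊓ 𝐂[t]) : ℚ) ^ 2)

theorem no_linear (perf : ⁅X, X⁆ = X) {ψ : G → ℂ} (hψ : IsLin (X ⊓ 𝐂[t]) ψ) (hst : Stab X U ψ)
    {u : G} (hu : u ∈ U) (h1 : ψ u ≠ 1) : Ker3 X U s ∧ ∃ χ ∈ Irr X, 15 ≤ dg χ := by
  obtain ⟨χ, c1, -, -, δ, d1, d2, d3, d4, d5⟩ := h.pure_block hψ.mem_Irr
    (hψ.res h.UH).mem_Irr hst (h.lin_sq hψ)
  rw [hψ.dg] at d4 d5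
  have e1 : ∀ i, (δ i * dg (χ i)) % 4 = 1 := fun i => by have := d4 i; omega
  have e2 : ∀ i, δ i * dg (χ i) ≠ 1 := fun i e => h1 (by
    have e' := (d1 i).resolve_right fun e' => by rw [e'] at e; omega
    have := congrFun (d2 i) u
    rw [eq_cf1_of_dg perf (c1 i) (by rw [e'] at e; omega), tw_apply _ _ hu,
      cf1_of_mem (mul_mem (h.UX hu) h.tX), e'] at this
    simpa [res_of_mem _ hu] using this.symm)
  have e3 := sum_inv_le (z := fun i => δ i * dg (χ i)) (fun i => by have := e1 i; omega) d3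
    (m := 5) (by norm_num) fun i hi => by
      have := e1 i
      have := e2 i
      exact_mod_cast (by omega : (5 : ℤ) ≤ δ i * dg (χ i))
  have e4 : ((X ⊓ 𝐂[t]).relIndex X : ℚ) ≤ 15 * (𝐂[s].relIndex (X ⊓ 𝐂[t]) : ℚ) ^ 2 := by
    exact_mod_cast h.le_fifteen
  have e5 : (0 : ℚ) < (X ⊓ 𝐂[t]).relIndex X := by
    exact_mod_cast Nat.pos_of_ne_zero (CH1.relIndex_ne_zero' _ _)
  refine ⟨by_contra fun nk => ?_, ?_⟩
  · have : 9 * ((X ⊓ 𝐂[t]).relIndex X : ℚ) ≤ 91 * (𝐂[s].relIndex (X ⊓ 𝐂[t]) : ℚ) ^ 2 := by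
      exact_mod_cast h.nine_le nk
    norm_num at d5 e3
    nlinarith
  · obtain ⟨i, hi⟩ := exists_le_neg e1 e2 d3 (by by_contra e; norm_num at d5 e; nlinarith)
    exact ⟨χ i, c1 i, by rcases d1 i with e | e <;> rw [e] at hi <;> omega⟩

theorem relIndex_le_five {M U' : Subgroup G} (hM : Hyp M U' t s) (h1 : X ⊓ 𝐂[t] ≤ M)
    (h2 : M ≤ X) : M.relIndex X ≤ 5 ∧ 3 ≤ (X ⊓ 𝐂[t]).relIndex M := by
  have e : M ⊓ 𝐂[t] = X ⊓ 𝐂[t] := le_antisymm (inf_le_inf_right _ h2) (le_inf h1 inf_le_right)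
  have h3 := hM.three_le
  have h4 := h.le_fifteen
  have h5 := Nat.pos_of_ne_zero (CH1.relIndex_ne_zero' 𝐂[s] (X ⊓ 𝐂[t]))
  rw [e] at h3
  rw [← relIndex_mul_relIndex _ _ _ h1 h2] at h4
  constructor <;> nlinarith [Nat.pow_pos (n := 2) h5]

end Hyp

theorem over_bot [IsSimpleGroup G] {U M : Subgroup G} {t s : G} (h : Hyp ⊤ U t s) (hM : M ≠ ⊤)
    (hM' : Hyp M U t s) (hC : 𝐂[t] ≤ M) : U = ⊥ := by
  have h0 := inf_le_right.trans hC (a := ⊤ ⊓ 𝐂[t])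
  obtain ⟨h1, h2⟩ := h.relIndex_le_five hM' h0 le_top
  obtain ⟨N, h3, h4, h5⟩ := exists_core (le_top (a := M))
  obtain rfl := (normal_iff_top_le.2 h3.2).eq_bot_or_eq_top.resolve_right
    fun e => hM (top_le_iff.1 (e ▸ h4))
  rw [relIndex_bot_left, ← H1.card_mul_relIndex (le_top (a := M)), ← H1.card_mul_relIndex h0,
    h.card_H] at h5
  obtain ⟨m, hm⟩ := h.odd
  have h6 := Nat.pos_of_ne_zero (CH1.relIndex_ne_zero' M ⊤)
  refine eq_bot_of_card_eq _ (by_contra fun e => ?_)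
  have h7 : 4 * 3 * 3 * M.relIndex ⊤ ≤ _ := le_trans (by gcongr; omega) h5
  generalize M.relIndex ⊤ = n at *
  interval_cases n <;> simp [Nat.factorial] at h7

theorem comm_eq {X U : Subgroup G} {t s x : G} (h : Hyp X U t s) (perf : ⁅X, X⁆ = X)
    (qs : ∀ N : Subgroup G, N ⊲ X → N = X ∨ N ≤ 𝐂(X)) (hx : x ∈ X) (tri : Tri x t s)
    (hB : U ⊓ 𝐂[s] ≤ 𝐂[x]) : ⁅U, zpowers s⁆ = U := by
  by_contra hne
  obtain ⟨α, h1, h2, u, hu, h3⟩ := exists_lin (isSolvable_of_odd h.odd)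
    ⟨comm_le_left_iff.2 (zpowers_le.2 h.sU), by
      rw [commutator_comm]; exact H1.le_normalizer_commutator_self⟩ hne
  obtain ⟨ψ, h4, rfl⟩ := h.exists_lin_extension h1 h2
  obtain ⟨⟨N, h5, h6, h7⟩, χ, hχ, h8⟩ := h.no_linear perf h4 (h.stab hx tri
    (fun g hg u _ => CF_conj h4.mem_CF hg u) fun b hb => by
      rw [mem_cent1_iff_conj.1 (mem_cent1_comm.1 (hB hb))]) hu (by rwa [res_of_mem _ hu] at h3)
  have h9 : U ≤ 𝐂[s] := le_cent1_of_inverted h.odd h.ss h.sU fun u hu e =>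
    mem_cent.1 ((qs N h5).resolve_left h6 (h7 u hu e)) s h.sX
  have key : ∀ N : Subgroup G, N ⊲ X → N ≠ X → 15 ^ 2 ≤ N.relIndex X := fun N h1 h2 =>
    (Nat.pow_le_pow_left h8 2).trans (irr_dg_sq_le h1.1 hχ (by
      rw [comm_eq_bot_iff.2 (cent_comm.1 ((qs N h1).resolve_left h2))]; exact bot_le))
  have h10 : X ⊓ 𝐂[t] ≤ X ⊓ 𝐍(U) := le_inf inf_le_left h.HU
  by_cases e : X ⊓ 𝐍(U) = X
  · have := key U ⟨h.UX, inf_eq_left.1 e⟩ fun e => h.t_notMem (e ▸ h.tX)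
    have h11 := h.le_fifteen
    rw [relIndex_eq_one.2 (h.H_le h9 (mem_cent1_iff_commute.2 h.comm.symm) (self_mem_cent1 s))]
      at h11
    rw [← relIndex_mul_relIndex _ _ _ h.UH inf_le_left, h.relIndex_U] at this
    omega
  · obtain ⟨h11, -⟩ := h.relIndex_le_five (h.sub inf_le_left (h10 h.tH) (h10 h.sH)
      ⟨hx, cent_le_norm U (mem_cent_iff_cent1.2 ((le_inf le_rfl h9).trans hB))⟩ tri) h10 inf_le_left
    obtain ⟨N', h12, h13, h14⟩ := exists_core (inf_le_left : X ⊓ 𝐍(U) ≤ X)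
    have := (key N' h12 fun e' => e (le_antisymm inf_le_left (e' ▸ h13))).trans
      (h14.trans (Nat.factorial_le h11))
    simp [Nat.factorial] at this

end Cfsg.Agent.P5
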