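import Cfsg.Agent.P5.Max2

/-!
Section A of plan P5: the characteristic `p` case, and the conclusion.
-/

set_option autoImplicit false
set_option linter.unusedSectionVars false

namespace Cfsg.Agent.P5

open Cfsg Subgroup H2 Mx
open scoped commutatorElement Pointwise

local notation:max "𝐂[" t "]" => Subgroup.centralizer (Singleton.singleton t : Set _)
local notation:max "𝐂(" X ")" => Subgroup.centralizer (SetLike.coe X)
local notation:max "𝐍(" X ")" => Subgroup.normalizer (SetLike.coe X)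
local notation:max "𝐎(" X ")" => H2.pPrimeCoreOf 2 X

universe u

variable {G : Type u} [Group G] [Finite G] {V : Subgroup G}

theorem K4.bar (hV : K4 V) {Y N : Subgroup G} [(N.subgroupOf Y).Normal] (hY : V ≤ Y)
    (hN : N ⊓ V = ⊥) : K4 (H1.bar Y N V) where
  card := by rw [H1.card_bar hY, ← inf_relIndex_right, hN, relIndex_bot_left, hV.card]
  sq := by
    intro v hv
    obtain ⟨y, hy, rfl⟩ := H1.mem_bar.1 hv
    rw [← map_mul, show y * y = 1 from Subtype.ext (hV.sq y hy), map_one]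
  odd := fun hd => hV.not_dvd_relIndex hY (hd.trans (index_map_dvd _ H1.qmk_surjective))

theorem Mx.eq_one_of_odd_of_sq {p : ℕ} (hp : p.Prime) (hp2 : p ≠ 2) {a : G} {k : ℕ}
    (ha : a ^ p ^ k = 1) (h : a * a = 1) : a = 1 := by
  have := pow_gcd_eq_one.2 ⟨ha, (show a ^ 2 = 1 by rw [pow_two, h])⟩
  rwa [Nat.Coprime.gcd_eq_one (Nat.coprime_two_right.2 (hp.odd_of_ne_two hp2).pow), pow_one]
    at this

/-- The `ZL`-factorization of an overgroup of `V`. -/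
theorem K4.le_sup_norm_zl (hV : K4 V) {p : ℕ} (hp : p.Prime) (hp2 : p ≠ 2) {N S : Subgroup G}
    (hVN : V ≤ N) (hK : pPrimeCoreOf p N ⊓ V = ⊥) (hSN : S ≤ N) (hS : IsPGroup p S)
    (hSi : ¬ p ∣ S.relIndex N) {s : G} (hs : s ∈ V) (hsS : s ∈ 𝐍(S))
    (h1 : ⁅S, zpowers s⁆ ≤ 𝐎(N)) (h2 : ¬ S ≤ 𝐂[s]) :
    N ≤ pPrimeCoreOf p N ⊔ (N ⊓ 𝐍(zl S)) := by
  haveI := Fact.mk hp
  obtain ⟨K, hKd⟩ : ∃ K, K = pPrimeCoreOf p N := ⟨_, rfl⟩
  have hKN : K ≤ N := hKd ▸ pPrimeCoreOf_le p N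
  have hKc : (Nat.card K).Coprime p := hKd ▸ coprime_card_pPrimeCoreOf p N
  haveI := H1.normal_subgroupOf_of_le (hKd ▸ le_normalizer_pPrimeCoreOf p N : N ≤ 𝐍(K))
  have hV' := hV.bar (N := K) hVN (hKd ▸ hK)
  have hsN : zpowers s ≤ N := (zpowers_le.2 hs).trans hVN
  have hSK : S ⊓ K = ⊥ := H1.inf_eq_bot_of_coprime' (H1.coprime_card_of_isPGroup hS hKc).symm
  have hE : layerOf (⊤ : Subgroup (N ⧸ K.subgroupOf N)) = ⊥ := by
    by_contra hE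
    haveI := H1.bar_normal (Y := N) (N := K) (le_normalizer_pPrimeCoreOf 2 N)
    have a1 := ((H1.bar_mono (zpowers_le.2 hs)).trans (hV'.le_layerOf le_top hE)).trans
      (layerOf_le_centralizer_of_isSolvable (L := H1.bar N K 𝐎(N))
        (SnIn.of_normal le_top (normalizer_eq_top _).ge)
        (H1.isSolvable_bar (isSolvable_of_odd (odd_O N))))
    rw [H1.bar_le_centralizer_iff hsN (pPrimeCoreOf_le 2 N), commutator_comm] at a1
    have a2 := H1.commutator_commutator_eq (zpowers_le.2 hsS)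
      (coprime_zpowers (hV.sq s hs) (odd_of_isPGroup hp hp2 hS))
    refine h2 (comm_eq_bot_iff.1 (eq_bot_iff.2 (hSK ▸ le_inf
      (H1.commutator_le_of_le_normalizer (zpowers_le.2 hsS)) ?_)))
    rw [← a2]
    exact (commutator_mono h1 le_rfl).trans a1
  have h0 : pPrimeCoreOf p (⊤ : Subgroup (N ⧸ K.subgroupOf N)) = ⊥ := by
    rw [← H1.bar_top, FT.pPrimeCoreOf_bar hp hKN le_rfl hKc, ← hKd, H1.bar_self]
  have hF : fittingOf (⊤ : Subgroup (N ⧸ K.subgroupOf N)) = pCore p _ := by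
    rw [← pCoreOf_top]
    refine le_antisymm ?_ (pCoreOf_le_fittingOf hp _)
    have := fittingOf_le_sup hp (⊤ : Subgroup (N ⧸ K.subgroupOf N))
    rwa [h0, sup_bot_eq] at this
  have hc := inf_centralizer_fittingOf_le_of_layerOf_eq_bot hE
  rw [hF, top_inf_eq] at hc
  have hS' : IsPGroup p (S.subgroupOf N) := hS.comap_subtype
  have hk : (H1.qmk N K).ker ⊓ S.subgroupOf N = ⊥ := by
    rw [QuotientGroup.ker_mk', eq_bot_iff]
    exact fun y hy => mem_bot.2 (Subtype.ext (mem_bot.1 (hSK ▸ mem_inf.2 ⟨hy.2, hy.1⟩)))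
  have hn := (pStab_of_abelian_sylow_two hp2 hV'.comm_two).zl_normal hc (hS'.map (H1.qmk N K))
    (fun h => hSi (h.trans (index_map_dvd _ H1.qmk_surjective)))
  rw [zl_map hk] at hn
  have h3 := H5.normalizer_map_mk'_le (K.subgroupOf N) (by rwa [card_subgroupOf_of_le hKN])
    (hS'.to_le (zl_le _))
  rw [normalizer_eq_top] at h3
  intro u hu
  obtain ⟨n, hn1, hn2⟩ := h3 (mem_top (H1.qmk N K ⟨u, hu⟩))
  have hzl : (zl (S.subgroupOf N)).map N.subtype = zl S := by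
    rw [← zl_map (ker_inf_eq_bot_of_injective N.subtype_injective _),
      subgroupOf_map_subtype, inf_of_le_left hSN]
  have e : u = u * (n : G)⁻¹ * n := by group
  rw [e, ← hKd]
  refine mul_mem (mem_sup_left ?_) (mem_sup_right (mem_inf.2 ⟨n.2, ?_⟩))
  · refine (H1.qmk_eq_one_iff (Y := N) (N := K) (y := ⟨u, hu⟩ * n⁻¹)).1 ?_
    rw [map_mul, map_inv, ← hn2, mul_inv_cancel]
  · rw [← hzl]
    exact le_normalizer_map N.subtype (mem_map_of_mem _ hn1)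

/-- `V`-invariant `p`-subgroups whose normalizer has a `p`-element outside its odd core that is
centralized by an involution of `V` and inverted by an element of `V`. -/
def MFam (V : Subgroup G) (p : ℕ) (Y : Subgroup G) : Prop :=
  Y ≠ ⊥ ∧ IsPGroup p Y ∧ V ≤ 𝐍(Y) ∧ ∃ s ∈ V, s ≠ 1 ∧ ∃ u ∈ V, ∃ a ∈ 𝐍(Y),
    (∃ k, a ^ p ^ k = 1) ∧ Commute a s ∧ u * a * u = a⁻¹ ∧ a ∉ 𝐎(𝐍(Y))

variable [IsSimpleGroup G]

namespace MCfg

variable {t : G} {p : ℕ} {T M : Subgroup G} (c : MCfg V t p T M) (h : AHyp V)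
include c h

theorem pPrimeCoreOf_eq_bot : pPrimeCoreOf p M = ⊥ := by
  haveI := c.solv h
  haveI := Fact.mk c.pp
  have hF : fittingOf M ≤ pCoreOf p M := fittingOf_le_of fun r hr => by
    by_cases e : r = p
    · exact e ▸ le_rfl
    · exact c.pCoreOf_eq_bot h hr e ▸ bot_le
  rw [eq_bot_iff, ← H1.inf_eq_bot_of_coprime' (H1.coprime_card_of_isPGroup (isPGroup_pCoreOf p M)
    (coprime_card_pPrimeCoreOf p M))]
  exact le_inf le_rfl (((le_inf (pPrimeCoreOf_le p M) ((pPrimeCoreOf_le_centralizer_pCoreOf c.pp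
    M).trans (centralizer_anti hF))).trans inf_centralizer_fittingOf_le).trans hF)

theorem T_le_sylow {P : Subgroup G} (hPM : P ≤ M) (hP : IsPGroup p P)
    (hi : ¬ p ∣ P.relIndex M) : T ≤ P := by
  haveI := Fact.mk c.pp
  exact (c.TO h).trans (pCoreOf_le_of_sylow hPM hP hi)

theorem norm_zl {P : Subgroup G} (hPM : P ≤ M) (hP : IsPGroup p P)
    (hi : ¬ p ∣ P.relIndex M) : 𝐍(zl P) = M := by
  haveI := Fact.mk c.pp
  haveI := hP.isNilpotent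
  refine norm_eq c.co (zl_ne_bot fun e => c.T1 (eq_bot_iff.2 (e ▸ c.T_le_sylow h hPM hP hi)))
    ((zl_le P).trans hPM) fun u hu => ?_
  obtain ⟨o, ho, n, hn, rfl⟩ := exists_mul_normalizer_zl c.p2 (c.solv h)
    (fun T _ => h.k4.comm_two T) hPM hP hi hu
  rw [c.pPrimeCoreOf_eq_bot h, mem_bot] at ho
  rw [ho, one_mul]
  exact hn.2

theorem sylow_top {P : Subgroup G} (hPM : P ≤ M) (hP : IsPGroup p P)
    (hi : ¬ p ∣ P.relIndex M) : ¬ p ∣ P.relIndex ⊤ := by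
  haveI := Fact.mk c.pp
  refine H1.not_dvd_relIndex_of_normalizer le_top hP fun hd => hi ?_
  rw [top_inf_eq] at hd
  rw [← relIndex_mul_relIndex P 𝐍(P) M le_normalizer
    ((normalizer_le_normalizer_zl P).trans (c.norm_zl h hPM hP hi).le)]
  exact hd.mul_right _

theorem exists_sylow {U : Subgroup G} (hUM : U ≤ M) (hU : IsPGroup p U) (hV : V ≤ 𝐍(U)) :
    ∃ P, U ≤ P ∧ P ≤ M ∧ IsPGroup p P ∧ ¬ p ∣ P.relIndex M ∧ V ≤ 𝐍(P) := by
  haveI := Fact.mk c.pp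
  have hVO := (c.VM h).trans (le_normalizer_pPrimeCoreOf 2 M)
  obtain ⟨P, a1, a2, a3, a4, a5⟩ := H1.exists_invariant_sylow_ge hVO (h.k4.coprime (odd_O M))
    (Or.inl h.k4.isSolvable) (h.k4.le_O (c.VM h) (c.nc h) hUM (odd_of_isPGroup c.pp c.p2 hU)) hU hV
  exact ⟨P, a1, a2.trans (pPrimeCoreOf_le 2 M), a3, h.k4.not_dvd_relIndex_of_le_sup c.pp c.p2 a2
    (pPrimeCoreOf_le 2 M) hVO (h.k4.le_sup (c.VM h) (c.nc h)) a4, a5⟩

theorem le_O_norm_zl {S W : Subgroup G} (hS : IsPGroup p S) (hi : ¬ p ∣ S.relIndex ⊤)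
    (hW : W ≤ 𝐍(zl S)) (ho : Odd (Nat.card W)) : W ≤ 𝐎(𝐍(zl S)) := by
  haveI := Fact.mk c.pp
  obtain ⟨P, a1, a2, a3⟩ := H1.exists_sylow_le p M
  obtain ⟨g, -, hg⟩ := H1.exists_conj_eq_sylow le_top hS hi le_top a2 (c.sylow_top h a1 a2 a3)
  rw [H1.map_conj_eq_smul] at hg
  rw [← hg, ← conj_smul_zl, normalizer_conj_smul, c.norm_zl h a1 a2 a3] at hW ⊢
  rw [← conj_smul_pPrimeCoreOf, ← conj_smul_cancel_inv W g]
  refine conj_smul_mono g (h.k4.le_O (c.VM h) (c.nc h) ?_ (by rwa [card_conj_smul]))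
  rw [conj_smul_le_iff, inv_inv]
  exact hW

theorem exists_not_cent {s : G} (hs : s ∈ V) (hs1 : s ≠ 1) {S : Subgroup G} (hS : IsPGroup p S)
    (hV : V ≤ 𝐍(S)) (hc : S ≤ 𝐂[s]) :
    ∃ P, S ≤ P ∧ IsPGroup p P ∧ V ≤ 𝐍(P) ∧ ¬ P ≤ 𝐂[s] := by
  obtain ⟨g, hg, rfl⟩ := h.k4.exists_conj c.tV c.t1 hs hs1
  have c' := c.conj h.k4 hg
  obtain ⟨P, a1, a2, a3, a4, a5⟩ := c'.exists_sylow h (hc.trans c'.CM) hS hV
  exact ⟨P, a1, a3, a5, fun e => c'.not_le ((c'.T_le_sylow h a2 a3 a4).trans e)⟩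

theorem fam_step {Y : Subgroup G} (hY : MFam V p Y) :
    ∃ S, S ≤ 𝐍(Y) ∧ IsPGroup p S ∧ ¬ p ∣ S.relIndex 𝐍(Y) ∧ MFam V p (zl S) := by
  haveI := Fact.mk c.pp
  obtain ⟨hY1, hYp, hVN, s, hs, hs1, u, hu, a, haN, ⟨k, hak⟩, has, hau, haO⟩ := hY
  have hN1 : 𝐍(Y) ≠ ⊤ := norm_ne_top hY1 fun e => by
    have := odd_of_le (le_top.trans e.ge : V ≤ Y) (odd_of_isPGroup c.pp c.p2 hYp)
    rw [h.k4.card] at this
    exact absurd this (by decide)
  obtain ⟨N, hNd⟩ : ∃ N, N = 𝐍(Y) := ⟨_, rfl⟩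
  rw [← hNd] at hVN haN haO hN1 ⊢
  have haa : a * a ≠ 1 := fun e => haO (eq_one_of_odd_of_sq c.pp c.p2 hak e ▸ one_mem _)
  have hu1 : u ≠ 1 := fun e => haa (by
    rw [e, one_mul, mul_one] at hau; exact mul_eq_one_iff_eq_inv.2 hau)
  have hus : s ≠ u := fun e => haa (by
    rw [← e, ← has.eq, mul_assoc, h.k4.sq s hs, mul_one] at hau
    exact mul_eq_one_iff_eq_inv.2 hau)
  have hap : IsPGroup p (zpowers a) := isPGroup_zpowers_of_pow_eq_one hak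
  have hao := odd_of_isPGroup c.pp c.p2 hap
  have hVa : V ≤ 𝐍(zpowers a) := by
    refine h.k4.le_of_mem hs hu hs1 hu1 hus ?_ ?_
    · exact centralizer_le_normalizer _ ((cent_zpowers a).ge (mem_cent1.2 has.symm))
    · refine mem_normalizer_of_conj_smul_le ?_
      rw [conj_smul_zpowers, h.k4.inv_eq hu, hau, zpowers_inv]
  have hNO := le_normalizer_pPrimeCoreOf 2 N
  have hVC : V ≤ N ⊓ 𝐂[s] := le_inf hVN (h.k4.le_cent1 hs)
  have hnc : N ⊓ 𝐂[s] ⊓ 𝐍(V) ≤ 𝐂(V) :=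
    (inf_le_inf_right _ inf_le_right).trans (h.k4.cent1_inf_norm hs hs1)
  obtain ⟨U, hU⟩ : ∃ U, U = 𝐎(N ⊓ 𝐂[s]) := ⟨_, rfl⟩
  have hUC : U ≤ N ⊓ 𝐂[s] := hU ▸ pPrimeCoreOf_le 2 _
  have hUO : U ≤ 𝐍(𝐎(N)) := (hUC.trans inf_le_left).trans hNO
  have hVY : V ≤ 𝐍(U ⊔ 𝐎(N)) := H1.le_normalizer_sup
    (hU ▸ hVC.trans (le_normalizer_pPrimeCoreOf 2 _)) (hVN.trans hNO)
  have hodd : Odd (Nat.card (U ⊔ 𝐎(N) : Subgroup G)) := odd_sup hUO (hU ▸ odd_O _) (odd_O N)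
  have haU : zpowers a ≤ U :=
    hU ▸ h.k4.le_O hVC hnc (zpowers_le.2 (mem_inf.2 ⟨haN, mem_cent1.2 has⟩)) hao
  obtain ⟨S, a1, a2, a3, a4, a5⟩ := H1.exists_invariant_sylow_ge hVY (h.k4.coprime hodd)
    (Or.inl h.k4.isSolvable) (haU.trans le_sup_left) hap hVa
  have hYN : U ⊔ 𝐎(N) ≤ 𝐎(N) ⊔ (N ⊓ 𝐂[s]) := sup_le (hUC.trans le_sup_right) le_sup_left
  have hXN : 𝐎(N) ⊔ (N ⊓ 𝐂[s]) ≤ N := sup_le (pPrimeCoreOf_le 2 N) inf_le_left
  have hSN : S ≤ N := (a2.trans hYN).trans hXN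
  have hSi : ¬ p ∣ S.relIndex N := by
    rw [← relIndex_mul_relIndex _ _ _ (a2.trans hYN) hXN, c.pp.dvd_mul, not_or]
    refine ⟨h.k4.not_dvd_relIndex_of_le_sup c.pp c.p2 a2 hYN hVY (sup_le
      (le_sup_right.trans le_sup_left) ((h.k4.le_sup hVC hnc).trans
        (sup_le_sup_right (hU ▸ le_sup_left) _))) a4,
      (h.kf N hN1 hVN).k2 s hs hs1 u hu p c.pp c.p2 a haN ⟨k, hak⟩ has hau haO⟩
  have hSs : ⁅S, zpowers s⁆ ≤ 𝐎(N) := by
    refine (commutator_mono a2 le_rfl).trans ?_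
    rw [commutator_comm]
    refine H1.commutator_sup_le hUO le_normalizer ?_ ?_
    · rw [commutator_comm, comm_eq_bot_iff.2 (hUC.trans inf_le_right)]
      exact bot_le
    · rw [commutator_comm]
      exact H1.commutator_le_of_le_normalizer ((zpowers_le.2 hs).trans (hVN.trans hNO))
  have hYS : Y ≤ S :=
    H1.le_sylow_of_le_normalizer hSN a3 hSi (hNd ▸ le_normalizer) hYp (hNd ▸ hSN)
  have hnS : ¬ S ≤ 𝐂[s] := by
    intro hc
    obtain ⟨P, b1, b2, b3, b4⟩ := c.exists_not_cent h hs hs1 a3 a5 hc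
    have e : P ⊓ N = S :=
      H1.sylow_maximal hSi (le_inf b1 hSN) inf_le_right (b2.to_le inf_le_left)
    refine b4 (zpowers_le_cent_iff.1 (H1.pxq_lemma hYp b2 ((hYS.trans b1).trans le_normalizer)
      ((zpowers_le.2 hs).trans b3) ((hYS.trans hc).trans (cent_zpowers s).ge)
      (coprime_zpowers (h.k4.sq s hs) (odd_of_isPGroup c.pp c.p2 b2)) ?_))
    rw [cent_zpowers]
    exact ((inf_le_inf_left _ (hNd ▸ centralizer_le_normalizer _)).trans e.le).trans hc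
  have hK : pPrimeCoreOf p N ⊓ V = ⊥ := by
    by_contra h0
    obtain ⟨v, hv, hv1⟩ := (bot_or_exists_ne_one _).resolve_left h0
    obtain ⟨x, hx, hxc⟩ := SetLike.not_le_iff_exists.1 fun e : N ⊓ 𝐍(V) ≤ 𝐂(V) =>
      haO (h.k4.le_O hVN e (zpowers_le.2 haN) hao (mem_zpowers a))
    obtain ⟨g, hg, e⟩ := h.k4.exists_conj_of_not_cent hx.2 hxc hv.2 hv1 hu hu1
    have hKn := le_normalizer_pPrimeCoreOf p N
    have huK : u ∈ pPrimeCoreOf p N :=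
      e ▸ H1.conj_mem_of_le_normalizer hKn (zpowers_le.2 hx.1 hg) hv.1
    have h1 : a * a ∈ pPrimeCoreOf p N := by
      have := mul_mem (H1.conj_mem_of_le_normalizer hKn haN huK) huK
      rw [← hau] at this
      have e2 : a * u * (u * a * u) * u = a * a := by
        calc a * u * (u * a * u) * u = a * (u * u) * a * (u * u) := by group
          _ = a * a := by rw [h.k4.sq u hu]; group
      rwa [e2] at this
    have h2 := H1.inf_eq_bot_of_coprime' (H1.coprime_card_of_isPGroup hap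
      (coprime_card_pPrimeCoreOf p N))
    exact haa (mem_bot.1 (h2 ▸ mem_inf.2 ⟨h1, mul_mem (mem_zpowers a) (mem_zpowers a)⟩))
  have hKO : pPrimeCoreOf p N ≤ 𝐎(N) := by
    refine le_O_of_snIn (snIn_pPrimeCoreOf p N) (Nat.not_even_iff_odd.1 fun he => ?_)
    have := not_dvd_relIndex_inf (h.k4.not_dvd_relIndex hVN) hVN (pPrimeCoreOf_le p N)
      (hVN.trans (le_normalizer_pPrimeCoreOf p N))
    rw [inf_comm, hK, relIndex_bot_left] at this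
    exact this (even_iff_two_dvd.1 he)
  have hfac := h.k4.le_sup_norm_zl c.pp c.p2 hVN hK hSN a3 hSi hs (a5 hs) hSs hnS
  haveI := a3.isNilpotent
  have hSz : S ≤ 𝐍(zl S) := le_normalizer.trans (normalizer_le_normalizer_zl S)
  refine ⟨S, hSN, a3, hSi, zl_ne_bot fun e => hY1 (eq_bot_iff.2 (e ▸ hYS)), a3.to_le (zl_le S),
    a5.trans (normalizer_le_normalizer_zl S), s, hs, hs1, u, hu, a, hSz (a1 (mem_zpowers a)),
    ⟨k, hak⟩, has, hau, fun haO' => haO ?_⟩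
  have b1 : 𝐎(𝐍(zl S)) ⊓ N ⊔ 𝐎(N) ≤ N := sup_le inf_le_right (pPrimeCoreOf_le 2 N)
  have b2 : N ≤ 𝐍(𝐎(𝐍(zl S)) ⊓ N ⊔ 𝐎(N)) := hfac.trans (sup_le
    ((hKO.trans le_sup_right).trans le_normalizer) (H1.le_normalizer_sup (H1.le_normalizer_inf
      (inf_le_right.trans (le_normalizer_pPrimeCoreOf 2 _)) (inf_le_left.trans le_normalizer))
      (inf_le_left.trans hNO)))
  exact le_O_of_snIn (SnIn.of_normal b1 b2) (odd_sup (inf_le_right.trans hNO)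
    (odd_of_le inf_le_left (odd_O _)) (odd_O N)) (mem_sup_left (mem_inf.2 ⟨haO', haN⟩))

theorem not_fam (Y : Subgroup G) : ¬ MFam V p Y := by
  intro hY
  haveI := Fact.mk c.pp
  obtain ⟨⟨Y₀, S₀⟩, ⟨h1, h2, h3⟩, hmax⟩ := Set.exists_max_image
    {z : Subgroup G × Subgroup G | MFam V p z.1 ∧ z.2 ≤ 𝐍(z.1) ∧ IsPGroup p z.2}
    (fun z => Nat.card z.2) (Set.toFinite _) ⟨⟨Y, ⊥⟩, hY, bot_le, IsPGroup.of_bot⟩
  obtain ⟨S, a1, a2, a3, a4⟩ := c.fam_step h h1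
  have hle : Nat.card S₀ ≤ Nat.card S := by
    obtain ⟨g, -, hg⟩ := H1.exists_conj_le_sylow a2 a3 h2 h3
    rw [← H1.card_map_conj S₀ g]
    exact card_le_of_le hg
  have hS : ¬ p ∣ S.relIndex ⊤ := by
    refine H1.not_dvd_relIndex_of_normalizer le_top a2 (H1.not_dvd_relIndex_of_maximal
      (le_inf le_top le_normalizer) a2 fun Q b1 b2 b3 => (H1.eq_of_le_of_card_le b1 ?_).symm)
    exact (hmax ⟨zl S, Q⟩ ⟨a4, (b2.trans inf_le_right).trans (normalizer_le_normalizer_zl S),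
      b3⟩).trans hle
  obtain ⟨-, -, -, s, -, -, u, -, a, haN, ⟨k, hak⟩, -, -, haO⟩ := a4
  exact haO (c.le_O_norm_zl h a2 hS (zpowers_le.2 haN) (odd_of_isPGroup c.pp c.p2
    (isPGroup_zpowers_of_pow_eq_one hak)) (mem_zpowers a))

theorem exists_not_le_M : ∃ Q : Subgroup G, IsPGroup p Q ∧ V ≤ 𝐍(Q) ∧ ¬ Q ≤ M ∧ Q ⊓ M ≠ ⊥ := by
  haveI := Fact.mk c.pp
  obtain ⟨s, hs, hs1, hst, hy⟩ := c.exists_not_le h
  obtain ⟨g, hg, e⟩ := h.k4.exists_conj c.tV c.t1 hs hs1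
  have c' := c.conj h.k4 hg
  obtain ⟨P, a1, a2, a3, a4, a5⟩ := c'.exists_sylow h (U := T ⊓ 𝐂[s])
    (inf_le_right.trans (e ▸ c'.CM)) (c.pT.to_le inf_le_left)
    (H1.le_normalizer_inf (c.VT h) ((h.k4.le_cent1 hs).trans le_normalizer))
  refine ⟨P, a3, a5, fun hPM => c.ne_conj h hg (e ▸ hst) ?_, fun h0 => hy ?_⟩
  · rw [← c'.norm_zl h a2 a3 a4]
    refine c.norm_zl h hPM a3 fun hd => c'.sylow_top h a2 a3 a4 ?_
    rw [← relIndex_mul_relIndex P M ⊤ hPM le_top]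
    exact hd.mul_right _
  · exact ((le_inf a1 (inf_le_left.trans c.TM)).trans h0.le).trans bot_le

theorem false : False := by
  haveI := Fact.mk c.pp
  obtain ⟨Q, ⟨h1, h2, h3, h4⟩, hmax⟩ := Set.exists_max_image
    {Q : Subgroup G | IsPGroup p Q ∧ V ≤ 𝐍(Q) ∧ ¬ Q ≤ M ∧ Q ⊓ M ≠ ⊥}
    (fun Q => Nat.card (Q ⊓ M : Subgroup G)) (Set.toFinite _) (c.exists_not_le_M h)
  obtain ⟨D, hD⟩ : ∃ D, D = Q ⊓ M := ⟨_, rfl⟩
  rw [← hD] at h4 hmax
  have hDp : IsPGroup p D := hD ▸ h1.to_le inf_le_left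
  have hVD : V ≤ 𝐍(D) := hD ▸ H1.le_normalizer_inf h2 ((c.VM h).trans le_normalizer)
  have hDQ : D < Q := hD ▸ lt_of_le_of_ne inf_le_left fun e => h3 (inf_eq_left.1 e)
  have hNO := le_normalizer_pPrimeCoreOf 2 𝐍(D)
  obtain ⟨Y, hY⟩ : ∃ Y, Y = 𝐍(D) ⊓ 𝐎(𝐂(V)) ⊔ 𝐎(𝐍(D)) := ⟨_, rfl⟩
  have hYo : Odd (Nat.card Y) :=
    hY ▸ odd_sup (inf_le_left.trans hNO) (odd_of_le inf_le_right (odd_O _)) (odd_O _)
  have hVY : V ≤ 𝐍(Y) := hY ▸ H1.le_normalizer_sup (H1.le_normalizer_inf (hVD.trans le_normalizer)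
    (h.k4.le_cent.trans (le_normalizer_pPrimeCoreOf 2 _))) (hVD.trans hNO)
  have key : ∀ W, W ≤ 𝐍(D) → IsPGroup p W → V ≤ 𝐍(W) → W ≤ Y := by
    intro W hWN hW hVW
    have hWo := odd_of_isPGroup c.pp c.p2 hW
    refine H1.le_of_forall_centralizer_le h.k4.isMulCommutative h.k4.not_isCyclic hVW
      (h.k4.coprime hWo) fun s hs hs1 w hw => ?_
    obtain ⟨u, hu, hu1, hus⟩ := h.k4.exists_ne s
    obtain ⟨b, hb, a, ha, e1, e2, rfl⟩ := exists_cent_mul_inv (odd_of_le inf_le_left hWo)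
      (h.k4.sq u hu) (H1.le_normalizer_inf hVW ((h.k4.le_cent1 hs).trans le_normalizer) hu) hw
    rw [hY]
    refine mul_mem (mem_sup_left (mem_inf.2 ⟨hWN hb.1, ?_⟩)) (mem_sup_right ?_)
    · refine h.k4.le_O h.k4.le_cent inf_le_left (zpowers_le.2 ?_)
        (odd_of_le (zpowers_le.2 hb.1) hWo) (mem_zpowers b)
      exact H1.mem_centralizer_iff_le.2 (h.k4.le_of_mem hs hu hs1 hu1 hus.symm
        (mem_cent1.2 (mem_cent1.1 hb.2).symm) (mem_cent1.2 e1.symm))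
    · by_contra haO
      exact c.not_fam h D ⟨h4, hDp, hVD, s, hs, hs1, u, hu, a, hWN ha.1,
        exists_pow_eq_one_of_mem hW ha.1, mem_cent1.1 ha.2, e2, haO⟩
  obtain ⟨P, a1, a2, a3, a4, a5⟩ := c.exists_sylow h (hD ▸ inf_le_right) hDp hVD
  have hDP : D < P := lt_of_le_of_ne a1 fun e => hDQ.ne'
    (H1.sylow_maximal (e ▸ c.sylow_top h a2 a3 a4) hDQ.le le_top h1)
  obtain ⟨x, hxQ, hxN, hxD⟩ := H1.exists_mem_normalizer_of_lt h1.isNilpotent hDQ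
  obtain ⟨y, hyP, hyN, hyD⟩ := H1.exists_mem_normalizer_of_lt a3.isNilpotent hDP
  have hVN : V ≤ 𝐍(𝐍(D)) := hVD.trans le_normalizer
  obtain ⟨S, b1, b2, b3, b4, b5⟩ := H1.exists_invariant_sylow_ge hVY (h.k4.coprime hYo)
    (Or.inl h.k4.isSolvable) (key (P ⊓ 𝐍(D)) inf_le_right (a3.to_le inf_le_left)
      (H1.le_normalizer_inf a5 hVN)) (a3.to_le inf_le_left) (H1.le_normalizer_inf a5 hVN)
  obtain ⟨g, hg, hgS⟩ := H1.exists_centralizer_conj_le_sylow hVY (h.k4.coprime hYo)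
    (Or.inl h.k4.isSolvable) b2 b3 b4 b5 (key (Q ⊓ 𝐍(D)) inf_le_right (h1.to_le inf_le_left)
      (H1.le_normalizer_inf h2 hVN)) (h1.to_le inf_le_left) (H1.le_normalizer_inf h2 hVN)
  have hDS : D < S ⊓ M := lt_of_le_of_ne
    (le_inf ((le_inf a1 le_normalizer).trans b1) (hD ▸ inf_le_right))
    fun e => hyD (e ▸ mem_inf.2 ⟨b1 (mem_inf.2 ⟨hyP, hyN⟩), a2 hyP⟩)
  have hSM : S ≤ M := by
    by_contra hn
    exact (H1.card_lt_of_lt hDS).not_ge (hmax S ⟨b3, b5, hn, fun e => not_lt_bot (e ▸ hDS)⟩)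
  have hgM := c.CVM h hg.2
  have := hSM (H1.map_conj_le_iff.1 hgS x (mem_inf.2 ⟨hxQ, hxN⟩))
  exact hxD (hD ▸ mem_inf.2 ⟨hxQ, (mul_mem_cancel_left hgM).1
    ((mul_mem_cancel_right (inv_mem hgM)).1 this)⟩)

end MCfg

theorem AHyp.isCoatom (h : AHyp V) {t : G} (ht : t ∈ V) (ht1 : t ≠ 1) : IsCoatom 𝐂[t] := by
  by_contra hn
  obtain ⟨M, hM, hCM⟩ := exists_coatom_ge (h.k4.cent1_ne_top ht ht1)
  have hVM : V ≤ M := (h.k4.le_cent1 ht).trans hCM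
  have hnc := h.t0 t ht ht1 M hM.1 hCM
  have htO : zpowers t ≤ 𝐍(𝐎(M)) :=
    (zpowers_le.2 ht).trans (hVM.trans (le_normalizer_pPrimeCoreOf 2 M))
  obtain ⟨p, hp, hp1⟩ : ∃ p : ℕ, p.Prime ∧ ¬ zpowers t ≤ 𝐂(pCoreOf p 𝐎(M)) := by
    by_contra hcon
    push Not at hcon
    have h1 := FT.coprime_cent_fitting htO (coprime_zpowers (h.k4.sq t ht) (odd_O M))
      (isSolvable_of_odd (odd_O M)) (le_cent_fittingOf hcon)
    exact hn (le_antisymm ((h.k4.le_sup hVM hnc).trans (sup_le (zpowers_le_cent_iff.1 h1)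
      (h.k4.le_cent1 ht))) hCM ▸ hM)
  have hodd : Odd (Nat.card (pCoreOf p 𝐎(M))) := odd_of_le (pCoreOf_le _ _) (odd_O M)
  have hp2 : p ≠ 2 := by
    rintro rfl
    obtain ⟨k, hk⟩ := IsPGroup.iff_card.1 (isPGroup_pCoreOf 2 𝐎(M))
    rw [hk] at hodd
    obtain rfl : k = 0 := by
      by_contra h0
      exact Nat.not_even_iff_odd.2 hodd (Nat.even_pow.2 ⟨even_two, h0⟩)
    rw [pow_zero, card_eq_one] at hk
    exact hp1 (by rw [hk, zpowers_le_cent_iff]; exact bot_le)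
  have hMP : M ≤ 𝐍(pCoreOf p 𝐎(M)) :=
    (le_normalizer_pPrimeCoreOf 2 M).trans (normalizer_le_normalizer_pCoreOf p _)
  have htP := (zpowers_le.2 ht).trans (hVM.trans hMP)
  have hT := H1.commutator_le_of_le_normalizer htP
  have hT1 : ⁅pCoreOf p 𝐎(M), zpowers t⁆ ≠ ⊥ := fun e =>
    hp1 (H1.commutator_eq_bot_iff_le_centralizer'.1 e)
  obtain ⟨R, hR, hN⟩ := exists_coatom_norm hM.1 hT1
    (hT.trans ((pCoreOf_le _ _).trans (pPrimeCoreOf_le 2 M)))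
  exact MCfg.false ⟨ht, ht1, hp, hp2, (isPGroup_pCoreOf p _).to_le hT, hT1,
    H1.commutator_commutator_eq htP (coprime_zpowers (h.k4.sq t ht) hodd),
    H1.le_normalizer_commutator (hCM.trans hMP) (cent1_le_norm_zpowers t), hN, hR⟩ h

/-- Section A: the centralizer of an involution is a maximal subgroup. -/
theorem K4.isCoatom_centralizer (hV : K4 V) (hK : ∀ X : Subgroup G, X ≠ ⊤ → V ≤ X → KFact V X)
    (T0 : ∀ t ∈ V, t ≠ 1 → ∀ M : Subgroup G, M ≠ ⊤ → 𝐂[t] ≤ M → M ⊓ 𝐍(V) ≤ 𝐂(V))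
    {t : G} (ht : t ∈ V) (ht1 : t ≠ 1) : IsCoatom 𝐂[t] :=
  AHyp.isCoatom ⟨hV, hK, T0⟩ ht ht1

end Cfsg.Agent.P5
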