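import Cfsg.Agent.P5.B1

/-! A group of odd order with an involution acting irreducibly on a group of order `p ^ 2`. -/

set_option autoImplicit false
set_option linter.unusedSectionVars false

namespace Cfsg.Agent.P5

open Subgroup Cfsg Cfsg.Agent Cfsg.Agent.FT
open scoped commutatorElement

universe u

variable {G : Type u} [Group G] [Finite G]

theorem mem_norm_of_inv {X : Subgroup G} {s : G} (ss : s * s = 1) (hs : ∀ a ∈ X, s * a * s = a⁻¹) :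
    s ∈ 𝐍(X) := mem_norm_of_conj_le fun a ha => by
  obtain ⟨w, hw, rfl⟩ := mem_conj'.1 ha
  rw [inv_eq_of_sq ss, hs w hw]; exact X.inv_mem hw

theorem relIndex_cent1_le {C N : Subgroup G} {b : G} (h : ∀ c ∈ C, ⁅c, b⁆ ∈ N) :
    (𝐂[b] : Subgroup G).relIndex C ≤ 𝐨(N) := by
  refine Nat.card_le_card_of_injective (β := N) (Quotient.lift (fun c : C => ⟨⁅(c : G), b⁆, h c c.2⟩)
    fun c d e => Subtype.ext ?_) fun c d => ?_
  · have := mem_cent1.1 (mem_subgroupOf.1 (QuotientGroup.leftRel_apply.1 e))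
    push_cast at this
    simp only [commutatorElement_def]
    rw [mul_left_inj, ← mul_left_inj (d : G), ← mul_right_inj (c : G)⁻¹]
    simpa [mul_assoc] using this
  · refine Quotient.inductionOn₂' c d fun c d e => Quotient.sound' (QuotientGroup.leftRel_apply.2
      (mem_subgroupOf.2 (mem_cent1.2 ?_)))
    have : ⁅(c : G), b⁆ = ⁅(d : G), b⁆ := congrArg Subtype.val e
    simp only [commutatorElement_def] at this
    rw [mul_left_inj, ← mul_left_inj (d : G), ← mul_right_inj (c : G)⁻¹] at this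
    simpa [mul_assoc] using this

theorem gl2 {W U : Subgroup G} {s : G} {p : ℕ} (hp : p.Prime) (p2 : p ≠ 2) (hW : IsElem p 2 W)
    (ho : Odd 𝐨(U)) (ss : s * s = 1) (WU : W ≤ U) (UW : U ≤ 𝐍(W)) (sW : s ∈ 𝐍(W)) (sU : s ∈ 𝐍(U))
    (hc : ⁅U, zpowers s⁆ = U) (irr : ∀ Y ≤ W, U ≤ 𝐍(Y) → s ∈ 𝐍(Y) → Y = ⊥ ∨ Y = W) :
    (∀ u ∈ U, ∀ w ∈ W, w ≠ 1 → Commute u w → u ∈ 𝐂(W)) ∧ U ⊓ 𝐂[s] ≤ 𝐂(W) ∧ ¬ U ≤ 𝐂(W) ∧
      2 * (𝐂(W) : Subgroup G).relIndex U ≤ p + 1 := by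
  have oW := Mx.odd_of_isPGroup hp p2 hW.pgrp
  have key : ∀ K : Subgroup G, U ≤ 𝐍(K) → s ∈ 𝐍(K) → W ⊓ 𝐂(K) ≠ ⊥ → K ≤ 𝐂(W) :=
    fun K h1 h2 h3 => cent_comm.1 (inf_eq_left.1 ((irr _ inf_le_left (H1.le_normalizer_inf UW
      (H1.le_normalizer_centralizer h1)) (mem_norm_inf sW
        (H1.normalizer_le_normalizer_centralizer K h2))).resolve_left h3))
  have der : ⁅U, U⁆ ≤ 𝐂(W) := by
    obtain ⟨S, hS⟩ := exists_isSyl hp ⁅U, U⁆
    obtain ⟨n, hn⟩ := gl2_der_pgroup hp hW.elemAb hW.card.le UW (isSolvable_of_odd ho)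
      (ho.of_dvd_nat (relIndex_dvd_card _ U))
    have h1 := hS.le.trans ((der_le U).trans UW)
    refine key _ (der_normal U).2 (norm_le_norm_der U sU) fun e => inf_center_ne_bot
      (isNilpotent_of_isPGroup hp (isPGroup_sup hS.pgrp hW.pgrp h1))
      ⟨le_sup_right, sup_le h1 (le_norm_self W)⟩ (hW.ne_bot hp two_ne_zero)
      (eq_bot_iff.2 (e ▸ le_inf inf_le_left (cent_comm.1 (le_of_forall_exists_isSyl_le
        fun q hq _ => ?_))))
    by_cases h2 : q = p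
    · exact ⟨S, h2 ▸ hS, cent_comm.1 (inf_le_right.trans (cent_anti le_sup_left))⟩
    · obtain ⟨T, hT⟩ := exists_isSyl hq (⁅U, U⁆ ⊓ 𝐂(W))
      refine ⟨T, hT.trans hq inf_le_left ?_, hT.le.trans (inf_le_right.trans
        (cent_anti inf_le_left))⟩
      rw [inf_relIndex_left, hn]
      exact fun e => h2 ((Nat.prime_dvd_prime_iff_eq hq hp).1 (hq.dvd_of_dvd_pow e))
  have hB : U ⊓ 𝐂[s] ≤ 𝐂(W) := fun b hb => by
    have h1 : U ≤ U ⊔ zpowers s := le_sup_left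
    have h2 : zpowers s ≤ U ⊔ zpowers s := le_sup_right
    have := H1.normal_subgroupOf_of_le (Y := U ⊔ zpowers s) (N := 𝐂(W))
      (H1.le_normalizer_centralizer (sup_le UW (zpowers_le.2 sW)))
    have h3 := H1.centralizer_inf_commutator_eq_bot ((H1.isMulCommutative_bar_iff h1).2 der)
      (H1.bar_le_normalizer (zpowers_le.2 sU)) (H1.coprime_bar (Mx.coprime_zpowers ss ho))
    rw [← H1.bar_commutator h1 h2, hc, eq_bot_iff] at h3
    refine (H1.qmk_eq_one_iff (y := ⟨b, h1 hb.1⟩)).1 (mem_bot.1 (h3 ⟨(H1.qmk_mem_centralizer_bar_iff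
      h2).2 fun k hk => ?_, H1.qmk_mem_bar hb.1⟩))
    rw [commutatorElement_eq_one_iff_mul_comm.2
      (mem_cent1.1 (cent1_le_cent1_of_mem_zpowers hk hb.2)).symm]
    exact one_mem _
  have inv : ∀ u ∈ U, s * u * s * u ∈ 𝐂(W) := fun u hu => by
    obtain ⟨b, hb, i, hi, e1, e2, rfl⟩ := Mx.exists_cent_mul_inv ho ss sU hu
    have h1 := hB ⟨hb, mem_cent1_iff_commute.2 e1.symm⟩
    have h2 := H1.conj_mem_of_le_normalizer' le_rfl (H1.le_normalizer_centralizer UW hi) h1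
    convert mul_mem h1 h2 using 1
    rw [← e2, ← mul_assoc s, ← e1.eq]; group
  have fpf : ∀ u ∈ U, ∀ w ∈ W, w ≠ 1 → Commute u w → u ∈ 𝐂(W) := fun u hu w hw w1 e => by
    have h1 : zpowers u ⊔ U ⊓ 𝐂(W) ≤ U := sup_le (zpowers_le.2 hu) inf_le_left
    refine key (zpowers u ⊔ U ⊓ 𝐂(W)) (le_norm_of_der_le ((le_inf (der_le U) der).trans
      le_sup_right) h1) (mem_norm_of_conj_le ?_) (fun e' => w1 (mem_bot.1 (e'.le ⟨hw, ?_⟩)))
      (mem_sup_left (mem_zpowers u))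
    · rw [conj_sup, ← zpowers_conj, conj_eq_of_mem_norm (mem_norm_inf sU
        (H1.normalizer_le_normalizer_centralizer W sW)), sup_le_iff, zpowers_le, inv_eq_of_sq ss]
      refine ⟨?_, le_sup_right⟩
      rw [← mul_inv_cancel_right (s * u * s) u]
      refine mul_mem (mem_sup_right ⟨mul_mem ?_ hu, inv u hu⟩)
        (mem_sup_left (inv_mem (mem_zpowers u)))
      simpa [inv_eq_of_sq ss] using (mem_normalizer_iff.1 sU u).1 hu
    · rw [cent_sup, cent_zpowers]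
      exact ⟨mem_cent1_iff_commute.2 e, cent_comm.1 inf_le_right hw⟩
  have ivt : W ⊓ 𝐂[s] = ⊥ → ∀ a ∈ W, s * a * s = a⁻¹ := fun e =>
    L.inverts_of_fpf ss sW fun a ha hc => mem_bot.1 (e.le ⟨ha, mem_cent1_iff_commute.2 hc⟩)
  have nle : ¬ U ≤ 𝐂(W) := fun e => by
    obtain ⟨X, h1, h2, h3⟩ : ∃ X ≤ W, 𝐨(X) = p ∧ s ∈ 𝐍(X) := by
      by_cases h0 : W ⊓ 𝐂[s] = ⊥
      · obtain ⟨X, h1, h2⟩ := exists_le_card_eq_prime hp (hW.prime_dvd two_ne_zero)
        exact ⟨X, h1, h2, mem_norm_of_inv ss fun a ha => ivt h0 a (h1 ha)⟩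
      · obtain ⟨X, h1, h2⟩ := exists_le_card_eq_prime hp
          (prime_dvd_card_of_isPGroup hp (hW.pgrp.to_le inf_le_left) h0)
        exact ⟨X, h1.trans inf_le_left, h2,
          cent_le_norm _ (mem_cent_iff_cent1.2 (h1.trans inf_le_right))⟩
    rcases irr X h1 ((e.trans (cent_anti h1)).trans (cent_le_norm _)) h3 with rfl | rfl
    · exact hp.one_lt.ne (by simpa using h2)
    · exact hW.not_isCyclic hp le_rfl (isCyclic_of_card_prime (h2 ▸ hp))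
  refine ⟨fpf, hB, nle, ?_⟩
  have hs := zpowers_le.2 sW
  have n1 : W ⊓ 𝐂[s] ≠ ⊥ := fun e => nle (hc ▸ Mx.comm_le_cent_of_inverts ss sW (ivt e) UW)
  have n2 : ⁅W, zpowers s⁆ ≠ ⊥ := fun e => nle (hc ▸ (commutator_mono le_rfl
    (cent_comm.1 (comm_eq_bot_iff.1 e))).trans (comm_le_right_iff.2
      (H1.le_normalizer_centralizer UW)))
  have n3 := H1.centralizer_inf_commutator_eq_bot hW.comm hs (Mx.coprime_zpowers ss oW)
  rw [cent_zpowers] at n3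
  have n4 := comm_le_left_iff.2 hs
  have n5 := L.inverts_of_fpf ss (zpowers_le.1 (H1.le_normalizer_commutator_self (G := W)))
    fun a ha hc => mem_bot.1 (n3.le ⟨mem_cent1_iff_commute.2 hc, ha⟩)
  set T : Set G := {w | w ∈ sharp W ∧ (s * w * s = w ∨ s * w * s = w⁻¹)}
  have sub : sharp (W ⊓ 𝐂[s]) ∪ sharp ⁅W, zpowers s⁆ ⊆ T := by
    rintro w (hw | hw)
    · exact ⟨⟨hw.1.1, hw.2⟩, .inl (by rw [mem_cent1.1 hw.1.2, mul_assoc, ss, mul_one])⟩
    · exact ⟨⟨n4 hw.1, hw.2⟩, .inr (n5 w hw.1)⟩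
  have cw : ∀ {g w : G}, g ∈ 𝐂(W) → w ∈ W → g * w * g⁻¹ = w := fun hg hw =>
    mem_cent1_iff_conj.1 (cent_le_cent1 hw hg)
  have h3 := NormedTI.ncard_classSupp (A := T) (X := U) (L := U ⊓ 𝐂(W)) {
    nonempty := ((sharp_nonempty.2 n1).inl).mono sub
    one_notMem := fun e => e.1.2 rfl
    subset := fun w hw => ⟨WU hw.1.1, hW.le_cent hw.1.1⟩
    le := inf_le_left
    norm := fun g hg w hw => by rwa [cw hg.2 hw.1.1]
    ti := fun u hu w hw hw' => by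
      have k0 : s * w * s ∈ W := by
        simpa [inv_eq_of_sq ss] using (mem_normalizer_iff.1 sW w).1 hw.1.1
      have k1 : s * (u * w * u⁻¹) * s = u⁻¹ * (s * w * s) * u := by
        rw [← cw (inv u hu) (H1.conj_mem_of_le_normalizer' le_rfl (UW hu) k0)]
        simp only [mul_inv_rev, inv_eq_of_sq ss, mul_assoc, mul_inv_cancel_left,
          inv_mul_cancel_left]
        rw [← mul_assoc s s, ss, one_mul, ← mul_assoc s s, ss, one_mul]
      have k2 : u * u * w * (u * u)⁻¹ = w ∨ u * u * w * (u * u)⁻¹ = w⁻¹ := by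
        have k3 : u * u * w * (u * u)⁻¹ = u * (u * w * u⁻¹) * u⁻¹ := by group
        rw [k3]
        rcases hw.2 with e | e <;> rcases hw'.2 with e' | e' <;> rw [e, e'] at k1
        · left; rw [k1]; group
        · right; rw [inv_eq_iff_eq_inv.1 k1]; group
        · right; rw [k1]; group
        · left; rw [inv_eq_iff_eq_inv.1 k1]; group
      have k4 : u * u * (u * u) * w * (u * u * (u * u))⁻¹ = w := by
        have k3 : u * u * (u * u) * w * (u * u * (u * u))⁻¹ =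
          u * u * (u * u * w * (u * u)⁻¹) * (u * u)⁻¹ := by group
        rcases k2 with e | e
        · rw [k3, e, e]
        · rw [k3, e, ← conj_inv, e, inv_inv]
      have hu2 := mul_mem hu hu
      exact ⟨hu, mem_of_sq_mem ho hu (mem_of_sq_mem ho hu2 (fpf _ (mul_mem hu2 hu2) w hw.1.1 hw.1.2
        (mul_inv_eq_iff_eq_mul.1 k4)))⟩ }
  have h4 := Set.ncard_le_ncard (s := classSupp T U) (t := sharp W) fun y hy =>
    ⟨classSupp_subset (fun w hw => hw.1.1) UW hy,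
      fun e => one_notMem_classSupp (fun e => e.1.2 rfl) (e ▸ hy)⟩
  have h5 := Set.ncard_le_ncard sub
  rw [Set.ncard_union_eq (Set.disjoint_left.2 fun w h1 h2 => h1.2 (mem_bot.1
    (n3.le ⟨h1.1.2, h2.1⟩))), ncard_sharp, ncard_sharp] at h5
  have h6 := Nat.le_of_dvd (Nat.pos_of_ne_zero (card_ne_zero _))
    (prime_dvd_card_of_isPGroup hp (hW.pgrp.to_le inf_le_left) n1)
  have h7 := Nat.le_of_dvd (Nat.pos_of_ne_zero (card_ne_zero _))
    (prime_dvd_card_of_isPGroup hp (hW.pgrp.to_le n4) n2)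
  rw [← H1.card_mul_relIndex (inf_le_left : U ⊓ 𝐂(W) ≤ U), mul_comm, mul_left_comm,
    inf_relIndex_left, Nat.mul_right_inj (card_ne_zero _)] at h3
  rw [h3, ncard_sharp, hW.card] at h4
  obtain ⟨r, rfl⟩ : ∃ r, p = r + 1 := ⟨p - 1, by have := hp.pos; omega⟩
  have h8 : r * (2 * (𝐂(W) : Subgroup G).relIndex U) ≤ r * (r + 1 + 1) := by
    calc _ = 2 * r * (𝐂(W) : Subgroup G).relIndex U := by ring
      _ ≤ _ := Nat.mul_le_mul_right _ (by omega)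
      _ ≤ _ := h4
      _ = _ := by rw [Nat.sub_eq_iff_eq_add (Nat.one_le_pow _ _ hp.pos)]; ring
  exact Nat.le_of_mul_le_mul_left h8 (by have := hp.two_le; omega)

/-- The same for a section `Z / N`. -/
theorem gl2_mod {H Z N U : Subgroup G} {s : G} {p : ℕ} (hp : p.Prime) (p2 : p ≠ 2) (NZ : N ≤ Z)
    (ZU : Z ≤ U) (UH : U ≤ H) (sH : s ∈ H) (HN : H ≤ 𝐍(N)) (HZ : H ≤ 𝐍(Z)) (sU : s ∈ 𝐍(U))
    (der : ⁅Z, Z⁆ ≤ N) (exp : ∀ z ∈ Z, z ^ p ∈ N) (idx : N.relIndex Z = p ^ 2) (ho : Odd 𝐨(U))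
    (ss : s * s = 1) (hc : ⁅U, zpowers s⁆ = U)
    (irr : ∀ Y, N ≤ Y → Y ≤ Z → U ≤ 𝐍(Y) → s ∈ 𝐍(Y) → Y = N ∨ Y = Z) :
    (∀ u ∈ U, ∀ z ∈ Z, z ∉ N → ⁅u, z⁆ ∈ N → u ∈ centMod Z N) ∧ U ⊓ 𝐂[s] ≤ centMod Z N ∧
      ¬ U ≤ centMod Z N ∧ 2 * (centMod Z N).relIndex U ≤ p + 1 := by
  have := H1.normal_subgroupOf_of_le HN
  have ZH := ZU.trans UH
  have NH := NZ.trans ZH
  have zs := H1.bar_zpowers (Y := H) (N := N) ⟨s, sH⟩
  have ns : ∀ {K : Subgroup G}, s ∈ 𝐍(K) → H1.qmk H N ⟨s, sH⟩ ∈ 𝐍(H1.bar H N K) := fun h => by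
    rw [← zpowers_le, ← zs]; exact H1.bar_le_normalizer (zpowers_le.2 h)
  have mc : ∀ u : H, H1.qmk H N u ∈ 𝐂(H1.bar H N Z) ↔ (u : G) ∈ centMod Z N := fun u => by
    rw [H1.qmk_mem_centralizer_bar_iff ZH, mem_centMod, and_iff_right (HN u.2)]
    exact forall₂_congr fun z _ => by rw [← commutatorElement_inv, inv_mem_iff]
  obtain ⟨h1, h2, h3, h4⟩ := gl2 (s := H1.qmk H N ⟨s, sH⟩) hp p2
    ⟨(elemAb_bar_iff ZH).2 ⟨der, exp⟩, (H1.card_bar ZH).trans idx⟩ (odd_card_bar ho)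
    (by rw [← map_mul, ← map_one (H1.qmk H N)]; exact congrArg _ (Subtype.ext ss))
    (H1.bar_mono ZU) (H1.bar_le_normalizer (UH.trans HZ)) (ns (HZ sH)) (ns sU)
    (by rw [← zs, ← H1.bar_commutator UH (zpowers_le.2 sH), hc]) fun Y k1 k2 k3 => by
      refine (irr _ (H1.le_unbar NH Y) (unbar_le_of_le_bar NZ ZH k1) (H1.le_normalizer_unbar UH k2)
        (zpowers_le.1 (H1.le_normalizer_unbar (zpowers_le.2 sH) (by rwa [zs, zpowers_le])))).imp
        (fun e => ?_) fun e => ?_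
      · rw [← H1.bar_unbar Y, e, H1.bar_self]
      · rw [← H1.bar_unbar Y, e]
  refine ⟨fun u hu z hz k1 k2 => (mc ⟨u, UH hu⟩).1 (h1 _ (H1.qmk_mem_bar hu) _
    (H1.qmk_mem_bar (y := ⟨z, ZH hz⟩) hz) (mt H1.qmk_eq_one_iff.1 k1) ?_),
    fun u hu => (mc ⟨u, UH hu.1⟩).1 (h2 ⟨H1.qmk_mem_bar hu.1, mem_cent1.2 ?_⟩), fun e => h3 ?_, ?_⟩
  · rw [← commutatorElement_eq_one_iff_commute, ← map_commutatorElement, H1.qmk_eq_one_iff]
    exact k2
  · rw [← map_mul, ← map_mul]; exact congrArg _ (Subtype.ext (mem_cent1.1 hu.2))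
  · rintro _ ⟨u, hu, rfl⟩
    exact (mc u).2 (e hu)
  · have k1 : N ≤ U ⊓ centMod Z N := le_inf (NZ.trans ZU) (le_centMod_iff.2
      ⟨le_norm_self N, (commutator_mono le_rfl NZ).trans der⟩)
    have k2 : H1.bar H N (U ⊓ centMod Z N) = H1.bar H N U ⊓ 𝐂(H1.bar H N Z) := by
      refine le_antisymm ?_ ?_
      · rintro _ ⟨u, hu, rfl⟩
        exact ⟨H1.qmk_mem_bar hu.1, (mc u).2 hu.2⟩
      · rintro _ ⟨⟨u, hu, rfl⟩, e⟩
        exact H1.qmk_mem_bar ⟨hu, (mc u).1 e⟩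
    rwa [← inf_relIndex_left, ← k2, H1.relIndex_bar NH (inf_le_left.trans UH) UH, sup_of_le_left k1,
      sup_of_le_left (NZ.trans ZU), inf_relIndex_left] at h4

end Cfsg.Agent.P5
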