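import Cfsg.Agent.P5.Max1

/-!
Section A of plan P5: the case in which the Fitting subgroup of the maximal subgroup is not of
prime power order.
-/

set_option autoImplicit false
set_option linter.unusedSectionVars false

namespace Cfsg.Agent.P5

open Cfsg Subgroup H2 Mx
open scoped commutatorElement Pointwise

local notation:max "𝐂[" t "]" => Subgroup.centralizer (Singleton.singleton t : Set _)
local notation:max "𝐂(" X ")" => Subgroup.centralizer (SetLike.coe X)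
local notation:max "𝐍(" X ")" => Subgroup.normalizer (SetLike.coe X)
local notation:max "𝐎(" X ")" => H2.pPrimeCoreOf 2 X

universe u

variable {G : Type u} [Group G]

/-- The hypotheses of section A. -/
structure AHyp (V : Subgroup G) : Prop where
  k4 : K4 V
  kf : ∀ X : Subgroup G, X ≠ ⊤ → V ≤ X → KFact V X
  t0 : ∀ t ∈ V, t ≠ 1 → ∀ M : Subgroup G, M ≠ ⊤ → 𝐂[t] ≤ M → M ⊓ 𝐍(V) ≤ 𝐂(V)

/-- The configuration that arises when `C(t)` is not a maximal subgroup. -/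
structure MCfg (V : Subgroup G) (t : G) (p : ℕ) (T M : Subgroup G) : Prop where
  tV : t ∈ V
  t1 : t ≠ 1
  pp : p.Prime
  p2 : p ≠ 2
  pT : IsPGroup p T
  T1 : T ≠ ⊥
  Tt : ⁅T, zpowers t⁆ = T
  CT : 𝐂[t] ≤ 𝐍(T)
  NT : 𝐍(T) ≤ M
  co : IsCoatom M

theorem Mx.conj_smul_zpowers (g t : G) :
    MulAut.conj g • zpowers t = zpowers (g * t * g⁻¹) := by
  rw [← H1.map_conj_eq_smul, MonoidHom.map_zpowers]; rfl

theorem Mx.conj_smul_cent1 (g t : G) : MulAut.conj g • 𝐂[t] = 𝐂[g * t * g⁻¹] := by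
  rw [← cent_zpowers, ← centralizer_conj_smul, conj_smul_zpowers, cent_zpowers]

theorem Mx.not_le_cent1 {W : Subgroup G} {t : G} (h1 : W ≠ ⊥) (h : ⁅W, zpowers t⁆ = W) :
    ¬ W ≤ 𝐂[t] := fun e => h1 (h ▸ comm_eq_bot_iff.2 e)

variable [Finite G] [IsSimpleGroup G] {V : Subgroup G}

namespace MCfg

variable {t : G} {p : ℕ} {T M : Subgroup G} (c : MCfg V t p T M)
include c

theorem CM : 𝐂[t] ≤ M := c.CT.trans c.NT

theorem TM : T ≤ M := le_normalizer.trans c.NT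

theorem oddT : Odd (Nat.card T) := odd_of_isPGroup c.pp c.p2 c.pT

theorem not_le : ¬ T ≤ 𝐂[t] := not_le_cent1 c.T1 c.Tt

theorem ne_bot : M ≠ ⊥ := fun e => c.T1 (eq_bot_iff.2 (e ▸ c.TM))

theorem conj (hV : K4 V) {g : G} (hg : g ∈ 𝐍(V)) :
    MCfg V (g * t * g⁻¹) p (MulAut.conj g • T) (MulAut.conj g • M) where
  tV := hV.conj_mem hg c.tV
  t1 := fun e => c.t1 (by simpa using e)
  pp := c.pp
  p2 := c.p2
  pT := c.pT.map _
  T1 := fun e => c.T1 (by rw [← conj_smul_inj (g := g), e, smul_bot])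
  Tt := by rw [← conj_smul_zpowers, ← conj_smul_commutator, c.Tt]
  CT := by rw [← conj_smul_cent1, normalizer_conj_smul]; exact conj_smul_mono g c.CT
  NT := by rw [normalizer_conj_smul]; exact conj_smul_mono g c.NT
  co := isCoatom_conj_smul c.co g

variable (h : AHyp V)
include h

theorem tt : t * t = 1 := h.k4.sq t c.tV

theorem VT : V ≤ 𝐍(T) := (h.k4.le_cent1 c.tV).trans c.CT

theorem VM : V ≤ M := (c.VT h).trans c.NT

theorem CVM : 𝐂(V) ≤ M := fun _ hg => c.CM (mem_cent1.2 (mem_centralizer_iff.1 hg t c.tV).symm)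

theorem nc : M ⊓ 𝐍(V) ≤ 𝐂(V) := h.t0 t c.tV c.t1 M c.co.1 c.CM

theorem solv : Group.IsSolvable M := h.k4.isSolvable_of_nc (c.VM h) (c.nc h)

theorem lay : layerOf M = ⊥ := layerOf_eq_bot_of_isSolvable (c.solv h)

theorem comm_le {X : Subgroup G} (hX : V ≤ X) : ⁅T ⊓ X, zpowers t⁆ ≤ T ⊓ X :=
  H1.commutator_le_of_le_normalizer ((zpowers_le.2 c.tV).trans
    (H1.le_normalizer_inf (c.VT h) (hX.trans le_normalizer)))

theorem comm_comm {X : Subgroup G} (hX : V ≤ X) :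
    ⁅⁅T ⊓ X, zpowers t⁆, zpowers t⁆ = ⁅T ⊓ X, zpowers t⁆ :=
  H1.commutator_commutator_eq ((zpowers_le.2 c.tV).trans
    (H1.le_normalizer_inf (c.VT h) (hX.trans le_normalizer)))
    (coprime_zpowers (c.tt h) (odd_of_le inf_le_left c.oddT))

theorem comm_norm (X : Subgroup G) : X ⊓ 𝐂[t] ≤ 𝐍(⁅T ⊓ X, zpowers t⁆) :=
  H1.le_normalizer_commutator (H1.le_normalizer_inf (inf_le_right.trans c.CT)
    (inf_le_left.trans le_normalizer)) (inf_le_right.trans (cent1_le_norm_zpowers t))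

theorem d1 {X : Subgroup G} (hX1 : X ≠ ⊤) (hX : V ≤ X) : ⁅T ⊓ X, zpowers t⁆ ≤ pCoreOf p X :=
  (h.kf X hX1 hX).le_pCoreOf h.k4 hX c.tV c.t1 c.pp c.p2 ((c.comm_le h hX).trans inf_le_right)
    (c.pT.to_le ((c.comm_le h hX).trans inf_le_left)) (c.comm_comm h hX) (c.comm_norm h X)

theorem T_le {X : Subgroup G} (hX1 : X ≠ ⊤) (hX : V ≤ X) (hT : T ≤ X) : T ≤ pCoreOf p X := by
  have := c.d1 h hX1 hX
  rwa [inf_of_le_left hT, c.Tt] at this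

theorem TO : T ≤ pCoreOf p M := c.T_le h c.co.1 (c.VM h) c.TM

theorem TF : T ≤ fittingOf M := (c.TO h).trans (pCoreOf_le_fittingOf c.pp M)

theorem Op_ne_bot : pCoreOf p M ≠ ⊥ := fun e => c.T1 (eq_bot_iff.2 (e ▸ c.TO h))

/-- If a subgroup of `T ⊓ R` is not centralized by `t` then `R` has no components. -/
theorem layerOf_eq_bot {R W : Subgroup G} (hR1 : R ≠ ⊤) (hR : V ≤ R) (hW : W ≤ T ⊓ R)
    (hn : ¬ W ≤ 𝐂[t]) : layerOf R = ⊥ := by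
  refine h.k4.layerOf_eq_bot hR c.tV ((c.d1 h hR1 hR).trans (pCoreOf_le_fittingOf c.pp R))
    fun e => hn (hW.trans ?_)
  rw [← comm_eq_bot_iff, c.comm_comm h hR] at e
  exact comm_eq_bot_iff.1 e

theorem ne_conj {g : G} (hg : g ∈ 𝐍(V)) (hne : g * t * g⁻¹ ≠ t) : MulAut.conj g • M ≠ M :=
  fun e => hne (by
    have := mem_centralizer_iff.1 (c.nc h ⟨mem_of_conj_smul_eq c.co c.ne_bot e, hg⟩) t c.tV
    rw [← this]; group)

variable (h2 : Two M)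
include h2

theorem norm_le {X : Subgroup G} (hX1 : X ≠ ⊥) (hX : X ≤ ZF M) (hV : V ≤ 𝐍(X)) : 𝐍(X) ≤ M := by
  obtain ⟨R, hR, hN⟩ := exists_coatom_norm c.co.1 hX1 (hX.trans (ZF_le M))
  have hF : fittingOf M ≤ R := (le_centralizer_iff.1 (hX.trans inf_le_right)).trans
    ((centralizer_le_normalizer _).trans hN)
  have hVR := hV.trans hN
  have hTR := (c.TF h).trans hF
  have hE := c.layerOf_eq_bot h hR.1 hVR (le_inf le_rfl hTR) c.not_le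
  refine hN.trans (h.k4.eq_of_fitting hR c.co hE (c.lay h) (fittingOf_le_of fun r hr => ?_) hF).le
  by_cases e : r = p
  · rw [e]
    exact h2.pCoreOf_le c.co (inf_le_left.trans hF) c.pp (c.Op_ne_bot h)
  · exact (pCoreOf_le_cent hr c.pp e R).trans ((centralizer_anti (c.T_le h hR.1 hVR hTR)).trans
      ((centralizer_le_normalizer _).trans c.NT))

omit h2 in
theorem ZF_le_of {Y R : Subgroup G} (hY : Y ≤ pCoreOf p M) (hR : 𝐍(Y) ≤ R) : ZF M ≤ R :=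
  (ZF_le_cent (hY.trans (pCoreOf_le_fittingOf c.pp M))).trans
    ((centralizer_le_normalizer _).trans hR)

omit h2 in
theorem inf_eq_bot {Y R : Subgroup G} (hY : Y ≤ pCoreOf p M) (hR : 𝐍(Y) ≤ R) {q : ℕ}
    (hq : q.Prime) (h0 : pCoreOf q M = ⊥) : pCoreOf q R ⊓ M = ⊥ := by
  haveI := c.solv h
  haveI := Fact.mk c.pp
  have hQ : IsPGroup q (pCoreOf q R ⊓ M : Subgroup G) := (isPGroup_pCoreOf q R).to_le inf_le_left
  have key : ∀ r : ℕ, r.Prime → r ≠ q → ∀ A, A ≤ pCoreOf r M → A ≤ R →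
      A ≤ 𝐂(pCoreOf q R ⊓ M) := fun r hr hne A a1 a2 =>
    le_cent_of_le a1 inf_le_left (a2.trans (le_normalizer_pCoreOf q R))
      (inf_le_right.trans (le_normalizer_pCoreOf r M))
      (coprime_of_primes hr hq hne (isPGroup_pCoreOf r M) (isPGroup_pCoreOf q R))
  have hCR : 𝐂(Y) ≤ R := (centralizer_le_normalizer _).trans hR
  have h1 : pCoreOf q R ⊓ M ≤ 𝐂(fittingOf M) := by
    refine le_cent_fittingOf fun r hr => ?_
    by_cases e : r = q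
    · rw [e, h0, coe_bot]
      exact fun q _ => mem_cent1.2 (Commute.one_right q)
    by_cases e' : r = p
    · subst e'
      exact H1.pxq_lemma ((isPGroup_pCoreOf r M).to_le hY) (isPGroup_pCoreOf r M)
        (hY.trans le_normalizer) (inf_le_right.trans (le_normalizer_pCoreOf r M))
        (key r hr e Y hY (le_normalizer.trans hR))
        (coprime_of_primes hq hr (Ne.symm e) hQ (isPGroup_pCoreOf r M))
        (key r hr e _ inf_le_left (inf_le_right.trans hCR))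
    · exact le_centralizer_iff.1 (key r hr e _ le_rfl ((pCoreOf_le_cent hr c.pp e' M).trans
        ((centralizer_anti hY).trans hCR)))
  exact eq_bot_iff.2 (h0 ▸ le_pCoreOf_of_le_fittingOf hQ
    ((le_inf inf_le_right h1).trans inf_centralizer_fittingOf_le))

theorem eq_of {Y R : Subgroup G} (hY : Y ≤ pCoreOf p M) (hR : 𝐍(Y) ≤ R) (hRc : IsCoatom R)
    (hE : layerOf R = ⊥) (h0 : ∀ q : ℕ, q.Prime → pCoreOf q M = ⊥ → pCoreOf q R = ⊥) : R = M := by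
  refine h.k4.eq_of_two c.co hRc (c.lay h) hE h2 (fittingOf_le_of fun r hr => ?_)
    (c.ZF_le_of h hY hR)
  by_cases e : pCoreOf r M = ⊥
  · exact h0 r hr e ▸ bot_le
  · exact h2.pCoreOf_le c.co (c.ZF_le_of h hY hR) hr e

omit h2 in
/-- A subgroup normalized by `t` and meeting `M` trivially is inverted by `t`. -/
theorem inverts {Q : Subgroup G} (hQ : t ∈ 𝐍(Q)) (h0 : Q ⊓ M = ⊥) :
    ∀ a ∈ Q, t * a * t = a⁻¹ :=
  L.inverts_of_fpf (c.tt h) hQ fun _ ha hc =>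
    mem_bot.1 (h0 ▸ mem_inf.2 ⟨ha, c.CM (mem_cent1.2 hc.symm)⟩)

/-- If `[Z(F(M)), s]` centralizes a nontrivial subgroup meeting `M` trivially then `s`
centralizes `Z(F(M))`. -/
theorem ZF_le_cent1 {Q : Subgroup G} (hQ1 : Q ≠ ⊥) (h0 : Q ⊓ M = ⊥) {s : G} (hs : s ∈ V)
    (hc : ⁅ZF M, zpowers s⁆ ≤ 𝐂(Q)) : ZF M ≤ 𝐂[s] := by
  by_contra hn
  have hVZ : V ≤ 𝐍(ZF M) := (c.VM h).trans (le_norm_ZF M)
  have h1 := c.norm_le h h2 (fun e => hn (comm_eq_bot_iff.1 e))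
    (H1.commutator_le_of_le_normalizer ((zpowers_le.2 hs).trans hVZ))
    (H1.le_normalizer_commutator hVZ ((h.k4.le_cent1 hs).trans (cent1_le_norm_zpowers s)))
  exact hQ1 (h0 ▸ (inf_of_le_left ((le_centralizer_iff.1 hc).trans
    ((centralizer_le_normalizer _).trans h1))).symm)

end MCfg

theorem Mx.commute_mul_of_inverts {s t a : G} (hs : s * s = 1) (h1 : s * a * s = a⁻¹)
    (h2 : t * a * t = a⁻¹) (ht : t * t = 1) : Commute (s * t) a := by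
  have hsi : s⁻¹ = s := inv_eq_of_mul_eq_one_right hs
  have hti : t⁻¹ = t := inv_eq_of_mul_eq_one_right ht
  refine commute_of_conj_eq ?_
  calc s * t * a * (s * t)⁻¹ = s * (t * a * t⁻¹) * s⁻¹ := by group
    _ = (s * a * s⁻¹)⁻¹ := by rw [hti, h2]; group
    _ = a := by rw [hsi, h1, inv_inv]

namespace MCfg

variable {t₁ t₂ t₃ : G} {p : ℕ} {T₁ T₂ T₃ M₁ M₂ M₃ : Subgroup G}

/-- Centers of Fitting subgroups of two different configurations inside `C(V)` commute. -/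
theorem ZF_comm (h : AHyp V) (c₁ : MCfg V t₁ p T₁ M₁) (c₂ : MCfg V t₂ p T₂ M₂) (k₁ : Two M₁)
    (k₂ : Two M₂) (hne : M₁ ≠ M₂) (z₁ : ZF M₁ ≤ 𝐂(V)) (z₂ : ZF M₂ ≤ 𝐂(V)) :
    ZF M₁ ≤ 𝐂(ZF M₂) := by
  have a1 : ZF M₁ ≤ 𝐍(ZF M₂) := (z₁.trans (c₂.CVM h)).trans (le_norm_ZF M₂)
  have a2 : ZF M₂ ≤ 𝐍(ZF M₁) := (z₂.trans (c₁.CVM h)).trans (le_norm_ZF M₁)
  have a3 : ZF M₁ ⊓ ZF M₂ = ⊥ := by
    by_contra h0
    have hV : V ≤ 𝐍(ZF M₁ ⊓ ZF M₂) := H1.le_normalizer_inf ((c₁.VM h).trans (le_norm_ZF M₁))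
      ((c₂.VM h).trans (le_norm_ZF M₂))
    have b1 := c₁.norm_le h k₁ h0 inf_le_left hV
    have b2 := c₂.norm_le h k₂ h0 inf_le_right hV
    refine hne (h.k4.eq_of_fitting c₁.co c₂.co (c₁.lay h) (c₂.lay h) ?_ ?_)
    · exact (le_centralizer_iff.1 (inf_le_left.trans inf_le_right)).trans
        ((centralizer_le_normalizer _).trans b2)
    · exact (le_centralizer_iff.1 (inf_le_right.trans inf_le_right)).trans
        ((centralizer_le_normalizer _).trans b1)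
  rw [← commutator_eq_bot_iff_le_centralizer, eq_bot_iff, ← a3]
  exact le_inf (H1.commutator_le_of_le_normalizer a2)
    (by rw [commutator_comm]; exact H1.commutator_le_of_le_normalizer a1)

/-- The centers of the Fitting subgroups do not all centralize `V`. -/
theorem false_of_ZF (h : AHyp V) (c₁ : MCfg V t₁ p T₁ M₁) (c₂ : MCfg V t₂ p T₂ M₂)
    (c₃ : MCfg V t₃ p T₃ M₃) (k₁ : Two M₁) (k₂ : Two M₂) (k₃ : Two M₃) (e : t₃ = t₁ * t₂)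
    (n12 : M₁ ≠ M₂) (n23 : M₂ ≠ M₃)
    (π₂ : ∀ q : ℕ, pCoreOf q M₁ = ⊥ ↔ pCoreOf q M₂ = ⊥)
    (π₃ : ∀ q : ℕ, pCoreOf q M₁ = ⊥ ↔ pCoreOf q M₃ = ⊥)
    (z₂ : ZF M₂ ≤ 𝐂(V)) (z₃ : ZF M₃ ≤ 𝐂(V)) : False := by
  haveI := Fact.mk c₁.pp
  have hp := c₁.pp
  have a1 : Zr p M₂ ≤ 𝐂(Zr p M₃) := ((Zr_le_ZF hp M₂).trans
    (ZF_comm h c₂ c₃ k₂ k₃ n23 z₂ z₃)).trans (centralizer_anti (Zr_le_ZF hp M₃))
  have hA : IsPGroup p (Zr p M₂ ⊔ Zr p M₃ : Subgroup G) :=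
    IsPGroup.to_sup_of_normal_right' (isPGroup_Zr p M₂) (isPGroup_Zr p M₃)
      (a1.trans (centralizer_le_normalizer _))
  have hAC : Zr p M₂ ⊔ Zr p M₃ ≤ 𝐂[t₁] := (sup_le ((Zr_le_ZF hp M₂).trans z₂)
    ((Zr_le_ZF hp M₃).trans z₃)).trans fun g hg =>
      mem_cent1.2 (mem_centralizer_iff.1 hg t₁ c₁.tV).symm
  have hZ : ∀ {t T M}, MCfg V t p T M → 𝐂(Zr p M) ≤ M := fun c =>
    (centralizer_le_normalizer _).trans (norm_eq c.co (Zr_ne_bot hp (c.Op_ne_bot h)) (Zr_le _ _)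
      (le_norm_Zr _ _)).le
  have hn : ¬ T₁ ⊓ (M₂ ⊓ M₃) ≤ 𝐂[t₁] := fun hc => c₁.not_le (zpowers_le_cent_iff.1
    (H1.pxq_lemma hA c₁.pT (hAC.trans c₁.CT) ((zpowers_le.2 c₁.tV).trans (c₁.VT h))
      (hAC.trans (cent_zpowers t₁).ge) (coprime_zpowers (c₁.tt h) c₁.oddT)
      ((inf_le_inf_left _ (le_inf ((centralizer_anti le_sup_left).trans (hZ c₂))
        ((centralizer_anti le_sup_right).trans (hZ c₃)))).trans (hc.trans (cent_zpowers t₁).ge))))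
  have hV23 : V ≤ M₂ ⊓ M₃ := le_inf (c₂.VM h) (c₃.VM h)
  obtain ⟨W, hW⟩ : ∃ W, W = ⁅T₁ ⊓ (M₂ ⊓ M₃), zpowers t₁⁆ := ⟨_, rfl⟩
  have hW0 : W ≠ ⊥ := fun e => hn (comm_eq_bot_iff.1 (hW ▸ e))
  have hWT : W ≤ T₁ := hW ▸ (c₁.comm_le h hV23).trans inf_le_left
  have w1 : W ≤ pCoreOf p M₁ := hWT.trans (c₁.TO h)
  have w2 : W ≤ pCoreOf p M₂ := hW ▸ (commutator_mono (inf_le_inf_left _ inf_le_left)
    le_rfl).trans (c₁.d1 h c₂.co.1 (c₂.VM h))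
  have w3 : W ≤ pCoreOf p M₃ := hW ▸ (commutator_mono (inf_le_inf_left _ inf_le_right)
    le_rfl).trans (c₁.d1 h c₃.co.1 (c₃.VM h))
  obtain ⟨R, hR, hN⟩ := exists_coatom_norm c₁.co.1 hW0 (hWT.trans c₁.TM)
  have hVR : V ≤ R := ((le_inf hV23 (h.k4.le_cent1 c₁.tV)).trans
    (hW ▸ c₁.comm_norm h (M₂ ⊓ M₃))).trans hN
  have hE := c₁.layerOf_eq_bot h hR.1 hVR (le_inf hWT (le_normalizer.trans hN))
    (not_le_cent1 hW0 (hW ▸ c₁.comm_comm h hV23))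
  have h0 : ∀ q : ℕ, q.Prime → pCoreOf q M₁ = ⊥ → pCoreOf q R = ⊥ := by
    intro q hq hq0
    have hVQ := hVR.trans (le_normalizer_pCoreOf q R)
    have b1 := c₁.inverts h (hVQ c₁.tV) (c₁.inf_eq_bot h w1 hN hq hq0)
    have b2 := c₂.inverts h (hVQ c₂.tV) (c₂.inf_eq_bot h w2 hN hq ((π₂ q).1 hq0))
    rw [← c₃.inf_eq_bot h w3 hN hq ((π₃ q).1 hq0)]
    refine (inf_of_le_left fun a ha => c₃.CM (mem_cent1.2 ?_)).symm
    rw [e]
    exact (commute_mul_of_inverts (c₁.tt h) (b1 a ha) (b2 a ha) (c₂.tt h)).symm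
  exact n12 ((c₁.eq_of h k₁ w1 hN hR hE h0).symm.trans
    (c₂.eq_of h k₂ w2 hN hR hE fun q hq e => h0 q hq ((π₂ q).2 e)))

theorem ZF_le_cent_V (h : AHyp V) (c₁ : MCfg V t₁ p T₁ M₁) (c₂ : MCfg V t₂ p T₂ M₂)
    (k₁ : Two M₁) (k₂ : Two M₂) (n : t₁ ≠ t₂) (n12 : M₁ ≠ M₂)
    (π₂ : ∀ q : ℕ, pCoreOf q M₁ = ⊥ ↔ pCoreOf q M₂ = ⊥) (hy : ¬ T₁ ⊓ 𝐂[t₂] ≤ 𝐂[t₁]) :
    ZF M₁ ≤ 𝐂(V) := by
  haveI := Fact.mk c₁.pp
  have hp := c₁.pp
  -- an element `y` of `T₁` inverted by `t₁` and centralized by `t₂`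
  obtain ⟨y, hy1, hyT, hy2, hyi⟩ : ∃ y, y ≠ 1 ∧ y ∈ T₁ ∧ y ∈ 𝐂[t₂] ∧ t₁ * y * t₁ = y⁻¹ := by
    obtain ⟨a, ha, hna⟩ := SetLike.not_le_iff_exists.1 hy
    obtain ⟨b, -, y, hy, e1, e2, rfl⟩ := exists_cent_mul_inv (odd_of_le inf_le_left c₁.oddT)
      (c₁.tt h) (H1.le_normalizer_inf (c₁.VT h) ((h.k4.le_cent1 c₂.tV).trans le_normalizer)
        c₁.tV) ha
    exact ⟨y, fun e => hna (by rw [e, mul_one]; exact mem_cent1.2 e1), hy.1, hy.2, e2⟩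
  have hyp : IsPGroup p (zpowers y) := c₁.pT.to_le (zpowers_le.2 hyT)
  have hn : ¬ T₂ ⊓ 𝐂(zpowers y) ≤ 𝐂[t₂] := fun hc => c₂.not_le (zpowers_le_cent_iff.1
    (H1.pxq_lemma hyp c₂.pT ((zpowers_le.2 hy2).trans c₂.CT) ((zpowers_le.2 c₂.tV).trans (c₂.VT h))
      ((zpowers_le.2 hy2).trans (cent_zpowers t₂).ge) (coprime_zpowers (c₂.tt h) c₂.oddT)
      (hc.trans (cent_zpowers t₂).ge)))
  obtain ⟨R, hR, hN⟩ := exists_coatom_norm c₁.co.1 (fun e => hy1 (zpowers_eq_bot.1 e))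
    ((zpowers_le.2 hyT).trans c₁.TM)
  have hVR : V ≤ R := by
    refine (h.k4.le_of_mem c₁.tV c₂.tV c₁.t1 c₂.t1 n ?_ ?_).trans hN
    · refine mem_normalizer_of_conj_smul_le ?_
      rw [conj_smul_zpowers, h.k4.inv_eq c₁.tV, hyi, zpowers_inv]
    · exact centralizer_le_normalizer _ ((cent_zpowers y).ge (mem_cent1.2 (mem_cent1.1 hy2).symm))
  have a1 : pCoreOf p R ≤ M₁ := k₁.pCoreOf_le c₁.co
    (c₁.ZF_le_of h ((zpowers_le.2 hyT).trans (c₁.TO h)) hN) hp (c₁.Op_ne_bot h)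
  obtain ⟨Y, hY⟩ : ∃ Y, Y = ⁅T₂ ⊓ M₁, zpowers t₂⁆ := ⟨_, rfl⟩
  have hY0 : Y ≠ ⊥ := by
    intro e
    have b1 : ⁅T₂ ⊓ R, zpowers t₂⁆ ≤ T₂ ⊓ M₁ :=
      le_inf ((c₂.comm_le h hVR).trans inf_le_left) ((c₂.d1 h hR.1 hVR).trans a1)
    have b2 := commutator_mono b1 (le_refl (zpowers t₂))
    rw [c₂.comm_comm h hVR, ← hY, e, le_bot_iff, comm_eq_bot_iff] at b2
    exact hn ((inf_le_inf_left _ ((centralizer_le_normalizer _).trans hN)).trans b2)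
  have hYT : Y ≤ T₂ := hY ▸ (c₂.comm_le h (c₁.VM h)).trans inf_le_left
  have y1 : Y ≤ pCoreOf p M₁ := hY ▸ c₂.d1 h c₁.co.1 (c₁.VM h)
  have y2 : Y ≤ pCoreOf p M₂ := hYT.trans (c₂.TO h)
  obtain ⟨R', hR', hN'⟩ := exists_coatom_norm c₂.co.1 hY0 (hYT.trans c₂.TM)
  have hVR' : V ≤ R' := ((le_inf (c₁.VM h) (h.k4.le_cent1 c₂.tV)).trans
    (hY ▸ c₂.comm_norm h M₁)).trans hN'
  have hE := c₂.layerOf_eq_bot h hR'.1 hVR' (le_inf hYT (le_normalizer.trans hN'))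
    (not_le_cent1 hY0 (hY ▸ c₂.comm_comm h (c₁.VM h)))
  obtain ⟨q, hq, hq0, hq1⟩ : ∃ q : ℕ, q.Prime ∧ pCoreOf q M₁ = ⊥ ∧ pCoreOf q R' ≠ ⊥ := by
    by_contra hcon
    push Not at hcon
    exact n12 ((c₁.eq_of h k₁ y1 hN' hR' hE hcon).symm.trans
      (c₂.eq_of h k₂ y2 hN' hR' hE fun q hq e => hcon q hq ((π₂ q).2 e)))
  have hVQ := hVR'.trans (le_normalizer_pCoreOf q R')
  have q1 := c₁.inf_eq_bot h y1 hN' hq hq0
  have b1 := c₁.inverts h (hVQ c₁.tV) q1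
  have b2 := c₂.inverts h (hVQ c₂.tV) (c₂.inf_eq_bot h y2 hN' hq ((π₂ q).1 hq0))
  have hZQ := (c₁.ZF_le_of h y1 hN').trans (le_normalizer_pCoreOf q R')
  have d1 := c₁.ZF_le_cent1 h k₁ hq1 q1 c₁.tV
    (comm_le_cent_of_inverts (c₁.tt h) (hVQ c₁.tV) b1 hZQ)
  have d2 := c₁.ZF_le_cent1 h k₁ hq1 q1 (mul_mem c₁.tV c₂.tV) (by
    have : zpowers (t₁ * t₂) ≤ 𝐂(pCoreOf q R') := zpowers_le.2 (mem_centralizer_iff.2 fun a ha =>
      (commute_mul_of_inverts (c₁.tt h) (b1 a ha) (b2 a ha) (c₂.tt h)).symm.eq)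
    refine (commutator_mono le_rfl this).trans ?_
    rw [commutator_comm]
    exact H1.commutator_le_of_le_normalizer (H1.le_normalizer_centralizer hZQ))
  rw [le_centralizer_iff]
  exact h.k4.le_of_mem c₁.tV (mul_mem c₁.tV c₂.tV) c₁.t1 (h.k4.mul_ne_one c₂.tV n)
    (fun e => c₂.t1 (by simpa using e)) (zpowers_le_cent_iff.2 d1 (mem_zpowers _))
    (zpowers_le_cent_iff.2 d2 (mem_zpowers _))

theorem exists_not_le (h : AHyp V) {t : G} {T M : Subgroup G} (c : MCfg V t p T M) :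
    ∃ s ∈ V, s ≠ 1 ∧ s ≠ t ∧ ¬ T ⊓ 𝐂[s] ≤ 𝐂[t] := by
  by_contra hcon
  push Not at hcon
  refine c.not_le (H1.le_of_forall_centralizer_le h.k4.isMulCommutative h.k4.not_isCyclic
    (c.VT h) (h.k4.coprime c.oddT) fun s hs hs1 => ?_)
  by_cases e : s = t
  · exact e ▸ inf_le_right
  · exact hcon s hs hs1 e

theorem not_two (h : AHyp V) {t : G} {T M : Subgroup G} (c : MCfg V t p T M) : ¬ Two M := by
  intro k
  obtain ⟨s, hs, hs1, hst, hy⟩ := c.exists_not_le h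
  have hπ : ∀ (g : G) (q : ℕ), pCoreOf q M = ⊥ ↔ pCoreOf q (MulAut.conj g • M) = ⊥ := by
    intro g q
    rw [← conj_smul_pCoreOf, ← conj_smul_inj (g := g), smul_bot]
  have hk : ∀ g : G, Two (MulAut.conj g • M) := fun g r hr =>
    (k r hr).imp fun q hq => ⟨hq.1, hq.2.1, fun e => hq.2.2 ((hπ g q).2 e)⟩
  obtain ⟨g₂, hg₂, e₂⟩ := h.k4.exists_conj c.tV c.t1 hs hs1
  obtain ⟨g₃, hg₃, e₃⟩ := h.k4.exists_conj c.tV c.t1 (mul_mem c.tV hs)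
    (h.k4.mul_ne_one hs hst.symm)
  have c₂ := c.conj h.k4 hg₂
  have c₃ := c.conj h.k4 hg₃
  have n12 : M ≠ MulAut.conj g₂ • M := (c.ne_conj h hg₂ (e₂ ▸ hst)).symm
  have n23 : MulAut.conj g₂ • M ≠ MulAut.conj g₃ • M := by
    intro e
    refine c₂.ne_conj h (mul_mem hg₃ (inv_mem hg₂)) ?_ (by rw [← conj_smul_mul, e]; simp)
    have : g₃ * g₂⁻¹ * (g₂ * t * g₂⁻¹) * (g₃ * g₂⁻¹)⁻¹ = g₃ * t * g₃⁻¹ := by group
    rw [this, e₃, e₂]
    exact fun e => c.t1 (by simpa using e)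
  have z := ZF_le_cent_V h c c₂ k (hk g₂) (e₂ ▸ hst.symm) n12 (hπ g₂) (e₂ ▸ hy)
  have hz : ∀ g ∈ 𝐍(V), ZF (MulAut.conj g • M) ≤ 𝐂(V) := fun g hg => by
    rw [← conj_smul_ZF, ← mem_normalizer_iff_conj_smul.1
      (H1.normalizer_le_normalizer_centralizer V hg)]
    exact conj_smul_mono g z
  exact false_of_ZF h c c₂ c₃ k (hk g₂) (hk g₃) (by rw [e₃, e₂]) n12 n23 (hπ g₂) (hπ g₃)
    (hz g₂ hg₂) (hz g₃ hg₃)

theorem pCoreOf_eq_bot (h : AHyp V) {t : G} {T M : Subgroup G} (c : MCfg V t p T M) {q : ℕ}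
    (hq : q.Prime) (hne : q ≠ p) : pCoreOf q M = ⊥ := by
  by_contra h0
  refine c.not_two h fun r hr => ?_
  by_cases e : r = p
  · exact ⟨q, hq, e ▸ hne, h0⟩
  · exact ⟨p, c.pp, Ne.symm e, c.Op_ne_bot h⟩

end MCfg

end Cfsg.Agent.P5
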