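import Cfsg.Agent.P5.K2
import Cfsg.Agent.P5.Max3
import Cfsg.Agent.P5.CharMain

/-!
Section K of plan P5 (the structure of proper subgroups) and the interface theorems `J3`, `J5`.
-/

set_option autoImplicit false
set_option linter.unusedSectionVars false

namespace Cfsg.Agent.P5

open Subgroup Cfsg Cfsg.Agent Cfsg.Agent.FT
open Cfsg.Agent.H2 (pPrimeCoreOf fstarOf layerOf)
open scoped commutatorElement Pointwise

universe u

theorem commEq : CommEq.{u} := fun _ _ _ _ _ _ _ _ h a b c d e => comm_eq h a b c d e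

variable {G : Type u} [Group G] [Finite G]

theorem exists_LT {n : ℕ} {R : Subgroup G} {t s : G} (h8 : ¬ 8 ∣ Nat.card G)
    (hV : V4 t s) (hI : Ind.{u} n) (hR : 𝐨(R) < n) (tR : t ∈ R) (sR : s ∈ R)
    (hE : layerOf R ≠ ⊥) : ∃ A, LT (layerOf R) A t s :=
  exists_LT' commEq h8 hV hI hR tR sR hE

theorem K4.not_eight_dvd {V : Subgroup G} (hV : K4 V) : ¬ 8 ∣ Nat.card G := fun h => by
  rw [← V.card_mul_index, hV.card] at h
  exact hV.odd (Nat.dvd_of_mul_dvd_mul_left (by norm_num : 0 < 4) h)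

theorem K4.normal_of_layer {V : Subgroup G} (hV : K4 V)
    (hO : pPrimeCoreOf 2 (⊤ : Subgroup G) = ⊥) (hE : layerOf (⊤ : Subgroup G) = ⊥) :
    V.Normal := by
  have h1 := H2.fittingOf_le_sup Nat.prime_two (⊤ : Subgroup G)
  rw [hO, sup_bot_eq] at h1
  have h2 : fittingOf (⊤ : Subgroup G) ≤ V := h1.trans (hV.le_of_two le_top le_top
    (H2.isPGroup_pCoreOf 2 ⊤) (le_top.trans (H2.le_normalizer_pCoreOf 2 ⊤)))
  have h3 : V ≤ fittingOf (⊤ : Subgroup G) := (le_inf le_top (hV.le_cent.trans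
    (H2.centralizer_anti h2))).trans (H2.inf_centralizer_fittingOf_le_of_layerOf_eq_bot hE)
  rw [le_antisymm h3 h2]
  exact H2.normal_of_top_le_normalizer (H2.le_normalizer_fittingOf ⊤)

/-- `K0`: a group with `O(G) = 1` has a normal Sylow `2`-subgroup or a normal subgroup of type
`LT`. -/
theorem K4.normal_or_LT {V : Subgroup G} (hV : K4 V) {n : ℕ} (hI : Ind.{u} n)
    (hn : Nat.card G < n) (hO : pPrimeCoreOf 2 (⊤ : Subgroup G) = ⊥) :
    V.Normal ∨ ∃ L : Subgroup G, L.Normal ∧ ∀ t ∈ V, ∀ s ∈ V, t ≠ 1 → s ≠ 1 → t ≠ s →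
      ∃ A, LT L A t s := by
  by_cases hE : layerOf (⊤ : Subgroup G) = ⊥
  · exact Or.inl (hV.normal_of_layer hO hE)
  · exact Or.inr ⟨_, H2.normal_of_top_le_normalizer (H2.le_normalizer_layerOf ⊤),
      fun t ht s hs a b c => exists_LT hV.not_eight_dvd (hV.v4 ht hs a b c) hI
        (by rwa [card_top]) (mem_top t) (mem_top s) hE⟩

theorem LT.mem_cent1 {L A : Subgroup G} {t s a g : G} (h : LT L A t s) (ha : a ∈ A) (ha1 : a ≠ 1)
    (hg : g ∈ L) (hc : Commute a g) : g ∈ 𝐂[t] :=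
  (h.cent a ha ha1 g hg hc).elim (fun e => h.hyp.Ut e)
    fun e => (mul_mem_cancel_right (self_mem_cent1 t)).1 (h.hyp.Ut e)

theorem LT.norm_le {L A Q : Subgroup G} {t s : G} (h : LT L A t s) (hQ : Q ≤ A) (hQ1 : Q ≠ ⊥) :
    L ⊓ 𝐍(Q) ≤ 𝐂[t] := by
  intro g hg
  obtain ⟨a, ha, ha1⟩ := (bot_or_exists_ne_one Q).resolve_left hQ1
  have hw : g * t * g⁻¹ ∈ L := mul_mem (mul_mem hg.1 h.hyp.tX) (inv_mem hg.1)
  have ww : g * t * g⁻¹ * (g * t * g⁻¹) = 1 := by rw [conj_mul, h.hyp.tt, mul_one, mul_inv_cancel]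
  have hc : Commute (g * a * g⁻¹) (g * t * g⁻¹) := by
    show _ = _
    rw [conj_mul, conj_mul, (h.hyp.cU (hQ ha)).eq]
  have ha' := hQ ((mem_normalizer_iff.1 hg.2 a).1 ha)
  have ha1' : g * a * g⁻¹ ≠ 1 := by simpa using ha1
  have c := mem_cent1_iff_commute.1 (h.mem_cent1 ha' ha1' hw hc)
  refine mem_cent1_iff_conj.2 ?_
  rcases h.cent _ ha' ha1' _ hw hc with e | e
  · exact absurd (eq_one_of_odd h.hyp.odd e ww) (by simpa using h.hyp.t1)
  · have := eq_one_of_odd h.hyp.odd e (by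
      rw [mul_assoc, ← mul_assoc t, c.eq, mul_assoc _ t t, h.hyp.tt, mul_one, ww])
    rw [eq_inv_of_mul_eq_one_left this, inv_eq_of_sq h.hyp.tt]

theorem K4.d1_top {V : Subgroup G} (hV : K4 V) {n : ℕ} (hI : Ind.{u} n) (hn : Nat.card G < n)
    (hO : pPrimeCoreOf 2 (⊤ : Subgroup G) = ⊥) {t : G} (ht : t ∈ V) (ht1 : t ≠ 1) {p : ℕ}
    (hp : p.Prime) (hp2 : p ≠ 2) {Q : Subgroup G} (hQ : IsPGroup p Q) (hQt : ⁅Q, zpowers t⁆ = Q)
    (hN : 𝐂[t] ≤ 𝐍(Q)) : Q = ⊥ := by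
  haveI := Fact.mk hp
  have hodd := Mx.odd_of_isPGroup hp hp2 hQ
  have key : ∀ L : Subgroup G, L.Normal → t ∈ L → Q ≤ L := fun L _ h =>
    hQt.ge.trans ((commutator_mono le_rfl (zpowers_le.2 h)).trans (commutator_le_right Q L))
  rcases hV.normal_or_LT hI hn hO with h | ⟨L, hL, h⟩
  · exact (inf_of_le_right (key V h ht)).symm.trans (H1.inf_eq_bot_of_coprime' (hV.coprime hodd))
  by_contra hQ1
  have hVQ := (hV.le_cent1 ht).trans hN
  haveI := hQ.isNilpotent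
  obtain ⟨j, hj, hj1, hZ⟩ := H1.exists_centralizer_ne_bot hV.isMulCommutative hV.not_isCyclic
    (H1.le_normalizer_inf hVQ (H1.le_normalizer_centralizer hVQ))
    (hV.coprime (Mx.odd_of_le inf_le_left hodd))
    (Cfsg.Agent.L.inf_centralizer_ne_bot_of_isNilpotent le_rfl le_normalizer hQ1)
  obtain ⟨a, ha, ha1⟩ := (bot_or_exists_ne_one _).resolve_left hZ
  obtain ⟨s, hs, hs1, hsj⟩ := hV.exists_ne j
  obtain ⟨A, hA⟩ := h j hj s hs hj1 hs1 hsj.symm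
  have hQL : Q ≤ L := key L hL (hV.le_of_mem hj hs hj1 hs1 hsj.symm hA.hyp.tX hA.hyp.sX ht)
  have haA : a ∈ A := hA.hyp.le_of_odd (zpowers_le.2 (mem_inf.2 ⟨hQL ha.1.1, ha.2⟩))
    (Mx.odd_of_le (zpowers_le.2 ha.1.1) hodd) (mem_zpowers a)
  have hQj : Q ≤ 𝐂[j] := fun y hy =>
    hA.mem_cent1 haA ha1 (hQL hy) (mem_centralizer_iff.1 ha.1.2 y hy).symm
  have hjt : t ≠ j := fun e => Mx.not_le_cent1 hQ1 hQt (e ▸ hQj)
  obtain ⟨B, hB⟩ := h t ht j hj ht1 hj1 hjt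
  have hBj : B ≤ 𝐂[j] := (le_inf hB.hyp.UX (hB.hyp.Ut.trans hN)).trans
    (hA.norm_le (hA.hyp.le_of_odd (le_inf hQL hQj) hodd) hQ1)
  obtain ⟨x, hx, tri⟩ := hB.tri
  have hb : x⁻¹ * a * x ∈ B := by
    refine hB.hyp.le_of_odd (zpowers_le.2 (mem_inf.2 ⟨mul_mem (mul_mem (inv_mem hx)
      (hQL ha.1.1)) hx, mem_cent1_iff_conj.2 ?_⟩)) ?_ (mem_zpowers _)
    · have := mem_cent1_iff_conj.1 ha.2
      rw [← tri.1] at this
      calc x⁻¹ * a * x * t * (x⁻¹ * a * x)⁻¹ = x⁻¹ * (a * (x * t * x⁻¹) * a⁻¹) * x := by group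
        _ = t := by rw [this]; group
    · rw [Nat.card_zpowers, show x⁻¹ * a * x = MulAut.conj x⁻¹ a by simp, MulEquiv.orderOf_eq]
      exact hodd.of_dvd_nat (orderOf_dvd_card_of_mem ha.1.1)
  have h1 := hB.inv _ hb
  rw [(mem_cent1_iff_commute.1 (hBj hb)).eq, mul_inv_cancel_right] at h1
  have h2 := eq_one_of_odd hB.hyp.odd hb (mul_eq_one_iff_eq_inv.2 h1)
  exact ha1 (by simpa [mul_assoc, inv_mul_eq_one] using h2)

theorem LT.not_dvd_relIndex {L A : Subgroup G} {t s : G} (h : LT L A t s) {p : ℕ} (hp : p.Prime)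
    (hd : p ∣ 𝐨(A)) : ¬ p ∣ (𝐂[t] : Subgroup G).relIndex L := by
  obtain ⟨q, -, h1, h2⟩ := h.ord
  have h3 := H1.card_inf_mul_relIndex 𝐂[t] L
  rw [inf_comm, h.hyp.card_H] at h3
  have hk : 0 < 𝐨(A) := Nat.card_pos
  generalize 𝐨(A) = k at *
  generalize (𝐂[t] : Subgroup G).relIndex L = i at *
  have nd : ∀ c m : ℕ, m = c * k + 1 ∨ m + 1 = c * k → ¬ p ∣ m := fun c m hm e => by
    have h4 := hd.mul_left c
    rcases hm with hm | hm
    · exact hp.not_dvd_one ((Nat.dvd_add_right h4).1 (hm ▸ e))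
    · exact hp.not_dvd_one ((Nat.dvd_add_right e).1 (hm ▸ h4))
  obtain ⟨w, hw, hw'⟩ : ∃ w, q ^ 2 - 1 = 8 * k * w ∧ (w = 2 * k + 1 ∨ w + 1 = 2 * k) := by
    rcases h1 with e | e
    · exact ⟨2 * k + 1, Nat.sub_eq_of_eq_add (by rw [e]; ring), Or.inl rfl⟩
    · obtain ⟨w, hw⟩ : ∃ w, w + 1 = 2 * k := ⟨2 * k - 1, by omega⟩
      refine ⟨w, Nat.sub_eq_of_eq_add ?_, Or.inr hw⟩
      rw [show q = 2 * w + 1 by omega, show 8 * k = 4 * (w + 1) by omega]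
      ring
  have h4 : i = q * w := Nat.eq_of_mul_eq_mul_left (show 0 < 8 * k by omega) (by
    rw [mul_left_comm, ← hw, ← h2, ← h3]; ring)
  rw [h4, hp.dvd_mul, not_or]
  exact ⟨nd 4 q h1, nd 2 w hw'⟩

theorem Hyp.cent1_sup_eq_top {L A : Subgroup G} [hL : L.Normal] {t s : G} (h : Hyp L A t s) :
    𝐂[t] ⊔ L = ⊤ := by
  refine eq_top_iff.2 fun g _ => ?_
  obtain ⟨l, hl, e⟩ := h.conj (g * t * g⁻¹) (hL.conj_mem t h.tX g) (by simpa using h.t1)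
    (by rw [conj_mul, h.tt, mul_one, mul_inv_cancel])
  refine (mul_mem_cancel_left (mem_sup_right (inv_mem hl))).1 (mem_sup_left
    (mem_cent1_iff_conj.2 ?_))
  calc l⁻¹ * g * t * (l⁻¹ * g)⁻¹ = l⁻¹ * (g * t * g⁻¹) * l := by group
    _ = t := by rw [← e]; group

theorem K4.k2_top {V : Subgroup G} (hV : K4 V) {n : ℕ} (hI : Ind.{u} n) (hn : Nat.card G < n)
    (hO : pPrimeCoreOf 2 (⊤ : Subgroup G) = ⊥) {t s : G} (ht : t ∈ V) (ht1 : t ≠ 1) (hs : s ∈ V)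
    {p : ℕ} (hp : p.Prime) (hp2 : p ≠ 2) {a : G} {k : ℕ} (hak : a ^ p ^ k = 1) (hat : Commute a t)
    (has : s * a * s = a⁻¹) (ha1 : a ≠ 1) : ¬ p ∣ (𝐂[t] : Subgroup G).index := by
  haveI := Fact.mk hp
  have hap : IsPGroup p (zpowers a) := H2.isPGroup_zpowers_of_pow_eq_one hak
  have hodd := Mx.odd_of_isPGroup hp hp2 hap
  have haa : a * a ≠ 1 := fun e => ha1 (eq_one_of_odd hodd (mem_zpowers a) e)
  have key : ∀ L : Subgroup G, L.Normal → s ∈ L → a ∈ L := fun L hL h => by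
    have h1 := mul_mem (hL.conj_mem s h a) h
    have e2 : a * s * a⁻¹ * s = a * a := by
      rw [← has]
      calc a * s * (s * a * s) * s = a * (s * s) * a * (s * s) := by group
        _ = a * a := by rw [hV.sq s hs]; group
    obtain ⟨m, hm⟩ := hodd
    have h3 : a = (a * a) ^ (m + 1) := by
      rw [← pow_two, ← pow_mul, show 2 * (m + 1) = 𝐨(zpowers a) + 1 by omega, pow_succ,
        pow_card_of_mem (mem_zpowers a), one_mul]
    exact h3 ▸ pow_mem (e2 ▸ h1) _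
  rcases hV.normal_or_LT hI hn hO with h | ⟨L, hL, h⟩
  · exact absurd (hV.sq a (key V h hs)) haa
  have hs1 : s ≠ 1 := fun e => haa (by
    rw [e, one_mul, mul_one] at has; exact mul_eq_one_iff_eq_inv.2 has)
  have hts : t ≠ s := fun e => haa (by
    rw [← e, ← hat.eq, mul_assoc, hV.sq t ht, mul_one] at has
    exact mul_eq_one_iff_eq_inv.2 has)
  obtain ⟨A, hA⟩ := h t ht s hs ht1 hs1 hts
  have haA : zpowers a ≤ A := hA.hyp.le_of_odd
    (zpowers_le.2 (mem_inf.2 ⟨key L hL hA.hyp.sX, Mx.mem_cent1.2 hat⟩)) hodd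
  have hd : p ∣ 𝐨(A) := by
    refine Dvd.dvd.trans ?_ (Subgroup.card_dvd_of_le haA)
    obtain ⟨j, hj⟩ := IsPGroup.iff_card.1 hap
    rw [hj]
    exact dvd_pow_self p fun e => ha1 (zpowers_eq_bot.1 (card_eq_one.1 (by rw [hj, e, pow_zero])))
  rw [← relIndex_top_right, ← hA.hyp.cent1_sup_eq_top,
    H2.relIndex_sup_left_of_le_normalizer (le_top.trans (normalizer_eq_top L).ge)]
  exact hA.not_dvd_relIndex hp hd

theorem bar_cent1 {X N : Subgroup G} [(N.subgroupOf X).Normal] (hN : N ≤ X) (ho : Odd 𝐨(N))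
    {t : G} (ht : t ∈ X) (tt : t * t = 1) :
    H1.bar X N (X ⊓ 𝐂[t]) = 𝐂[H1.qmk X N ⟨t, ht⟩] := by
  have h1 := H1.centralizer_map_of_coprime_ker (f := H1.qmk X N) H1.qmk_surjective
    (A := zpowers (⟨t, ht⟩ : X)) (Mx.coprime_zpowers (Subtype.ext tt) (by
      rwa [QuotientGroup.ker_mk', H2.card_subgroupOf_of_le hN]))
    (Or.inl (H1.isSolvable_of_isMulCommutative inferInstance))
  rw [MonoidHom.map_zpowers, Mx.cent_zpowers, Mx.cent_zpowers] at h1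
  rw [h1, H1.bar]
  congr 1
  ext y
  simp only [mem_subgroupOf, mem_inf, y.2, true_and, mem_cent1_iff_conj]
  exact ⟨fun e => Subtype.ext e, fun e => congrArg Subtype.val e⟩

/-- Section K: proper subgroups containing `V` satisfy the facts used in section A. -/
theorem K4.kfact {V X : Subgroup G} (hV : K4 V) {n : ℕ} (hI : Ind.{u} n) (hn : 𝐨(X) < n)
    (hX : V ≤ X) : KFact V X := by
  have hOX := H2.pPrimeCoreOf_le 2 X
  haveI := H1.normal_subgroupOf_of_le (H2.le_normalizer_pPrimeCoreOf 2 X)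
  have hV' := hV.bar (N := pPrimeCoreOf 2 X) hX
    (H1.inf_eq_bot_of_coprime' (hV.coprime (Mx.odd_O X)).symm)
  have hn' : Nat.card (X ⧸ (pPrimeCoreOf 2 X).subgroupOf X) < n :=
    (Nat.le_of_dvd Nat.card_pos (card_quotient_dvd_card _)).trans_lt hn
  have hO : pPrimeCoreOf 2 (⊤ : Subgroup (X ⧸ (pPrimeCoreOf 2 X).subgroupOf X)) = ⊥ := by
    rw [← H1.bar_top, FT.pPrimeCoreOf_bar Nat.prime_two hOX le_rfl
      (H2.coprime_card_pPrimeCoreOf 2 X), H1.bar_self]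
  have ne : ∀ t (ht : t ∈ V), t ≠ 1 → H1.qmk X (pPrimeCoreOf 2 X) ⟨t, hX ht⟩ ≠ 1 :=
    fun t ht ht1 e => ht1 (eq_one_of_odd (Mx.odd_O X) (H1.qmk_eq_one_iff.1 e) (hV.sq t ht))
  constructor
  · intro t ht ht1 p hp hp2 Q hQX hQ hQt hN
    rw [← H1.bar_eq_bot_iff hQX]
    refine hV'.d1_top hI hn' hO (H1.qmk_mem_bar (y := ⟨t, hX ht⟩) ht) (ne t ht ht1) hp hp2
      (H1.isPGroup_bar hQ) ?_ ?_
    · rw [← H1.bar_zpowers, ← H1.bar_commutator hQX (zpowers_le.2 (hX ht)), hQt]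
    · rw [← bar_cent1 hOX (Mx.odd_O X) (hX ht) (hV.sq t ht)]
      exact H1.bar_le_normalizer hN
  · rintro t ht ht1 s hs p hp hp2 a ha ⟨k, hak⟩ hat has haO
    have h1 := hV'.k2_top hI hn' hO (H1.qmk_mem_bar (y := ⟨t, hX ht⟩) ht) (ne t ht ht1)
      (H1.qmk_mem_bar (y := ⟨s, hX hs⟩) hs) hp hp2 (a := H1.qmk X (pPrimeCoreOf 2 X) ⟨a, ha⟩)
      (k := k) (by rw [← map_pow, show (⟨a, ha⟩ : X) ^ p ^ k = 1 from Subtype.ext hak, map_one])
      (Commute.map (Subtype.ext hat.eq) _)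
      (by rw [← map_mul, ← map_mul, ← map_inv]; exact congrArg _ (Subtype.ext has))
      (fun e => haO (H1.qmk_eq_one_iff.1 e))
    rwa [← bar_cent1 hOX (Mx.odd_O X) (hX ht) (hV.sq t ht), ← relIndex_top_right, ← H1.bar_top,
      H1.relIndex_bar hOX inf_le_left le_rfl, sup_of_le_left hOX, sup_comm] at h1

/-- The fact `D1`. -/
theorem le_pCoreOf_of_ind {n : ℕ} {X Q : Subgroup G} {t s : G} (h8 : ¬ 8 ∣ Nat.card G)
    (hV : V4 t s) (hI : Ind.{u} n) (hn : 𝐨(X) < n) (tX : t ∈ X) (sX : s ∈ X) {p : ℕ}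
    (hp : p.Prime) (hp2 : p ≠ 2) (hQX : Q ≤ X) (hQ : IsPGroup p Q) (hQt : ⁅Q, zpowers t⁆ = Q)
    (hN : X ⊓ 𝐂[t] ≤ 𝐍(Q)) : Q ≤ pCoreOf p X :=
  ((hV.k4 h8).kfact hI hn (V4.le_iff.2 ⟨tX, sX⟩)).le_pCoreOf (hV.k4 h8) (V4.le_iff.2 ⟨tX, sX⟩)
    V4.t_mem hV.t1 hp hp2 hQX hQ hQt hN

/-- `J5`: the centralizer of an involution is a maximal subgroup. -/
theorem maximal [IsSimpleGroup G] {U : Subgroup G} {t s x : G} (h8 : ¬ 8 ∣ Nat.card G)
    (hI : Ind.{u} (Nat.card G)) (h : Hyp ⊤ U t s) (tri : Tri x t s) (hU : U ≠ ⊥) :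
    IsCoatom 𝐂[t] := by
  have k := h.v4.k4 h8
  refine k.isCoatom_centralizer (fun X hX hVX => k.kfact hI ?_ hVX) (fun t' ht' h1 M hM hC => ?_)
    V4.t_mem h.t1
  · exact (H1.card_lt_of_lt (lt_top_iff_ne_top.2 hX)).trans_eq card_top
  by_contra hn
  obtain ⟨y, hy, hyc⟩ := SetLike.not_le_iff_exists.1 hn
  obtain ⟨s', hs', hs1, hst⟩ := k.exists_ne t'
  obtain ⟨g, hg, tri'⟩ := k.exists_tri hy.2 hyc ht' hs' h1 hs1 hst.symm
  have v := k.v4 ht' hs' h1 hs1 hst.symm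
  have hVM := (k.le_cent1 ht').trans hC
  have a1 := hyp_of_tri h8 v (mem_top _) (mem_top _) (mem_top g) tri'
  have a2 := hyp_of_tri h8 v (hVM ht') (hVM hs') (zpowers_le.2 hy.1 hg) tri'
  rw [inf_of_le_right hC] at a2
  have c1 := a1.card_H
  rw [top_inf_eq] at a1 c1
  rw [over_bot a1 hM a2 hC, card_bot] at c1
  obtain ⟨z, -, e⟩ := tri.exists_conj h.v4 ht' h1
  have c2 := h.card_H
  rw [top_inf_eq, ← H2.card_conj_smul _ z, Mx.conj_smul_cent1, e, c1] at c2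
  exact hU (card_eq_one.1 (by omega))

end Cfsg.Agent.P5
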