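import Cfsg.Agent.P5.Char3
import Cfsg.Agent.P5.K3

/-! Section B, first part: maximal subgroups containing the normalizer of a subgroup of `F(U)`. -/

set_option autoImplicit false
set_option linter.unusedSectionVars false

namespace Cfsg.Agent.P5

open Subgroup Cfsg Cfsg.Agent Cfsg.Agent.FT
open Cfsg.Agent.H2 (pPrimeCoreOf layerOf)
open scoped commutatorElement

universe u

variable {G : Type u} [Group G]

/-- The hypotheses of section B. -/
structure BH (U : Subgroup G) (t s : G) : Prop where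
  h8 : ¬ 8 ∣ Nat.card G
  ind : Ind.{u} (Nat.card G)
  hyp : Hyp ⊤ U t s
  co : IsCoatom 𝐂[t]
  tri : ∃ x, Tri x t s

theorem mem_norm_inf {A B : Subgroup G} {g : G} (h1 : g ∈ 𝐍(A)) (h2 : g ∈ 𝐍(B)) :
    g ∈ 𝐍((A ⊓ B : Subgroup G)) :=
  zpowers_le.1 (H1.le_normalizer_inf (zpowers_le.2 h1) (zpowers_le.2 h2))

theorem cent1_le_norm (a : G) : 𝐂[a] ≤ 𝐍(𝐂[a]) := le_norm_self _

variable [Finite G]

theorem mem_of_sq_mem {W L : Subgroup G} (ho : Odd 𝐨(W)) {i : G} (hi : i ∈ W) (h : i * i ∈ L) :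
    i ∈ L := by
  obtain ⟨k, hk⟩ := ho
  have := pow_card_of_mem hi
  rw [hk, pow_succ, pow_mul, mul_eq_one_iff_eq_inv', pow_two] at this
  exact this ▸ L.inv_mem (L.pow_mem h k)

/-- An element of odd order inverted by `s` lies in every normalized subgroup containing `s`. -/
theorem mem_of_inv {W L : Subgroup G} (ho : Odd 𝐨(W)) {i s : G} (hi : i ∈ W) (hn : i ∈ 𝐍(L))
    (hs : s ∈ L) (e : s * i * s = i⁻¹) : i ∈ L :=
  mem_of_sq_mem ho hi (by
    have := L.mul_mem (L.inv_mem ((mem_normalizer_iff.1 hn s).1 hs)) (L.inv_mem hs)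
    rwa [mul_inv_rev, mul_inv_rev, inv_inv, ← e, ← mul_assoc, ← mul_assoc, ← mul_assoc,
      inv_mul_cancel_right, mul_inv_cancel_right] at this)

theorem comm_eq_of_inv {W : Subgroup G} (ho : Odd 𝐨(W)) {s : G} (ss : s * s = 1)
    (e : ∀ w ∈ W, s * w * s = w⁻¹) : ⁅W, zpowers s⁆ = W := by
  have hn : s ∈ 𝐍(W) := mem_norm_of_conj_le fun a ha => by
    obtain ⟨w, hw, rfl⟩ := mem_conj'.1 ha
    rw [inv_eq_of_sq ss, e w hw]; exact W.inv_mem hw
  refine le_antisymm (comm_le_left_iff.2 (zpowers_le.2 hn)) fun w hw => mem_of_sq_mem ho hw ?_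
  have := commutator_mem_commutator hw (mem_zpowers s)
  rwa [commutatorElement_def, inv_eq_of_sq ss, mul_assoc, mul_assoc, ← mul_assoc s,
    e _ (W.inv_mem hw), inv_inv] at this

theorem LT.cent_B {U L A : Subgroup G} {t s x : G} (hL : LT L A t s) (h : Hyp ⊤ U t s) (xL : x ∈ L)
    (tri : Tri x t s) (hB : U ⊓ 𝐂[s] ≤ 𝐍(L)) : U ⊓ 𝐂[s] ≤ 𝐂[x] := fun b hb => by
  have h1 : x * b * x⁻¹ * b⁻¹ ∈ U ⊓ 𝐂[s] :=
    mul_mem ((mem_normalizer_iff.1 (h.mem_norm_B trivial tri) b).1 hb) (inv_mem hb)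
  have h2 : x * b * x⁻¹ * b⁻¹ ∈ L := by
    rw [mul_assoc, mul_assoc, ← mul_assoc b]
    exact L.mul_mem xL ((mem_normalizer_iff.1 (hB hb) _).1 (L.inv_mem xL))
  have h3 := hL.hyp.mem_of_odd ⟨h2, (h.UH h1.1).2⟩ h.odd (pow_card_of_mem h1.1)
  have h4 := hL.inv _ h3
  rw [mem_cent1_iff_conj.1 (mem_cent1_comm.1 h1.2), eq_inv_iff_mul_eq_one] at h4
  exact mem_cent1_comm.1 (mem_cent1_iff_conj.2 (mul_inv_eq_one.1 (eq_one_of_odd h.odd h1.1 h4)))

/-- A simple subgroup of even order normalizing `L` lies in `L`. -/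
theorem LT.le_of_le_norm {U L A L' : Subgroup G} {t s j : G} (hL : LT L A t s) (h : Hyp ⊤ U t s)
    (hN : L' ≤ 𝐍(L)) (hs : ∀ N : Subgroup G, N ⊲ L' → N = ⊥ ∨ N = L') (hj : j ∈ L') (j1 : j ≠ 1)
    (jj : j * j = 1) : L' ≤ L := by
  obtain ⟨x, xL, tri⟩ := hL.tri
  obtain ⟨g, hg, rfl⟩ := (h.sub le_top (le_norm_self L hL.hyp.tX) (le_norm_self L hL.hyp.sX)
    (le_norm_self L xL) tri).conj j (hN hj) j1 jj
  rcases hs _ (inf_normal ⟨le_norm_self L, le_rfl⟩ hN) with e | e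
  · exact absurd (mem_bot.1 (e ▸ ⟨(mem_normalizer_iff.1 hg t).1 hL.hyp.tX, hj⟩)) j1
  · exact e.ge.trans inf_le_left

variable [IsSimpleGroup G]

namespace BH

variable {U : Subgroup G} {t s : G} (h : BH U t s)
include h

theorem UH : U ≤ 𝐂[t] := h.hyp.UH.trans inf_le_right

theorem HU : 𝐂[t] ≤ 𝐍(U) := (top_inf_eq _).ge.trans h.hyp.HU

theorem sH : s ∈ 𝐂[t] := h.hyp.sH.2

theorem t_mem_cent {X : Subgroup G} (hX : X ≤ U) : t ∈ 𝐂(X) :=
  mem_cent_iff_cent1.2 (hX.trans h.UH)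

theorem H_le {Y : Subgroup G} (hU : U ≤ Y) (ht : t ∈ Y) (hs : s ∈ Y) : 𝐂[t] ≤ Y :=
  (top_inf_eq _).ge.trans (h.hyp.H_le hU ht hs)

theorem norm_eq {X : Subgroup G} (h1 : X ≠ ⊥) (hX : X ≤ U) (hU : U ≤ 𝐍(X)) (hs : s ∈ 𝐍(X)) :
    𝐍(X) = 𝐂[t] :=
  Mx.norm_eq h.co h1 (hX.trans h.UH) (h.H_le hU (cent_le_norm _ (h.t_mem_cent hX)) hs)

theorem le_U {W : Subgroup G} (hW : W ≤ 𝐂[t]) (ho : Odd 𝐨(W)) : W ≤ U :=
  h.hyp.le_of_odd (le_inf le_top hW) ho

theorem notMem {x : G} (tri : Tri x t s) : x ∉ 𝐂[t] := fun e =>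
  tri.not_commute h.hyp.v4 (mem_cent1_iff_commute.1 e).symm

theorem not_le_cent : ¬ U ≤ 𝐂[s] := fun e => by
  obtain ⟨x, tri⟩ := h.tri
  have hV := h.hyp.v4
  have := Mx.norm_eq h.co (X := closure {t, s}) (fun e => hV.t1 (mem_bot.1 (e ▸ V4.t_mem)))
    (V4.le_iff.2 ⟨self_mem_cent1 t, h.sH⟩) (h.H_le ((cent_comm.1 (V4.le_iff.2
      ⟨h.t_mem_cent le_rfl, mem_cent_iff_cent1.2 e⟩)).trans (cent_le_norm _))
      (le_norm_self _ V4.t_mem) (le_norm_self _ V4.s_mem))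
  exact h.notMem tri (this ▸ tri.mem_norm hV)

omit h in
theorem simple (N : Subgroup G) (hN : N ⊲ ⊤) : N = ⊥ ∨ N = ⊤ :=
  (normal_iff_top_le.2 hN.2).eq_bot_or_eq_top

theorem nk : ¬ Ker3 ⊤ U s := fun ⟨N, h1, h2, h3⟩ =>
  h.not_le_cent (le_cent1_of_inverted h.hyp.odd h.hyp.ss h.hyp.sU fun u hu e => by
    rw [mem_bot.1 (((simple N h1).resolve_right h2).le (h3 u hu e))]; exact Commute.one_right s)

theorem perf : ⁅(⊤ : Subgroup G), (⊤ : Subgroup G)⁆ = ⊤ := (simple _ (der_normal ⊤)).resolve_left fun e =>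
  h.co.1 (eq_top_iff.2 ((comm_eq_bot_iff.1 e).trans (cent_le_cent1 trivial)))

theorem solv : Group.IsSolvable 𝐂[t] := by
  obtain ⟨x, tri⟩ := h.tri
  have hV := h.hyp.v4.k4 h.h8
  exact hV.isSolvable_of_nc (hV.le_cent1 V4.t_mem) (hV.cent1_inf_norm V4.t_mem h.hyp.t1)

theorem normal : U ⊲ 𝐂[t] := ⟨h.UH, h.HU⟩

theorem H_norm (p : ℕ) : 𝐂[t] ≤ 𝐍(pCoreOf p U) :=
  h.HU.trans (H2.normalizer_le_normalizer_pCoreOf p U)

theorem pCore_le (p : ℕ) : pCoreOf p U ≤ pCoreOf p 𝐂[t] :=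
  le_pCoreOf ⟨(H2.pCoreOf_le p U).trans h.UH, h.H_norm p⟩ (H2.isPGroup_pCoreOf p U)

theorem two_ne : pCoreOf 2 𝐂[t] ≠ ⊥ := fun e => h.hyp.t1 (mem_bot.1 (e ▸ zpowers_le.1
  (le_pCoreOf ⟨zpowers_le.2 (self_mem_cent1 t), Mx.cent1_le_norm_zpowers t⟩
    (isPGroup_zpowers_of_sq h.hyp.tt))))

theorem ne_two {p : ℕ} {Y : Subgroup G} (hY : Y ≤ pCoreOf p U) (h1 : Y ≠ ⊥) : p ≠ 2 := by
  rintro rfl
  exact Nat.not_even_iff_odd.2 (Mx.odd_of_le (hY.trans (H2.pCoreOf_le 2 U)) h.hyp.odd)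
    (even_iff_two_dvd.2 (prime_dvd_card_of_isPGroup Nat.prime_two
      ((H2.isPGroup_pCoreOf 2 U).to_le hY) h1))

theorem lay {p : ℕ} (hp : p.Prime) {Y R : Subgroup G} (hY : Y ≤ pCoreOf p U) (h1 : Y ≠ ⊥)
    (hR : IsCoatom R) (hN : 𝐍(Y) ≤ R) (sR : s ∈ R) (hne : R ≠ 𝐂[t])
    (hx : U ⊓ 𝐂[s] ≤ R ∨ ∃ x ∈ R, Tri x t s) : ∃ A, LT (layerOf R) A t s := by
  have tR := hN (cent_le_norm _ (h.t_mem_cent (hY.trans (H2.pCoreOf_le p U))))
  refine exists_LT h.h8 h.hyp.v4 h.ind (by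
    rw [← card_top (G := G)]; exact H1.card_lt_of_lt hR.lt_top) tR sR fun e => hne ?_
  have hV := h.hyp.v4
  have hYF := (hY.trans (h.pCore_le p)).trans (H2.pCoreOf_le_fittingOf hp _)
  have two : Mx.Two 𝐂[t] := fun r _ => by
    by_cases e : r = 2
    · exact ⟨p, hp, e ▸ h.ne_two hY h1, fun e => h1 (eq_bot_iff.2 (e ▸ hY.trans (h.pCore_le p)))⟩
    · exact ⟨2, Nat.prime_two, Ne.symm e, h.two_ne⟩
  have hZ := (Mx.ZF_le_cent hYF).trans ((cent_le_norm _).trans hN)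
  refine (hV.k4 h.h8).eq_of_two h.co hR (H2.layerOf_eq_bot_of_isSolvable h.solv) e two
    (Mx.fittingOf_le_of fun r hr => ?_) hZ
  by_cases h0 : pCoreOf r 𝐂[t] = ⊥
  swap
  · exact two.pCoreOf_le h.co hZ hr h0
  have h2 := bender_i (cent_fittingOf_le h.solv) hYF (sup_le ((le_norm_self Y).trans hN)
    (inf_le_right.trans ((cent_le_norm _).trans hN))) hr h0
  have hn := (pCoreOf_normal r R).2
  have hW := H2.isPGroup_pCoreOf r R
  generalize pCoreOf r R = W at h2 hn hW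
  have ho := Mx.odd_of_isPGroup hr (fun e => h.two_ne (e ▸ h0)) hW
  have h3 := L.inverts_of_fpf hV.tt (hn tR) fun a ha hc =>
    mem_bot.1 (h2 ▸ mem_inf.2 ⟨ha, mem_cent1_iff_commute.2 hc⟩)
  intro w hw
  suffices w = 1 from this ▸ one_mem _
  rcases hx with hx | ⟨x, hx, tri⟩
  · obtain ⟨x, tri⟩ := h.tri
    have key : ∀ y τ : G, y ∈ 𝐍((U ⊓ 𝐂[s] : Subgroup G)) → y * τ * y⁻¹ = t → τ ∈ 𝐂[t] →
        U ⊓ 𝐂[τ] ≤ 𝐂[s] → U ⊓ 𝐂[s] ≤ 𝐂[y * t * y⁻¹] → W ⊓ 𝐂[y * t * y⁻¹] = ⊥ :=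
      fun y τ y1 y2 y3 y4 y5 => by
      have ττ : τ * τ = 1 := by rw [← conj_eq_one_iff (a := y), ← conj_mul, y2, hV.tt]
      have k1 : Odd 𝐨((W ⊓ 𝐂[y * t * y⁻¹]) ^ᵍ y⁻¹) := by
        rw [card_conj]; exact Mx.odd_of_le inf_le_left ho
      have := le_pCoreOf_of_comm h.hyp.odd ττ (h.HU y3) (h.le_U (by
        rw [← le_conj_iff, ← cent1_conj]; exact inf_le_right) k1)
        ((isPGroup_map_iff (conj_injective _)).2 (hW.to_le inf_le_left)) hr
        (comm_eq_of_inv k1 ττ fun a ha => by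
          have := h3 _ (mem_conj.1 ha).1
          rw [inv_inv, ← y2, conj_mul, conj_mul, conj_inv] at this
          simpa using this) (by
          rw [← conj_le_norm_iff (g := y), conj_inv_conj]
          exact (conj_le_of_mem_norm (le_inf inf_le_left y4) y1).trans
            (H1.le_normalizer_inf (hx.trans hn) (y5.trans (le_norm_self _))))
      exact conj_eq_bot_iff.1 (eq_bot_iff.2 (h0 ▸ this.trans (h.pCore_le r)))
    have hx' := h.hyp.mem_norm_B trivial tri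
    have c1 : ∀ {a b : G}, Commute a t → Commute a (t * b) → Commute a b := fun h1 h2 => by
      simpa using h1.inv_right.mul_right h2
    have k1 := key x (t * s) hx' (tri.third hV) (mul_mem (self_mem_cent1 t) h.sH)
      (fun u hu => mem_cent1_iff_commute.2 (c1 (h.hyp.cU hu.1).symm
        (mem_cent1_iff_commute.1 hu.2).symm).symm) (tri.1 ▸ inf_le_right)
    have e2 : x * x * t * (x * x)⁻¹ = t * s := by rw [← tri.2, ← tri.1]; group
    have k2 := key (x * x) s (mul_mem hx' hx') (by rw [← tri.third hV, ← tri.2]; group) h.sH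
      inf_le_right (e2 ▸ fun u hu => mem_cent1_iff_commute.2 ((h.hyp.cU hu.1).mul_left
        (mem_cent1_iff_commute.1 hu.2)))
    rw [tri.1] at k1
    rw [e2] at k2
    obtain ⟨b, hb, a, ha, e1, e2, rfl⟩ := Mx.exists_cent_mul_inv ho hV.ss (hn sR) hw
    rw [mem_bot.1 (k1.le ⟨hb, mem_cent1_iff_commute.2 e1.symm⟩), mem_bot.1 (k2.le
      ⟨ha, mem_cent1_iff_commute.2 (Mx.commute_mul_of_inverts hV.tt (h3 a ha) e2 hV.ss)⟩), mul_one]
  · have key : ∀ j : G, (∀ a ∈ W, j * a * j = a⁻¹) → ∀ a ∈ W,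
        x * j * x⁻¹ * a * (x * j * x⁻¹) = a⁻¹ := fun j hj a ha => by
      have := hj _ (H1.conj_mem_of_le_normalizer' le_rfl (hn hx) ha)
      calc _ = x * (j * (x⁻¹ * a * x) * j) * x⁻¹ := by group
        _ = _ := by rw [this]; group
    have k1 := key t h3
    rw [tri.1] at k1
    have k2 := key s k1 w hw
    rw [tri.2, ← (Mx.commute_mul_of_inverts hV.tt (h3 w hw) (k1 w hw) hV.ss).symm.eq, mul_assoc,
      hV.tsts, mul_one, eq_inv_iff_mul_eq_one] at k2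
    exact eq_one_of_odd ho hw k2

/-- A subgroup normalized by `H` and centralized or inverted by `s` is centralized by `[U, s]`. -/
theorem comm_le_cent {X : Subgroup G} (hU : U ≤ 𝐍(X))
    (hs : X ≤ 𝐂[s] ∨ ∀ a ∈ X, s * a * s = a⁻¹) : ⁅U, zpowers s⁆ ≤ 𝐂(X) := by
  rcases hs with hs | hs
  · exact (commutator_mono le_rfl (zpowers_le.2 (mem_cent_iff_cent1.2 hs))).trans
      (comm_le_right_iff.2 (H1.le_normalizer_centralizer hU))
  · refine Mx.comm_le_cent_of_inverts h.hyp.ss (mem_norm_of_conj_le fun a ha => ?_) hs hU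
    obtain ⟨w, hw, rfl⟩ := mem_conj'.1 ha
    rw [inv_eq_of_sq h.hyp.ss, hs w hw]; exact X.inv_mem hw

theorem B_norm (p : ℕ) : U ⊓ 𝐂[s] ≤ 𝐍((pCoreOf p U ⊓ 𝐂[s] : Subgroup G)) :=
  H1.le_normalizer_inf (inf_le_left.trans (H2.le_normalizer_pCoreOf p U))
    (inf_le_right.trans (le_norm_self _))

theorem exists_tri_cent (hB : U ⊓ 𝐂[s] ≠ ⊥) : ∃ x, Tri x t s ∧ U ⊓ 𝐂[s] ≤ 𝐂[x] := by
  by_contra! hn
  obtain ⟨x, tri⟩ := h.tri
  have hV := h.hyp.v4
  have hs := zpowers_le.2 h.hyp.sU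
  have hc := Mx.coprime_zpowers hV.ss h.hyp.odd
  have h1 : ⁅U, zpowers s⁆ ≤ 𝐂(fittingOf U) := Mx.le_cent_fittingOf fun p hp =>
    h.comm_le_cent (H2.le_normalizer_pCoreOf p U) <| by
    by_cases h0 : pCoreOf p U ⊓ 𝐂[s] = ⊥
    · exact .inr (L.inverts_of_fpf hV.ss (h.H_norm p h.sH) fun a ha hc =>
        mem_bot.1 (h0 ▸ mem_inf.2 ⟨ha, mem_cent1_iff_commute.2 hc⟩))
    left
    have hQ := H2.pCoreOf_le p U
    obtain ⟨R, hR, h2⟩ := Mx.exists_coatom_norm h.co.1 h0 (inf_le_left.trans (hQ.trans h.UH))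
    have h3 : R = 𝐂[t] := by
      by_contra hne
      obtain ⟨A, hL⟩ := h.lay hp inf_le_left h0 hR h2 (h2 (cent_le_norm _
        (mem_cent_iff_cent1.2 inf_le_right))) hne (.inl ((h.B_norm p).trans h2))
      obtain ⟨y, hy, tri⟩ := hL.tri
      exact hn y tri (hL.cent_B h.hyp hy tri (((h.B_norm p).trans h2).trans
        (H2.le_normalizer_layerOf R)))
    have := Fact.mk hp
    have h4 := H1.pxq_lemma (P := pCoreOf p U ⊓ 𝐂[s]) (Q := zpowers t) (G := pCoreOf p U ^ᵍ x)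
      ((H2.isPGroup_pCoreOf p U).to_le inf_le_left)
      ((isPGroup_map_iff (conj_injective _)).2 (H2.isPGroup_pCoreOf p U))
      (by
        rw [norm_conj, le_conj_iff]
        exact (conj_le_of_mem_norm (inf_le_inf_right _ hQ) (inv_mem (h.hyp.mem_norm_B trivial
          tri))).trans (inf_le_left.trans (H2.le_normalizer_pCoreOf p U)))
      (by
        rw [zpowers_le, norm_conj, ← tri.third hV, conj_mem_conj_iff]
        exact h.H_norm p (mul_mem (self_mem_cent1 t) h.sH))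
      (by rw [cent_zpowers]; exact inf_le_left.trans (hQ.trans h.UH))
      (Mx.coprime_zpowers hV.tt (by rw [card_conj]; exact Mx.odd_of_le hQ h.hyp.odd))
      (by rw [cent_zpowers, ← h3]; exact inf_le_right.trans ((cent_le_norm _).trans h2))
    rw [zpowers_le, cent_conj, ← tri.third hV, conj_mem_conj_iff] at h4
    exact mem_cent_iff_cent1.1 (by simpa using mul_mem (inv_mem (h.t_mem_cent hQ)) h4)
  have h2 := (le_inf h.hyp.comm_normal.1 h1).trans (cent_fittingOf_le (isSolvable_of_odd h.hyp.odd))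
  have h3 := H1.centralizer_inf_commutator_eq_bot (isMulComm_iff_le_cent.2 (h1.trans (cent_anti h2)))
    H1.le_normalizer_commutator_self (hc.coprime_dvd_right (FT.card_dvd_of_le h.hyp.comm_normal.1))
  rw [H1.commutator_commutator_eq hs hc, cent_zpowers, inf_comm] at h3
  exact hB (h.hyp.B_eq_bot h.perf h.nk trivial tri h3)

end BH

end Cfsg.Agent.P5
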