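import Cfsg.Agent.P5.Hyp

/-! The virtual characters `Θ_α` supported on the 2-singular elements. -/

set_option autoImplicit false

namespace Cfsg.Agent.P5

open Subgroup Cfsg Cfsg.Agent Cfsg.Agent.FT
open scoped ComplexConjugate

universe u

variable {G : Type u} [Group G] [Finite G]

/-- `u ↦ φ(u t)` on `U`. -/
noncomputable def tw (U : Subgroup G) (t : G) (φ : G → ℂ) : G → ℂ := res U fun g => φ (g * t)

open Classical in
/-- `u t ↦ α(u)`. -/
noncomputable def th (U : Subgroup G) (t : G) (α : G → ℂ) : G → ℂ :=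
  fun g => if g * t ∈ U then α (g * t) else 0

/-- The class function of `X` with value `4 α(u)` at `u t`. -/
noncomputable def Th (X U : Subgroup G) (t : G) (α : G → ℂ) : G → ℂ :=
  ind X (X ⊓ 𝐂[t]) ((4 : ℂ) • th U t α)

omit [Finite G] in
theorem tw_apply {U : Subgroup G} (t : G) (φ : G → ℂ) {u : G} (hu : u ∈ U) :
    tw U t φ u = φ (u * t) := res_of_mem _ hu

omit [Finite G] in
theorem th_pos {U : Subgroup G} {t g : G} (α : G → ℂ) (hg : g * t ∈ U) : th U t α g = α (g * t) :=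
  if_pos hg

omit [Finite G] in
theorem th_neg {U : Subgroup G} {t g : G} (α : G → ℂ) (hg : g * t ∉ U) : th U t α g = 0 :=
  if_neg hg

theorem irr_mul_central {H : Subgroup G} {t : G} (ht : t ∈ H) (tt : t * t = 1) (hH : H ≤ 𝐂[t])
    {φ : G → ℂ} (hφ : φ ∈ Irr H) : (∀ g, φ (g * t) = φ g) ∨ ∀ g, φ (g * t) = -φ g := by
  have h1 : ∀ g, φ 1 * φ (g * t) = φ t * φ g := fun g => by
    have := P1.sum_conj_mul hφ ht g
    rw [sum_fs_congr (g := fun _ => φ (g * t)) (fun a ha => by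
      rw [mem_cent1_iff_conj.1 (hH ha), CF_mul_comm (irr_mem_CF hφ) ht]), sum_fs_const,
      nsmul_eq_mul, mul_left_comm] at this
    exact mul_left_cancel₀ (card_ne_zero_C H) this
  have h2 := h1 t
  rw [tt, mul_self_eq_mul_self_iff] at h2
  have h3 := irr_one_ne_zero hφ
  rcases h2 with e | e
  · exact .inl fun g => mul_left_cancel₀ h3 (by rw [h1, e])
  · exact .inr fun g => mul_left_cancel₀ h3 (by rw [h1, e]; ring)

/-- The two eigenspaces of a central involution. -/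
theorem isChar_half {H U : Subgroup G} {t : G} (ht : t ∈ H) (tt : t * t = 1) (hH : H ≤ 𝐂[t])
    (hU : U ≤ H) {φ : G → ℂ} (hφ : IsChar H φ) {ε : ℂ} (hε : ε = 1 ∨ ε = -1) :
    IsChar U ((2 : ℂ)⁻¹ • (res U φ + ε • tw U t φ)) := by
  have key : ∀ ψ ∈ Irr H, IsChar U ((2 : ℂ)⁻¹ • (res U ψ + ε • tw U t ψ)) := fun ψ hψ => by
    have h1 : IsChar U ((2 : ℂ)⁻¹ • (res U ψ + res U ψ)) := by
      rw [← two_smul ℂ, smul_smul, inv_mul_cancel₀ two_ne_zero, one_smul]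
      exact (irr_isChar hψ).res hU
    have h2 : IsChar U ((2 : ℂ)⁻¹ • (res U ψ + -res U ψ)) := by
      rw [add_neg_cancel, smul_zero]; exact isChar_zero U
    rcases irr_mul_central ht tt hH hψ with e | e
    · have : tw U t ψ = res U ψ := congrArg _ (funext e)
      rcases hε with rfl | rfl
      · rwa [this, one_smul]
      · rwa [this, neg_one_smul]
    · have : tw U t ψ = -res U ψ := by rw [← map_neg]; exact congrArg _ (funext e)
      rcases hε with rfl | rfl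
      · rwa [this, one_smul]
      · rwa [this, neg_one_smul, neg_neg]
  have e1 : tw U t φ = ∑ ψ ∈ Irr H, ip H φ ψ • tw U t ψ := by
    simp only [tw, ← map_smul, ← map_sum]
    refine congrArg _ (funext fun g => ?_)
    rw [apply_eq_sum_irr hφ.mem_CF, Finset.sum_apply]
    rfl
  have e2 : res U φ = ∑ ψ ∈ Irr H, ip H φ ψ • res U ψ := by
    simp only [← map_smul, ← map_sum]
    exact congrArg _ (eq_sum_irr hφ.mem_CF)
  rw [e1, e2, Finset.smul_sum, ← Finset.sum_add_distrib, Finset.smul_sum]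
  refine IsChar.sum fun ψ hψ => ?_
  obtain ⟨n, hn⟩ := hφ.ip_nat (irr_isChar hψ)
  rw [hn, smul_comm ε, ← smul_add, smul_comm]
  exact (key ψ hψ).nat_smul n

theorem exists_four_dirr {X : Subgroup G} {θ : G → ℂ} (hθ : θ ∈ VChar X) (h4 : ip X θ θ = 4)
    (h1 : θ 1 = 0) {χ : G → ℂ} (hχ : χ ∈ Irr X) :
    ip X θ χ = 0 ∨ ip X θ χ = 1 ∨ ip X θ χ = -1 := by
  obtain ⟨n, hn⟩ := vchar_ip_int hθ (irr_mem_VChar hχ)
  have h2 : nsq X (θ - (n : ℂ) • χ) = 4 - n ^ 2 := nsq_eq_of_ip (by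
    rw [ip_sub_left, ip_sub_right, ip_sub_right, ip_smul_left, ip_smul_right, ip_smul_left,
      ip_smul_right, h4, hn, ip_comm_of_int hn, ip_irr_self hχ, map_intCast]
    push_cast; ring)
  have h3 := nsq_nonneg X (θ - (n : ℂ) • χ)
  have h5 : n ^ 2 ≠ 4 := fun e => by
    have h6 := eq_zero_of_nsq (sub_mem (vchar_mem_CF hθ) (Submodule.smul_mem _ _ (irr_mem_CF hχ)))
      (by rw [h2, ← Int.cast_pow, e]; norm_num)
    have h7 := congrFun h6 1
    rw [Pi.sub_apply, h1, Pi.smul_apply, smul_eq_mul, Pi.zero_apply, zero_sub, neg_eq_zero,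
      mul_eq_zero_iff_right (irr_one_ne_zero hχ), Int.cast_eq_zero] at h7
    simp [h7] at e
  have h6 : n ^ 2 ≤ 4 := by rw [h2, sub_nonneg] at h3; exact_mod_cast h3
  have h7 : -2 < n := by by_contra e; apply h5; nlinarith
  have h8 : n < 2 := by by_contra e; apply h5; nlinarith
  rw [hn]
  interval_cases n <;> simp

namespace Hyp

variable {X U : Subgroup G} {t s : G} (h : Hyp X U t s)
include h

theorem isChar_half {φ : G → ℂ} (hφ : IsChar X φ) {ε : ℂ} (hε : ε = 1 ∨ ε = -1) :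
    IsChar U ((2 : ℂ)⁻¹ • (res U φ + ε • tw U t φ)) := by
  have := P5.isChar_half h.tH h.tt inf_le_right h.UH (hφ.res inf_le_left) hε
  rwa [res_res h.UH, show tw U t (res (X ⊓ 𝐂[t]) φ) = tw U t φ from
    res_congr fun g hg => res_of_mem _ (mul_mem (h.UH hg) h.tH)] at this

theorem tw_vchar {φ : G → ℂ} (hφ : φ ∈ VChar X) : tw U t φ ∈ VChar U := by
  have key : ∀ ψ, IsChar X ψ → tw U t ψ ∈ VChar U := fun ψ hψ => by
    have := sub_mem (h.isChar_half hψ (.inl rfl)).mem_VChar (h.isChar_half hψ (.inr rfl)).mem_VChar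
    convert this using 1
    module
  obtain ⟨χ, ψ, h1, h2, rfl⟩ := vchar_eq_sub hφ
  have := sub_mem (key χ h1) (key ψ h2)
  rwa [tw, tw, ← map_sub] at this

theorem ip_th (φ α : G → ℂ) : ip (X ⊓ 𝐂[t]) φ ((4 : ℂ) • th U t α) = ip U (tw U t φ) α := by
  rw [ip_smul_right, ip_def, ip_def, h.sum_H, h.card_H, sum_fs_congr
    (g := fun u => tw U t φ u * conj (α u)) fun u hu => by
      have h1 : u * t ∉ U := fun e => h.t_notMem ((mul_mem_cancel_left hu).1 e)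
      have h2 : s * u * t ∉ U := fun e => h.st_notMem (by
        rw [mul_assoc, ← (h.cU hu).eq, ← mul_assoc] at e
        exact (mul_mem_cancel_right hu).1 e)
      have h3 : s * u ∉ U := fun e => h.s_notMem ((mul_mem_cancel_right hu).1 e)
      have h4 : ∀ g, g * t * t = g := fun g => by rw [mul_assoc, h.tt, mul_one]
      rw [th_neg α h1, th_neg α h2, th_neg α (g := s * u * t) (by rwa [h4]),
        th_pos α (g := u * t) (by rwa [h4]), h4, tw_apply t φ hu]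
      simp]
  have := card_ne_zero_C U
  rw [show (starRingEnd ℂ) 4 = 4 from map_ofNat _ 4]
  push_cast
  field_simp

theorem ip_Th {φ : G → ℂ} (hφ : φ ∈ CF X) (α : G → ℂ) :
    ip X φ (Th X U t α) = ip U (tw U t φ) α := by
  rw [Th, ip_ind_right inf_le_left hφ, h.ip_th]

theorem Th_vchar {α : G → ℂ} (hα : α ∈ VChar U) : Th X U t α ∈ VChar X :=
  mem_VChar_iff.2 ⟨ind_mem_CF _ _ _, fun χ hχ => by
    obtain ⟨n, hn⟩ := vchar_ip_int (h.tw_vchar (irr_mem_VChar hχ)) hα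
    exact ⟨n, ip_comm_of_int (by rw [h.ip_Th (irr_mem_CF hχ), hn])⟩⟩

theorem ip_Th' {φ α : G → ℂ} (hφ : φ ∈ VChar X) (hα : α ∈ VChar U) :
    ip X (Th X U t α) φ = ip U (tw U t φ) α := by
  rw [vchar_ip_comm (h.Th_vchar hα) hφ, h.ip_Th (vchar_mem_CF hφ)]

theorem Th_one (α : G → ℂ) : Th X U t α 1 = 0 := by
  rw [Th, ind_one inf_le_left]; simp [th, h.t_notMem]

omit [Finite G] in
theorem th_mem {ψ : G → ℂ} (hψ : ∀ g ∈ X ⊓ 𝐂[t], ∀ x ∈ U, ψ (g * x * g⁻¹) = ψ x) :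
    th U t ψ ∈ CFon (X ⊓ 𝐂[t]) {g | g * t ∈ U} := by
  refine mem_CFon.2 ⟨mem_CF.2 ⟨fun x hx => if_neg fun e =>
    hx ((mul_mem_cancel_right h.tH).1 (h.UH e)), fun g hg x => ?_⟩, fun x hx => if_neg hx⟩
  unfold th
  rw [h.conj_mul_t hg]
  by_cases e : x * t ∈ U
  · rw [if_pos e, if_pos ((mem_normalizer_iff.1 (h.HU hg) _).1 e), hψ g hg _ e]
  · rw [if_neg e, if_neg fun e' => e ((mem_normalizer_iff.1 (h.HU hg) _).2 e')]

theorem tw_Th {ψ : G → ℂ} (hψ : ∀ g ∈ X ⊓ 𝐂[t], ∀ x ∈ U, ψ (g * x * g⁻¹) = ψ x) :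
    tw U t (Th X U t ψ) = (4 : ℂ) • res U ψ := by
  rw [tw, ← map_smul]
  refine res_congr fun u hu => ?_
  have h1 : u * t * t = u := by rw [mul_assoc, h.tt, mul_one]
  rw [Th, h.normedTI.ind_apply (Submodule.smul_mem _ _ (h.th_mem hψ))
    (show u * t * t ∈ U by rwa [h1])]
  simp [th, h1, hu]

theorem ip_Th_Th {ψ : G → ℂ} (hψ : ∀ g ∈ X ⊓ 𝐂[t], ∀ x ∈ U, ψ (g * x * g⁻¹) = ψ x)
    (β : G → ℂ) : ip X (Th X U t ψ) (Th X U t β) = 4 * ip U ψ β := by
  rw [h.ip_Th (show Th X U t ψ ∈ CF X from ind_mem_CF _ _ _), h.tw_Th hψ, ip_smul_left,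
    ip_res_left]

theorem cent_of_mul {j j' : G} (hj : j ∈ X) (jj : j * j = 1) (jj' : j' * j' = 1)
    (e : j * j' * t ∈ U) : j ∈ X ⊓ 𝐂[t] := by
  refine ⟨hj, mem_cent1_iff_conj.2 ?_⟩
  have h1 := h.pow_eq e
  have h2 : j * (j * j') * j⁻¹ = (j * j')⁻¹ := by
    rw [← mul_assoc, jj, one_mul, mul_inv_rev, inv_eq_of_sq jj']
  rw [← h1, ← conj_pow, h2, inv_pow, h1, inv_eq_of_sq h.tt]

theorem sum_pairs (α : G → ℂ) :
    ∑ j ∈ fs (classSupp {t} X), ∑ j' ∈ fs (classSupp {t} X), th U t α (j * j') =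
      2 * ∑ j ∈ fs (classSupp {s} (X ⊓ 𝐂[t])), ∑ j' ∈ fs (classSupp {s} (X ⊓ 𝐂[t])),
        α (j * j') := by
  set S := classSupp {s} (X ⊓ 𝐂[t])
  have hS : ∀ j ∈ S, j ∈ X ⊓ 𝐂[t] := fun j hj =>
    (mul_mem_cancel_left h.sH).1 (h.UH (h.mem_class_s.1 hj).1)
  have sq : ∀ j ∈ X ⊓ 𝐂[t], j * j = 1 → j * t * (j * t) = 1 := fun j hj jj => by
    rw [mul_assoc, ← mul_assoc t, (cH hj).eq, mul_assoc j t t, h.tt, mul_one, jj]
  have tt : ∀ j, j * t * t = j := fun j => by rw [mul_assoc, h.tt, mul_one]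
  have S1 : S ⊆ classSupp {t} X := fun j hj => h.mem_class_t.2 ⟨(hS j hj).1, fun e =>
    h.s_notMem (by simpa [e] using (h.mem_class_s.1 hj).1), (h.mem_class_s.1 hj).2⟩
  have S2 : {j | j * t ∈ S} ⊆ classSupp {t} X := fun j hj => h.mem_class_t.2
    ⟨(mul_mem_cancel_right h.tX).1 (hS _ hj).1, fun e => h.st_notMem (by
      simpa [e] using (h.mem_class_s.1 hj).1),
      by simpa [tt] using sq _ (hS _ hj) (h.mem_class_s.1 hj).2⟩
  have b : ∀ F : G → ℂ, ∑ j ∈ fs {j | j * t ∈ S}, F j = ∑ j ∈ fs S, F (j * t) := fun F =>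
    (sum_fs_bij (A := S) (B := {j | j * t ∈ S}) (fun g => g * t)
      ⟨fun g hg => by change g * t * t ∈ S; rwa [tt], fun g _ g' _ e => by simpa using e,
      fun g hg => ⟨g * t, hg, tt g⟩⟩ F).symm
  have mU : ∀ j ∈ S, ∀ j' ∈ S, j * j' ∈ U := fun j hj j' hj' => by
    obtain ⟨h1, h2⟩ := h.mem_class_s.1 hj
    have := mul_mem (inv_mem h1) (h.mem_class_s.1 hj').1
    rwa [mul_inv_rev, inv_eq_of_sq h2, mul_assoc, inv_mul_cancel_left] at this
  rw [← sum_fs_subset (f := fun j => ∑ j' ∈ fs (classSupp {t} X), th U t α (j * j'))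
    (Set.union_subset S1 S2) fun j hj hn => Finset.sum_eq_zero fun j' hj' =>
    if_neg fun e => hn (by
      obtain ⟨h1, h2, h3⟩ := h.mem_class_t.1 hj
      obtain ⟨-, h5, h6⟩ := h.mem_class_t.1 (mem_fs.1 hj')
      have h4 := h.cent_of_mul h1 h3 h6 e
      rcases h.invol_cases h4 h2 h3 with e' | e' | e'
      · rw [e'] at e
        have h7 := (mul_mem_cancel_left h.tH).1 ((mul_mem_cancel_right h.tH).1 (h.UH e))
        rw [(cH h7).eq, tt] at e
        exact absurd (eq_one_of_odd h.odd e h6) h5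
      · exact .inl (h.mem_class_s.2 ⟨e', h3⟩)
      · exact .inr (h.mem_class_s.2 ⟨by rwa [← mul_assoc], sq j h4 h3⟩)),
    sum_fs_union (Set.disjoint_left.2 fun j h1 h2 => h.t_notMem (by
      have := mU j h1 _ h2
      rwa [← mul_assoc, (h.mem_class_s.1 h1).2, one_mul] at this)), b, two_mul]
  congr 1
  · refine sum_fs_congr fun j hj => ?_
    obtain ⟨h1, h2⟩ := h.mem_class_s.1 hj
    rw [← sum_fs_subset (f := fun j' => th U t α (j * j')) S2 fun j' hj' hn => if_neg fun e => hn (by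
      have h3 := (mul_mem_cancel_left (hS j hj)).1 ((mul_mem_cancel_right h.tH).1 (h.UH e))
      refine h.mem_class_s.2 ⟨?_, sq j' h3 (h.mem_class_t.1 hj').2.2⟩
      have := mul_mem h1 e
      rwa [mul_assoc j, mul_assoc s, ← mul_assoc j, h2, one_mul] at this), b]
    refine sum_fs_congr fun j' hj' => ?_
    have e1 : j * (j' * t) * t = j * j' := by rw [mul_assoc, tt]
    rw [th_pos α (e1 ▸ mU j hj j' hj'), e1]
  · refine sum_fs_congr fun j hj => ?_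
    obtain ⟨h1, h2⟩ := h.mem_class_s.1 hj
    have e1 : ∀ j' ∈ X ⊓ 𝐂[t], j * t * j' * t = j * j' := fun j' hj' => by
      rw [mul_assoc j, (cH hj').eq, ← mul_assoc, tt]
    rw [← sum_fs_subset (f := fun j' => th U t α (j * t * j')) S1 fun j' hj' hn => if_neg fun e => hn (by
      have h3 := (mul_mem_cancel_left (mul_mem (hS j hj) h.tH)).1
        ((mul_mem_cancel_right h.tH).1 (h.UH e))
      refine h.mem_class_s.2 ⟨?_, (h.mem_class_t.1 hj').2.2⟩
      have := mul_mem h1 (e1 j' h3 ▸ e)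
      rwa [mul_assoc s, ← mul_assoc j, h2, one_mul] at this)]
    refine sum_fs_congr fun j' hj' => ?_
    rw [th_pos α (e1 j' (hS j' hj') ▸ mU j hj j' hj'), e1 j' (hS j' hj')]

omit h in
theorem sum_sum_irr {H : Subgroup G} {χ : G → ℂ} (hχ : χ ∈ Irr H) {x : G} (hx : x ∈ H) :
    ∑ b ∈ fs (H : Set G), ∑ a ∈ fs (H : Set G), χ (a * x * a⁻¹ * (b * x * b⁻¹)) =
      𝐨(H) ^ 2 * (χ x ^ 2 / χ 1) := by
  have h1 := irr_one_ne_zero hχ
  rw [sum_fs_congr (g := fun _ => 𝐨(H) * (χ x ^ 2 / χ 1)) fun b hb => mul_left_cancel₀ h1 (by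
    rw [P1.sum_conj_mul hχ hx, CF_conj (irr_mem_CF hχ) hb]; field_simp), sum_fs_const,
    nsmul_eq_mul]
  ring

omit h in
theorem sum_sum_class (H : Subgroup G) (x : G) (F : G → ℂ) :
    ∑ b ∈ fs (H : Set G), ∑ a ∈ fs (H : Set G), F (a * x * a⁻¹ * (b * x * b⁻¹)) =
      𝐨((H ⊓ 𝐂[x] : Subgroup G)) ^ 2 *
        ∑ j ∈ fs (classSupp {x} H), ∑ j' ∈ fs (classSupp {x} H), F (j * j') := by
  rw [CH1.sum_fs_conj_class H x fun v => ∑ a ∈ fs (H : Set G), F (a * x * a⁻¹ * v),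
    sum_fs_congr fun v _ => CH1.sum_fs_conj_class H x fun u => F (u * v), ← Finset.smul_sum,
    Finset.sum_comm, nsmul_eq_mul, nsmul_eq_mul]
  ring

/-- The class multiplication formula. -/
theorem product {ψ : G → ℂ} (hψ : ψ ∈ Irr (X ⊓ 𝐂[t])) (hα : res U ψ ∈ VChar U) :
    ((X ⊓ 𝐂[t]).relIndex X : ℂ) * ∑ χ ∈ Irr X, ip U (tw U t χ) ψ * (χ t ^ 2 / χ 1) =
      8 * (𝐂[s].relIndex (X ⊓ 𝐂[t]) : ℂ) ^ 2 * (ψ s ^ 2 / ψ 1) := by
  set H := X ⊓ 𝐂[t] with hH
  have e1 : ∑ b ∈ fs (X : Set G), ∑ a ∈ fs (X : Set G),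
      Th X U t (res U ψ) (a * t * a⁻¹ * (b * t * b⁻¹)) =
      𝐨(X) ^ 2 * ∑ χ ∈ Irr X, ip U (tw U t χ) ψ * (χ t ^ 2 / χ 1) := by
    rw [sum_fs_congr fun b _ => sum_fs_congr fun a _ =>
      apply_eq_sum_irr (vchar_mem_CF (h.Th_vchar hα)) _, sum_fs_congr fun b _ => Finset.sum_comm,
      Finset.sum_comm, Finset.mul_sum]
    refine Finset.sum_congr rfl fun χ hχ => ?_
    simp only [← Finset.mul_sum]
    rw [sum_sum_irr hχ h.tX, h.ip_Th' (irr_mem_VChar hχ) hα, ip_res_right]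
    ring
  have e2 : ∀ x ∈ X, ∑ b ∈ fs (X : Set G), ∑ a ∈ fs (X : Set G),
      res H ((4 : ℂ) • th U t (res U ψ)) (x⁻¹ * (a * t * a⁻¹ * (b * t * b⁻¹)) * x) =
      𝐨(H) ^ 2 * (8 * ∑ j ∈ fs (classSupp {s} H), ∑ j' ∈ fs (classSupp {s} H), ψ (j * j')) := by
    intro x hx
    have e3 : res H ((4 : ℂ) • th U t (res U ψ)) = (4 : ℂ) • th U t ψ := by
      rw [res_eq_self fun g hg => by
        simp [th, mt (fun e => (mul_mem_cancel_right h.tH).1 (h.UH e)) hg]]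
      funext g
      by_cases e : g * t ∈ U <;> simp [th, e, res_of_mem]
    rw [← sum_fs_mul_left hx, sum_fs_congr fun b _ => (sum_fs_mul_left hx _).symm, e3,
      sum_fs_congr fun b _ => sum_fs_congr (g := fun a => ((4 : ℂ) • th U t ψ)
        (a * t * a⁻¹ * (b * t * b⁻¹))) fun a _ => by congr 1; group, sum_sum_class]
    simp only [Pi.smul_apply, smul_eq_mul, ← Finset.mul_sum]
    rw [h.sum_pairs]
    ring
  have e3 := sum_sum_class H s ψ
  rw [sum_sum_irr hψ h.sH] at e3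
  unfold Th at e1
  rw [sum_fs_congr fun b hb => sum_fs_congr fun a ha => ind_of_mem _ _ (mul_mem
    (mul_mem (mul_mem ha h.tX) (inv_mem ha)) (mul_mem (mul_mem hb h.tX) (inv_mem hb)))] at e1
  simp only [← Finset.mul_sum] at e1
  rw [sum_fs_congr fun b _ => Finset.sum_comm, Finset.sum_comm, sum_fs_congr e2, sum_fs_const,
    nsmul_eq_mul] at e1
  have c1 : (𝐨(H) : ℂ) * H.relIndex X = 𝐨(X) := by
    exact_mod_cast H1.card_mul_relIndex (inf_le_left : H ≤ X)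
  have c2 : (𝐨((H ⊓ 𝐂[s] : Subgroup G)) : ℂ) * 𝐂[s].relIndex H = 𝐨(H) := by
    rw [← inf_relIndex_left]
    exact_mod_cast H1.card_mul_relIndex (inf_le_left : H ⊓ 𝐂[s] ≤ H)
  have n1 := card_ne_zero_C H
  have n2 := card_ne_zero_C (H ⊓ 𝐂[s])
  have n3 := CH1.relIndex_ne_zero_C H X
  rw [← c1] at e1
  rw [← c2] at e3
  rw [← hH] at e1
  rw [mul_pow, mul_assoc] at e3
  rw [mul_assoc 8, mul_left_cancel₀ (pow_ne_zero 2 n2) e3]
  refine mul_left_cancel₀ (mul_ne_zero (pow_ne_zero 2 n1) n3) ?_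
  rw [mul_assoc (𝐨(H) : ℂ), inv_mul_cancel_left₀ n1] at e1
  linear_combination -e1

end Hyp

end Cfsg.Agent.P5
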