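import Cfsg.Agent.P1.A_3

/-! Brauer's second main theorem, in terms of central characters. -/

set_option autoImplicit false

namespace Cfsg.Agent.P5

open Subgroup Cfsg Cfsg.Agent Cfsg.Agent.FT Cfsg.Agent.P1 MonoidAlgebra
open scoped ComplexConjugate

universe u

variable {Γ : Type} [LinearOrderedCommGroupWithZero Γ] {v : Valuation ℂ Γ} {p : ℕ}

theorem val_le_of_isIntegral (v : Valuation ℂ Γ) {z : ℂ} (hz : IsIntegral ℤ z) : v z ≤ 1 := by
  have h := (Valuation.integer.integers v).mem_of_integral (x := z) (by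
    obtain ⟨f, hf, h0⟩ := hz
    refine ⟨f.map (algebraMap ℤ v.integer), hf.map _, ?_⟩
    rw [Polynomial.eval₂_map]
    rwa [RingHom.ext_int ((algebraMap v.integer ℂ).comp _) (algebraMap ℤ ℂ)])
  exact h

variable {G : Type u} [Group G] [Fintype G]

/-- The central idempotent of an irreducible character. -/
noncomputable def idem (U : Subgroup G) (α : G → ℂ) : MonoidAlgebra ℂ G :=
  toA ((α 1 / 𝐨(U)) • star α)

theorem idem_mem {U : Subgroup G} (hv : v p < 1) (hU : (𝐨(U)).Coprime p) {α : G → ℂ}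
    (hα : α ∈ Irr U) : idem U α ∈ ZL v U := by
  refine mem_ZL.2 ⟨?_, fun g => ?_⟩
  · rw [idem, coeff_toA]
    exact Submodule.smul_mem _ _ (star_mem_CF (irr_mem_CF hα))
  · rw [idem, coeff_toA, Pi.smul_apply, smul_eq_mul]
    refine val_mul_le ?_ (val_le_of_isIntegral v ((irr_isChar hα).star.isIntegral g))
    rw [map_div₀, val_nat_eq_one hv hU, div_one]
    exact val_le_of_isIntegral v ((irr_isChar hα).isIntegral 1)

theorem tr_idem_mul {U : Subgroup G} {α : G → ℂ} (hα : α ∈ Irr U) (χ : G → ℂ) (x : G) :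
    tr χ (idem U α * single x 1) = α 1 * ip U (fun g => χ (g * x)) α := by
  rw [tr_mul, Finset.sum_eq_single x (fun g _ hg => by
    rw [coeff_single, Finsupp.single_eq_of_ne hg, zero_mul]) (by simp), coeff_single,
    Finsupp.single_eq_same, one_mul, idem, coeff_toA,
    sum_univ_eq (H := U) (fun g hg => by simp [CF_off (irr_mem_CF hα) hg]), ip_def,
    Finset.mul_sum, Finset.mul_sum]
  refine sum_fs_congr fun g _ => ?_
  simp only [Pi.smul_apply, star_apply', smul_eq_mul]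
  ring

theorem om_idem {U : Subgroup G} {α φ : G → ℂ} (hα : α ∈ Irr U) (hφ : φ ∈ Irr U) :
    om φ (idem U α) = if φ = α then 1 else 0 := by
  have h := tr_idem_mul hα φ 1
  rw [← one_def, mul_one] at h
  simp only [mul_one] at h
  rw [om, h, ip_irr hφ hα]
  split_ifs with e
  · rw [e, mul_one, div_self (irr_one_ne_zero hα)]
  · simp

/-- A central idempotent which is a multiple of a given central element. -/
theorem exists_idem_mul (v : Valuation ℂ Γ) {X : Subgroup G} {z : MonoidAlgebra ℂ G}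
    (hz : z ∈ ZL v X) : ∃ w ∈ ZL v X, ∀ χ ∈ Irr X,
      om χ (z * w) = if v (om χ z) < 1 then 0 else 1 := by
  classical
  let Z : (G → ℂ) → ℂ := fun χ => om χ z
  have hZ : Z ∈ omRing v X := ⟨z, hz, fun _ _ => rfl⟩
  let F : (G → ℂ) → ℂ := ∏ ψ ∈ Irr X with v (om ψ z) < 1, (Z - fun _ => om ψ z)
  have hF : F ∈ omRing v X := prod_mem fun ψ hψ => sub_mem hZ
    (const_mem_omRing X (Finset.mem_filter.mp hψ).2.le)
  have h2 : ∀ χ ∈ Irr X, ¬ v (om χ z) < 1 → v ((Z * F) χ) = 1 := fun χ hχ h => by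
    have h1 : v (om χ z) = 1 := le_antisymm (val_om_le hχ hz) (not_lt.1 h)
    simp only [F]
    rw [Pi.mul_apply, map_mul, Finset.prod_apply, map_prod, h1, one_mul]
    refine Finset.prod_eq_one fun ψ hψ => ?_
    rw [Pi.sub_apply, v.map_sub_eq_of_lt_left (h1 ▸ (Finset.mem_filter.mp hψ).2), h1]
  have h3 : ∀ S ⊆ (Irr X).filter fun ψ => ¬ v (om ψ z) < 1, ∃ W ∈ omRing v X,
      1 - ∏ ψ ∈ S, (1 - Z * F * fun _ => ((Z * F) ψ)⁻¹) = Z * F * W := by
    intro S
    induction S using Finset.induction_on with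
    | empty => exact fun _ => ⟨0, zero_mem _, by simp⟩
    | insert ψ S hψ ih =>
      intro hS
      obtain ⟨W, hW, e⟩ := ih ((Finset.subset_insert _ _).trans hS)
      obtain ⟨h4, h5⟩ := Finset.mem_filter.1 (hS (Finset.mem_insert_self _ _))
      have h6 : (fun _ => ((Z * F) ψ)⁻¹) ∈ omRing v X := const_mem_omRing X (by
        rw [map_inv₀, h2 ψ h4 h5, inv_one])
      refine ⟨W + (fun _ => ((Z * F) ψ)⁻¹) - Z * F * W * fun _ => ((Z * F) ψ)⁻¹,
        sub_mem (add_mem hW h6) (mul_mem (mul_mem (mul_mem hZ hF) hW) h6), ?_⟩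
      rw [Finset.prod_insert hψ, ← sub_sub_cancel 1 (∏ ψ ∈ S, _), e]
      ring
  obtain ⟨W, hW, e⟩ := h3 _ subset_rfl
  obtain ⟨w, hw, h4⟩ := mul_mem hF hW
  refine ⟨w, hw, fun χ hχ => ?_⟩
  have h5 := congrFun e χ
  rw [om_mul hχ (mem_ZL.1 hz).1, h4 χ hχ]
  change (Z * (F * W)) χ = _
  rw [← mul_assoc, ← h5, Pi.sub_apply, Finset.prod_apply, Pi.one_apply]
  split_ifs with h
  · have : F χ = 0 := by
      simp only [F]
      rw [Finset.prod_apply]
      exact Finset.prod_eq_zero (Finset.mem_filter.mpr ⟨hχ, h⟩) (sub_self _)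
    simp [this]
  · rw [Finset.prod_eq_zero (Finset.mem_filter.mpr ⟨hχ, h⟩), sub_zero]
    have : (Z * F) χ ≠ 0 := fun e => by simpa [e] using h2 χ hχ h
    rw [Pi.sub_apply, Pi.mul_apply, mul_inv_cancel₀ this, Pi.one_apply, sub_self]

/-- Brauer's second main theorem for a `p`-element `t` and a `p'`-subgroup `U` of `C(t)`. -/
theorem smt (hp : p.Prime) (hv : v p < 1) {X U : Subgroup G} {t : G} {k : ℕ} (ht : t ∈ X)
    (htk : t ^ p ^ k = 1) (hUX : U ≤ X) (hUt : U ≤ 𝐂[t]) (hU : (𝐨(U)).Coprime p)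
    {χ α : G → ℂ} (hχ : χ ∈ Irr X) (hα : α ∈ Irr U) (hd : ip U (fun g => χ (g * t)) α ≠ 0)
    {f : G → ℂ} (hf : f ∈ CF X) (hf1 : ∀ g, v (f g) ≤ 1)
    (hf2 : ∀ g, t * g * t⁻¹ = g → g ∉ U → f g = 0) :
    v (om χ (toA f) - om α (toA (res U f))) < 1 := by
  classical
  by_contra hc
  have ha : toA f ∈ ZL v X := mem_ZL.2 ⟨by rwa [coeff_toA], fun g => by rw [coeff_toA]; exact hf1 g⟩
  have hb : toA (res U f) ∈ ZL v U := mem_ZL.2 ⟨by rw [coeff_toA]; exact res_mem_CF hUX hf,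
    fun g => by
      rw [coeff_toA]
      by_cases hg : g ∈ U
      · rw [res_of_mem _ hg]; exact hf1 g
      · rw [res_of_notMem _ hg]; simp⟩
  set c := om α (toA (res U f))
  have hz : toA f - c • 1 ∈ ZL v X := sub_mem ha (smul_mem_ZL (val_om_le hα hb) (one_mem _))
  obtain ⟨w, hw, h1⟩ := exists_idem_mul v hz
  set z := toA f - c • 1
  have he := idem_mem hv hU hα
  set e := idem U α
  have hE := mul_mem hz hw
  have hEE : z * w * (z * w) = z * w := eq_of_om (mem_ZL.1 (mul_mem hE hE)).1 (mem_ZL.1 hE).1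
    fun ψ hψ => by rw [om_mul hψ (mem_ZL.1 hE).1, h1 ψ hψ]; split_ifs <;> simp
  have hee : e * e = e := eq_of_om (mem_ZL.1 (mul_mem he he)).1 (mem_ZL.1 he).1
    fun ψ hψ => by rw [om_mul hψ (mem_ZL.1 he).1, om_idem hα hψ]; split_ifs <;> simp
  have heX : e ∈ (grpLat v X).Λ := ⟨fun g hg => he.1.1 g fun h => hg (hUX h), he.1.2⟩
  have hsup : ∀ b ∈ ZL v U, b ∈ LU v t := fun b hb => mem_LU.2 ⟨(mem_ZL.1 hb).2, fun g => by
    by_cases hg : g ∈ U
    · rw [mem_cent1.1 (hUt hg), mul_inv_cancel_right]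
    · rw [CF_off (mem_ZL.1 hb).1 hg, CF_off (mem_ZL.1 hb).1 fun h => hg (by
        have h2 := mem_cent1.1 (hUt h)
        have h3 : t * g * t⁻¹ = g := by
          rw [mul_assoc (t * g), inv_mul_cancel, mul_one, mul_left_cancel_iff] at h2
          exact h2
        rwa [h3] at h)]⟩
  have het := commute_single_iff.2 (mem_LU.1 (hsup e he)).2
  have h2 : (toA (res U f) - c • 1) * e = 0 := by
    have h3 := sub_mem hb (smul_mem_ZL (val_om_le hα hb) (one_mem _))
    refine eq_of_om (mem_ZL.1 (mul_mem h3 he)).1 (mem_ZL.1 (zero_mem (ZL v U))).1 fun ψ hψ => ?_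
    rw [om_mul hψ (mem_ZL.1 h3).1, om_idem hα hψ, om_sub, om_smul, om_one hψ]
    split_ifs with h
    · simp [h, c, om]
    · simp [om]
  have h3 : z * e ∈ JU v t := by
    have : z * e = (toA f - toA (res U f)) * e := by
      rw [← add_zero ((toA f - toA (res U f)) * e), ← h2, ← add_mul, sub_add_sub_cancel]
    rw [this]
    refine mul_mem_JU hp hv htk (sub_mem (mem_LU_of_ZL ht ha) (hsup _ hb)) (hsup e he)
      (.inl fun g hg => ?_)
    rw [coeff_sub, Finsupp.sub_apply, coeff_toA, coeff_toA]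
    by_cases h : g ∈ U
    · rw [res_of_mem _ h]; simp
    · rw [res_of_notMem _ h, hf2 g hg h]; simp
  have hc1 : Commute (z * w) e := Zc_commute hE.2 heX.1
  have h4 := tr_eq_zero_of_JU hp hv htk (one_mem_regSet p X) (Commute.one_right t)
    (F := z * w * e) (mul_mem hE.1 heX) (IsIdempotentElem.mul_of_commute hc1 hEE hee)
    ((Zc_commute hE.2 (single_mem_Sup ht)).mul_left het) (by rw [← one_def]; exact .one_right _)
    (by
      rw [(Zc_commute hz.2 hw.1.1).eq, mul_assoc]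
      exact mul_mem_JU hp hv htk (mem_LU_of_ZL ht hw)
        (mul_mem (mem_LU_of_ZL ht hz) (hsup e he)) (.inr h3)) (irr_mem_CF hχ)
  rw [mul_assoc, tr_central hχ (mem_ZL.1 hE).1, h1 χ hχ, if_neg (by
    rwa [om_sub, om_smul, om_one hχ, mul_one]), one_mul, mul_one, tr_idem_mul hα] at h4
  exact mul_ne_zero (irr_one_ne_zero hα) hd h4

end Cfsg.Agent.P5
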