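import Cfsg.Agent.P5.B1

/-! Section B, second part: the configuration with a simple subgroup `L` centralizing
`O_p(U) ∩ C(s)`. -/

set_option autoImplicit false
set_option linter.unusedSectionVars false

namespace Cfsg.Agent.P5

open Subgroup Cfsg Cfsg.Agent Cfsg.Agent.FT
open Cfsg.Agent.H2 (pPrimeCoreOf layerOf)
open scoped commutatorElement

universe u

variable {G : Type u} [Group G]

/-- The configuration of type `c`. -/
structure TC (U L A : Subgroup G) (t s x : G) (p : ℕ) : Prop where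
  bh : BH U t s
  pp : p.Prime
  lt : LT L A t s
  xL : x ∈ L
  tri : Tri x t s
  ne : pCoreOf p U ⊓ 𝐂[s] ≠ ⊥
  BR : U ⊓ 𝐂[s] ≤ 𝐍(L)
  co : IsCoatom 𝐍(L)
  PL : pCoreOf p U ⊓ 𝐂[s] ≤ 𝐂(L)
  AQ : A ⊓ pCoreOf p U ≠ ⊥
  cent : ∀ y ∈ pCoreOf p U ⊓ 𝐂[s], y ≠ 1 → 𝐂[y] ≤ 𝐍(L)

variable [Finite G] [IsSimpleGroup G]

namespace BH

variable {U L A : Subgroup G} {t s x : G} {p : ℕ} (h : BH U t s)
include h

theorem AU (hL : LT L A t s) : A ≤ U := h.le_U (hL.hyp.UH.trans inf_le_right) hL.hyp.odd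

theorem mem_A (hL : LT L A t s) {i : G} (hi : i ∈ U) (hn : i ∈ 𝐍(L)) (e : s * i * s = i⁻¹) :
    i ∈ A :=
  hL.hyp.mem_of_odd ⟨mem_of_inv h.hyp.odd hi hn hL.hyp.sX e, h.UH hi⟩ h.hyp.odd (pow_card_of_mem hi)

theorem le_cent_L (hL : LT L A t s) (xL : x ∈ L) (tri : Tri x t s) (hp : p.Prime)
    (hd : A ⊓ pCoreOf p U ≠ ⊥) (hB : U ⊓ 𝐂[s] ≤ 𝐂[x]) {P : Subgroup G}
    (hP : P ≤ pCoreOf p U ⊓ 𝐂[s]) (hN : P ≤ 𝐍(L)) : P ≤ 𝐂(L) := by
  have hQ := H2.isPGroup_pCoreOf p U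
  have h1 := hP.trans (inf_le_inf_right _ (H2.pCoreOf_le p U))
  have h2 := h1.trans (inf_le_left.trans h.UH)
  refine hL.le_cent xL tri hp ((prime_dvd_card_of_isPGroup hp (hQ.to_le inf_le_right) hd).trans
    (FT.card_dvd_of_le inf_le_left)) (hQ.to_le (hP.trans inf_le_left)) hN
    (le_inf (le_inf h2 (h1.trans inf_le_right)) (h1.trans hB))
    (Mx.le_cent_of_le (hP.trans inf_le_left) le_rfl (((le_inf hN h2).trans hL.hyp.norm_le).trans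
      (H2.normalizer_le_normalizer_pPrimeCoreOf p A)) ((pPrimeCoreOf_normal p A).1.trans
      ((h.AU hL).trans (H2.le_normalizer_pCoreOf p U))) ?_)
  obtain ⟨n, hn⟩ := exists_card_eq_pow hp hQ
  rw [hn]
  exact ((Nat.Prime.coprime_iff_not_dvd hp).2 (not_dvd_card_pPrimeCoreOf hp A)).pow_left n

theorem exists_TC (hp : p.Prime) (tri : Tri x t s) (hB : U ⊓ 𝐂[s] ≤ 𝐂[x])
    (ne : pCoreOf p U ⊓ 𝐂[s] ≠ ⊥) : ∃ L A x, TC U L A t s x p := by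
  have hQ := H2.isPGroup_pCoreOf p U
  have hQU := H2.pCoreOf_le p U
  have hV := h.hyp.v4
  set Q := pCoreOf p U with hQd
  have hPB : Q ⊓ 𝐂[s] ≤ U ⊓ 𝐂[s] := inf_le_inf_right _ hQU
  have z1 := center_ne_bot (isNilpotent_of_isPGroup hp (hQ.to_le inf_le_left)) ne
  have sP : s ∈ 𝐂((Q ⊓ 𝐂[s] : Subgroup G)) := mem_cent_iff_cent1.2 inf_le_right
  obtain ⟨R, hR, h2⟩ := Mx.exists_coatom_norm h.co.1 z1
    (inf_le_left.trans (hPB.trans (inf_le_left.trans h.UH)))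
  have h3 := (norm_le_norm_center _).trans h2
  have h4 := (cent_le_norm _).trans h3
  have BR := (h.B_norm p).trans h3
  obtain ⟨A, hL⟩ := h.lay hp (inf_le_left.trans inf_le_left) z1 hR h2 (h4 sP)
    (fun e => h.notMem tri (e ▸ h4 (mem_cent_iff_cent1.2 (hPB.trans hB)))) (.inl BR)
  have hN := Mx.norm_eq hR (fun e => hV.t1 (mem_bot.1 (e ▸ hL.hyp.tX))) (H2.layerOf_le R)
    (H2.le_normalizer_layerOf R)
  generalize layerOf R = L at hL hN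
  subst hN
  obtain ⟨y, yL, tri'⟩ := hL.tri
  have hB' := hL.cent_B h.hyp yL tri' BR
  have AQ : A ⊓ Q ≠ ⊥ := fun e => by
    have h5 : Q ⊓ 𝐂[s] < Q := inf_lt_left.2 fun e => h.notMem tri (by
      rw [← h.norm_eq (X := Q) (fun e => ne (by rw [e, bot_inf_eq])) hQU
        (H2.le_normalizer_pCoreOf p U) (h.H_norm p h.sH)]
      exact cent_le_norm _ (mem_cent_iff_cent1.2 ((le_inf hQU e).trans hB)))
    refine (lt_inf_norm_of_isNilpotent (isNilpotent_of_isPGroup hp hQ) h5).not_ge fun g hg => ?_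
    obtain ⟨b, hb, i, hi, e1, e2, rfl⟩ := Mx.exists_cent_mul_inv
      (Mx.odd_of_le (inf_le_left.trans hQU) h.hyp.odd) hV.ss (mem_norm_inf (h.H_norm p h.sH)
        (le_norm_self _ (cent_le_norm _ sP))) hg
    rw [mem_bot.1 (e.le ⟨h.mem_A hL (hQU hi.1) (h3 hi.2) e2, hi.1⟩), mul_one]
    exact ⟨hb.1, mem_cent1_iff_commute.2 e1.symm⟩
  have PL := h.le_cent_L hL yL tri' hp AQ hB' le_rfl (hPB.trans BR)
  refine ⟨L, A, y, h, hp, hL, yL, tri', ne, BR, hR, PL, AQ, fun z hz z1 => ?_⟩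
  have k1 : zpowers z ≠ ⊥ := mt zpowers_eq_bot.1 z1
  obtain ⟨R', hR', k2⟩ := Mx.exists_coatom_norm h.co.1 k1 (zpowers_le.2 (h.UH (hQU hz.1)))
  have k3 : 𝐂[z] ≤ R' := (Mx.cent1_le_norm_zpowers z).trans k2
  have k4 : L ≤ R' := (mem_cent_iff_cent1.1 (PL hz)).trans k3
  obtain ⟨A', hL'⟩ := h.lay hp (zpowers_le.2 hz.1) k1 hR' k2 (k4 hL.hyp.sX)
    (fun e => h.notMem tri' (e ▸ k4 yL)) (.inr ⟨y, k4 yL, tri'⟩)
  have k5 := H2.le_normalizer_layerOf R'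
  generalize layerOf R' = L' at hL' k5
  have k6 := hL'.le_of_le_norm h.hyp (k4.trans k5) hL.simple hL.hyp.tX hV.t1 hV.tt
  have k7 := h.le_cent_L hL' (k6 yL) tri' hp (fun e => AQ (eq_bot_iff.2 (e ▸ inf_le_inf_right _
    (hL'.hyp.le_of_odd (hL.hyp.UH.trans (inf_le_inf_right _ k6)) hL.hyp.odd)))) hB'
    (P := 𝐙((Q ⊓ 𝐂[s] : Subgroup G))) inf_le_left
    ((inf_le_right.trans (cent_le_cent1 hz)).trans (k3.trans k5))
  rw [le_antisymm k6 (hL.le_of_le_norm h.hyp ((cent_comm.1 k7).trans ((cent_le_norm _).trans h2))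
    hL'.simple hL'.hyp.tX hV.t1 hV.tt)]
  exact k3.trans k5

end BH

namespace TC

variable {U L A : Subgroup G} {t s x : G} {p : ℕ} (c : TC U L A t s x p)
include c

theorem Bx : U ⊓ 𝐂[s] ≤ 𝐂[x] := c.lt.cent_B c.bh.hyp c.xL c.tri c.BR

theorem comm : ⁅U, zpowers s⁆ = U :=
  comm_eq c.bh.hyp c.bh.perf (fun N hN => (BH.simple N hN).symm.imp_right
    fun e : N = ⊥ => e.le.trans bot_le)
    trivial c.tri c.Bx

theorem le_cent {X : Subgroup G} (hU : U ≤ 𝐍(X)) (hs : ∀ a ∈ X, s * a * s = a⁻¹) : U ≤ 𝐂(X) :=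
  c.comm ▸ c.bh.comm_le_cent hU (.inr hs)

theorem p2 : p ≠ 2 := c.bh.ne_two inf_le_left c.ne

theorem AU : A ≤ U := c.bh.AU c.lt

theorem inv {a : G} (ha : a ∈ A) : s * a * s = a⁻¹ := by
  rw [← c.lt.inv a ha, inv_eq_of_sq c.bh.hyp.ss]

theorem sR : s ∈ 𝐍(L) := le_norm_self L c.lt.hyp.sX

theorem ti {y g : G} (hy : y ∈ pCoreOf p U ⊓ 𝐂[s]) (y1 : y ≠ 1)
    (hg : g * y * g⁻¹ ∈ pCoreOf p U ⊓ 𝐂[s]) : g ∈ 𝐍(L) := by
  have hV := c.bh.hyp.v4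
  refine mem_norm_of_conj_le (c.lt.le_of_le_norm c.bh.hyp (le_trans ?_
    (c.cent _ hg (mt conj_eq_one_iff.1 y1))) (fun N hN => ?_) (conj_mem_conj c.lt.hyp.tX g)
    (mt conj_eq_one_iff.1 hV.t1) (by rw [conj_mul, hV.tt, mul_one, mul_inv_cancel]))
  · rw [cent1_conj]; exact conj_mono (mem_cent_iff_cent1.1 (c.PL hy)) g
  · rw [← conj_eq_bot_iff (g := g⁻¹)]
    refine (c.lt.simple _ ⟨conj_le_iff.2 (by simpa using hN.1), ?_⟩).imp_right fun e => by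
      rw [← e, conj_inv_conj]
    rw [norm_conj, le_conj_iff, inv_inv]; exact hN.2

theorem not_le : ¬ U ≤ 𝐍(L) := fun e => c.bh.notMem c.tri (((c.bh.co.le_iff.1 (c.bh.H_le e
  (le_norm_self L c.lt.hyp.tX) c.sR)).resolve_left c.co.1) ▸ le_norm_self L c.xL)

theorem decomp {W : Subgroup G} (hW : W ≤ U) (hs : s ∈ 𝐍(W)) {g : G} (hg : g ∈ W ⊓ 𝐍(L)) :
    ∃ b ∈ W ⊓ 𝐂[s], ∃ a ∈ A ⊓ W, b * a = g := by
  obtain ⟨b, hb, i, hi, e1, e2, rfl⟩ := Mx.exists_cent_mul_inv (Mx.odd_of_le (inf_le_left.trans hW)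
    c.bh.hyp.odd) c.bh.hyp.ss (mem_norm_inf hs (le_norm_self _ c.sR)) hg
  exact ⟨b, ⟨hb.1, mem_cent1_iff_commute.2 e1.symm⟩, i,
    ⟨c.bh.mem_A c.lt (hW hi.1) hi.2 e2, hi.1⟩, rfl⟩

theorem eq_one {a : G} (ha : a ∈ U) (h1 : a ∈ 𝐂[s]) (h2 : s * a * s = a⁻¹) : a = 1 := by
  rw [mem_cent1.1 h1, mul_assoc, c.bh.hyp.ss, mul_one, eq_inv_iff_mul_eq_one] at h2
  exact eq_one_of_odd c.bh.hyp.odd ha h2

theorem dprod : DProd (pCoreOf p U ⊓ 𝐂[s]) (A ⊓ pCoreOf p U) (pCoreOf p U ⊓ 𝐍(L)) where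
  sup := le_antisymm (sup_le (le_inf inf_le_left ((inf_le_inf_right _ (H2.pCoreOf_le p U)).trans
    c.BR)) (le_inf inf_le_right (inf_le_left.trans (c.lt.hyp.UX.trans (le_norm_self L)))))
    fun g hg => by
      obtain ⟨b, hb, a, ha, rfl⟩ := c.decomp (H2.pCoreOf_le p U) (c.bh.H_norm p c.bh.sH) hg
      exact mul_mem_sup hb ha
  cent := inf_le_left.trans (c.lt.hyp.UX.trans (cent_comm.1 c.PL))
  disj := eq_bot_iff.2 fun _ ha => c.eq_one (c.AU ha.2.1) ha.1.2 (c.inv ha.2.1)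

theorem norm_P : U ⊓ 𝐍(L) ≤ 𝐍((pCoreOf p U ⊓ 𝐂[s] : Subgroup G)) := fun g hg => by
  obtain ⟨b, hb, a, ha, rfl⟩ := c.decomp le_rfl c.bh.hyp.sU hg
  exact mul_mem (c.bh.B_norm p hb) (cent_le_norm _ (cent_comm.1 c.PL (c.lt.hyp.UX ha.1)))

theorem cycA : IsCyclic (A ⊓ pCoreOf p U : Subgroup G) := isCyclic_of_le inf_le_left c.lt.cyc

theorem cyc : IsCyclic (pCoreOf p U ⊓ 𝐂[s] : Subgroup G) := by
  have hQ := H2.isPGroup_pCoreOf p U
  obtain ⟨g, h1, h2⟩ : ∃ g ∈ 𝐍((pCoreOf p U ⊓ 𝐍(L) : Subgroup G)), g ∉ 𝐍(L) := by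
    by_cases e : pCoreOf p U ≤ 𝐍(L)
    · obtain ⟨g, h1, h2⟩ := SetLike.not_le_iff_exists.1 c.not_le
      exact ⟨g, by rw [inf_of_le_left e]; exact H2.le_normalizer_pCoreOf p U h1, h2⟩
    · obtain ⟨g, h1, h2⟩ := SetLike.exists_of_lt (lt_inf_norm_of_isNilpotent
        (isNilpotent_of_isPGroup c.pp hQ) (inf_lt_left.2 e))
      exact ⟨g, h1.2, fun e => h2 ⟨h1.1, e⟩⟩
  have h3 := c.dprod.normal_left
  have h4 := (c.dprod.conj g).normal_left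
  rw [conj_eq_of_mem_norm h1] at h4
  have h5 := (dProd_of_normal (h4.1.trans h3.2) (h3.1.trans h4.2) (eq_bot_iff.2 fun y hy => by
    obtain ⟨z, hz, rfl⟩ := mem_conj'.1 hy.2
    by_contra e
    exact h2 (c.ti hz (fun e' => e (by simp [e'])) hy.1))).pRank_eq c.pp
  have h6 := pRank_mono c.pp (sup_le h3.1 h4.1)
  rw [h5, c.dprod.pRank_eq c.pp, pRank_conj c.pp] at h6
  exact isCyclic_of_pRank_le_one c.pp c.p2 (hQ.to_le inf_le_left)
    ((Nat.le_of_add_le_add_left h6).trans (pRank_le_one_of_isCyclic c.pp c.cycA))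

theorem comm1 : IsMulCommutative (pCoreOf p U ⊓ 𝐍(L) : Subgroup G) :=
  c.dprod.isMulComm (isMulComm_of_isCyclic c.cyc) (isMulComm_of_isCyclic c.cycA)

theorem elem : IsElem p 2 (omegaOne p (pCoreOf p U ⊓ 𝐍(L))) := by
  have hQ := H2.isPGroup_pCoreOf p U
  have h1 := isElem_omegaOne_of_comm c.pp c.comm1
  have h2 := (pRank_pos_iff c.pp).2 (prime_dvd_card_of_isPGroup c.pp (hQ.to_le inf_le_left) c.ne)
  have h3 := (pRank_pos_iff c.pp).2 (prime_dvd_card_of_isPGroup c.pp (hQ.to_le inf_le_right) c.AQ)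
  have h4 := pRank_le_one_of_isCyclic c.pp c.cyc
  have h5 := pRank_le_one_of_isCyclic c.pp c.cycA
  rwa [c.dprod.pRank_eq c.pp, (by omega : pRank p _ + pRank p _ = 2)] at h1

theorem card_b : 𝐨(omegaOne p (pCoreOf p U ⊓ 𝐂[s])) = p := card_omegaOne_of_isCyclic c.pp c.cyc
  (prime_dvd_card_of_isPGroup c.pp ((H2.isPGroup_pCoreOf p U).to_le inf_le_left) c.ne)

theorem card_a : 𝐨(omegaOne p (A ⊓ pCoreOf p U)) = p := card_omegaOne_of_isCyclic c.pp c.cycA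
  (prime_dvd_card_of_isPGroup c.pp ((H2.isPGroup_pCoreOf p U).to_le inf_le_right) c.AQ)

theorem ti_inv (hE : U ≤ 𝐍(omegaOne p (pCoreOf p U ⊓ 𝐍(L)))) : ∀ u ∈ U, u ∉ 𝐍(L) → ∀ j ∈ L,
    j ≠ 1 → j * j = 1 → u * j * u⁻¹ ∈ L → j = t := fun u hu hn j hj j1 jj e => by
  have h1 := omegaOne_mono (p := p) c.dprod.le_left
  have h2 := (omegaOne_le p _).trans c.PL
  have h3 := (c.elem.sup_eq_of_two c.pp h1 (conj_le_of_mem_norm h1 (hE (inv_mem hu))) c.card_b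
    ((card_conj _ _).trans c.card_b) fun e => by
      obtain ⟨y, hy, y1⟩ := (bot_or_exists_ne_one _).resolve_left
        (ne_bot_of_card_prime (c.card_b.symm ▸ c.pp))
      exact hn (c.ti (omegaOne_le p _ hy) y1 (omegaOne_le p _ (by
        rw [e, mem_conj] at hy; simpa using hy)))).sup
  obtain ⟨a, ha, a1⟩ := (bot_or_exists_ne_one _).resolve_left
    (ne_bot_of_card_prime (c.card_a.symm ▸ c.pp))
  have h4 : j ∈ 𝐂[a] := cent_le_cent1 (omegaOne_mono c.dprod.le_right ha) (by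
    rw [← h3, cent_sup, cent_conj]
    exact ⟨cent_comm.1 h2 hj, mem_conj.2 (by simpa using cent_comm.1 h2 e)⟩)
  rcases c.lt.cent a (omegaOne_le p _ ha).1 a1 j hj (mem_cent1_iff_commute.1 h4) with h5 | h5
  · exact (j1 (eq_one_of_odd c.lt.hyp.odd h5 jj)).elim
  · have h6 : Commute t j := by simpa using (c.lt.hyp.cU h5).mul_right (Commute.refl t).inv_right
    have := eq_one_of_odd c.lt.hyp.odd h5 (by
      rw [mul_assoc, ← mul_assoc t, h6.eq, mul_assoc, c.lt.hyp.tt, mul_one, jj])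
    rw [eq_inv_of_mul_eq_one_left this, inv_eq_of_sq c.lt.hyp.tt]

theorem relIndex_le (hE : U ≤ 𝐍(omegaOne p (pCoreOf p U ⊓ 𝐍(L)))) :
    (𝐍(L) : Subgroup G).relIndex U ≤ 𝐨(A) := by
  have h1 := omegaOne_mono (p := p) c.dprod.le_left
  have h2 := omegaOne_le p (pCoreOf p U ⊓ 𝐂[s])
  have h3 := NormedTI.ncard_classSupp (A := sharp (omegaOne p (pCoreOf p U ⊓ 𝐂[s])))
    (X := U) (L := U ⊓ 𝐍(L)) {
    nonempty := sharp_nonempty.2 (ne_bot_of_card_prime (c.card_b.symm ▸ c.pp))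
    one_notMem := fun e => e.2 rfl
    subset := fun y hy => ⟨H2.pCoreOf_le p U (h2 hy.1).1, (c.dprod.le_left (h2 hy.1)).2⟩
    le := inf_le_left
    norm := fun g hg y hy => ⟨(mem_normalizer_iff.1 (norm_le_norm_omegaOne _ p (c.norm_P hg)) y).1
      hy.1, mt conj_eq_one_iff.1 hy.2⟩
    ti := fun g hg y hy e => ⟨hg, c.ti (h2 hy.1) hy.2 (h2 e.1)⟩ }
  have h4 := Set.ncard_le_ncard (s := classSupp (sharp (omegaOne p (pCoreOf p U ⊓ 𝐂[s]))) U)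
    (t := sharp (omegaOne p (pCoreOf p U ⊓ 𝐍(L)))) fun y hy =>
    ⟨classSupp_subset ((sharp_subset _).trans h1) hE hy,
      fun e => one_notMem_classSupp (fun e => e.2 rfl) (e ▸ hy)⟩
  rw [ncard_sharp, c.card_b, ← H1.card_mul_relIndex (inf_le_left : U ⊓ 𝐍(L) ≤ U), mul_comm,
    mul_left_comm, inf_relIndex_left, Nat.mul_right_inj (card_ne_zero _)] at h3
  rw [h3, ncard_sharp, c.elem.card] at h4
  obtain ⟨k, hk⟩ := c.bh.hyp.odd.of_dvd_nat (relIndex_dvd_card 𝐍(L) U)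
  obtain ⟨l, hl⟩ := c.pp.odd_of_ne_two c.p2
  have h5 : p ≤ 𝐨(A) := c.card_a ▸ card_le_of_le ((omegaOne_le p _).trans inf_le_left)
  have h6 := c.pp.two_le
  refine le_trans ?_ h5
  rw [hk] at h4 ⊢
  by_contra! h7
  have : (p - 1) * (p + 2) ≤ (p - 1) * (2 * k + 1) := Nat.mul_le_mul_left _ (by omega)
  subst hl
  simp only [Nat.add_sub_cancel] at this h4
  have : 1 ≤ (2 * l + 1) ^ 2 := Nat.one_le_pow _ _ (by omega)
  zify [this] at *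
  nlinarith

end TC

end Cfsg.Agent.P5
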