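import Cfsg.Agent.P5.K3

/-! A counting argument with the conjugates of an overgroup of an `LT` subgroup. -/

set_option autoImplicit false
set_option linter.unusedSectionVars false

namespace Cfsg.Agent.P5

open Subgroup Cfsg Cfsg.Agent Cfsg.Agent.FT

universe u

variable {G : Type u} [Group G] [Finite G]

theorem relIndex_mul_le_index {U R L : Subgroup G} {t : G} (Ut : U ≤ 𝐂[t]) (tL : t ∈ L)
    (t1 : t ≠ 1) (tt : t * t = 1) (hn : R ≤ 𝐍(L))
    (ti : ∀ u ∈ U, u ∉ R → ∀ j ∈ L, j ≠ 1 → j * j = 1 → u * j * u⁻¹ ∈ L → j = t) :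
    (𝐂[t] : Subgroup G).relIndex L * (R.relIndex U - 1) ≤ R.index := by
  classical
  let d₀ : U ⧸ R.subgroupOf U := ((1 : U) : U ⧸ R.subgroupOf U)
  let f : (L ⧸ (𝐂[t] : Subgroup G).subgroupOf L) × {d : U ⧸ R.subgroupOf U // d ≠ d₀} → G ⧸ R :=
    fun z => (((z.1.out : G) * (z.2.1.out : G) : G) : G ⧸ R)
  have hf : Function.Injective f := by
    rintro ⟨c, d, hd⟩ ⟨c', d', hd'⟩ e
    have e1 : ((c.out : G) * (d.out : G))⁻¹ * ((c'.out : G) * (d'.out : G)) ∈ R :=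
      QuotientGroup.eq.1 e
    have hu : ((d.out : G))⁻¹ ∉ R := fun h => hd (by
      rw [← d.out_eq']
      exact QuotientGroup.eq.2 (by rw [mul_one]; exact h))
    have hg : (c.out : G)⁻¹ * c'.out ∈ L := mul_mem (inv_mem c.out.2) c'.out.2
    have e2 : (c.out : G)⁻¹ * c'.out * t * ((c.out : G)⁻¹ * c'.out)⁻¹ = t := by
      refine ti _ (inv_mem d.out.2) hu _ (cj hg tL) (fun h => t1 (conj_eq_one_iff.1 h))
        (by rw [conj_mul, tt]; simp) ?_
      have h1 := (mem_normalizer_iff.1 (hn e1) t).1 tL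
      have h2 : (d'.out : G) * t * (d'.out : G)⁻¹ = t := mem_cent1_iff_conj.1 (Ut d'.out.2)
      have h3 : ∀ a b a' b' : G, b' * t * b'⁻¹ = t → (a * b)⁻¹ * (a' * b') * t *
          ((a * b)⁻¹ * (a' * b'))⁻¹ = b⁻¹ * (a⁻¹ * a' * t * (a⁻¹ * a')⁻¹) * b⁻¹⁻¹ :=
        fun a b a' b' h => by
          conv_rhs => rw [← h]
          group
      rwa [h3 _ _ _ _ h2] at h1
    obtain rfl : c = c' := by
      rw [← c.out_eq', ← c'.out_eq']
      exact QuotientGroup.eq.2 (mem_cent1_iff_conj.2 e2)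
    obtain rfl : d = d' := by
      rw [← d.out_eq', ← d'.out_eq']
      refine QuotientGroup.eq.2 ?_
      rw [mul_inv_rev, mul_assoc, inv_mul_cancel_left] at e1
      exact e1
    rfl
  have h1 := Nat.card_le_card_of_injective f hf
  have h2 : Nat.card {d : U ⧸ R.subgroupOf U // d ≠ d₀} + 1 = R.relIndex U := by
    rw [← Finite.card_option, Nat.card_congr (Equiv.optionSubtypeNe d₀)]
    rfl
  rw [Nat.card_prod, Nat.eq_sub_of_add_eq h2] at h1
  exact h1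

set_option linter.unusedVariables false in
theorem count_false {U R L A : Subgroup G} {t s x : G} (h : Hyp ⊤ U t s) (hL : LT L A t s)
    (xL : x ∈ L) (tri : Tri x t s) (hn : L ⊲ R) (hN : 𝐍(R) ≤ R) (hB : U ⊓ 𝐂[s] ≤ R)
    (hU : ¬ U ≤ R)
    (ti : ∀ u ∈ U, u ∉ R → ∀ j ∈ L, j ≠ 1 → j * j = 1 → u * j * u⁻¹ ∈ L → j = t)
    (hm : R.relIndex U ≤ 𝐨(A)) : False := by
  have tL := hL.hyp.tX
  have sL := hL.hyp.sX
  have key : ∀ Y : Subgroup G, t ∈ Y → s ∈ Y → Y.relIndex (⊤ ⊓ 𝐂[t]) = Y.relIndex U := by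
    intro Y ht hs
    have e : (⊤ ⊓ 𝐂[t]) ⊓ Y ⊔ U = ⊤ ⊓ 𝐂[t] := le_antisymm (sup_le inf_le_left h.UH)
      (h.H_le le_sup_right (mem_sup_left ⟨h.tH, ht⟩) (mem_sup_left ⟨h.sH, hs⟩))
    have := H8.relIndex_eq_relIndex_sup ((⊤ ⊓ 𝐂[t]) ⊓ Y) U (inf_le_left.trans h.HU)
    rw [e, inf_relIndex_left, ← inf_relIndex_left U, ← inf_assoc, inf_of_le_left h.UH,
      inf_relIndex_left] at this
    exact this.symm
  have hAU : A ≤ U := h.le_of_odd (le_inf le_top hL.hyp.Ut) hL.hyp.odd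
  have hAW : A ≤ U ⊓ R := le_inf hAU (hL.hyp.UX.trans hn.1)
  have oW : Odd 𝐨((U ⊓ R : Subgroup G)) := Mx.odd_of_le inf_le_left h.odd
  have sW : s ∈ 𝐍((U ⊓ R : Subgroup G)) :=
    zpowers_le.1 (H1.le_normalizer_inf (zpowers_le.2 h.sU)
      (zpowers_le.2 (le_normalizer (hn.1 sL))))
  have hW : (U ⊓ R) ⊓ 𝐂[s] ⊔ A = U ⊓ R := by
    refine le_antisymm (sup_le inf_le_left hAW) fun c hc => ?_
    obtain ⟨b, hb, a, ha, hbs, has, rfl⟩ := Mx.exists_cent_mul_inv oW h.ss sW hc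
    refine mul_mem (mem_sup_left ⟨hb, Mx.mem_cent1.2 hbs⟩) (mem_sup_right ?_)
    have h1 : a ^ 2 ∈ L := by
      have := mul_mem ((mem_normalizer_iff.1 (hn.2 ha.2) s).1 sL) sL
      rwa [← has, show a * s * (s * a * s) * s = a * (s * s) * a * (s * s) by group, h.ss, mul_one,
        mul_one, ← sq] at this
    have h2 : Odd (orderOf a) := h.odd.of_dvd_nat (orderOf_dvd_card_of_mem ha.1)
    have h3 : a ∈ L := H8.mem_of_pow_mem_of_coprime (n := 2) (Nat.coprime_two_right.2 h2) h1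
    exact hL.hyp.mem_of_odd ⟨h3, h.Ut ha.1⟩ h2 (pow_orderOf_eq_one a)
  have k1 : (𝐂[s] : Subgroup G).relIndex (U ⊓ R) ≤ 𝐨(A) := by
    have := H8.relIndex_eq_relIndex_sup ((U ⊓ R) ⊓ 𝐂[s]) A fun y hy =>
      hL.hyp.norm_le ⟨hn.2 hy.1.2, h.Ut hy.1.1⟩
    rw [hW, inf_relIndex_left] at this
    rw [← this]
    exact Nat.le_of_dvd Nat.card_pos (relIndex_dvd_card _ _)
  have k2 : (𝐂[s] : Subgroup G).relIndex (⊤ ⊓ 𝐂[t]) ≤ 𝐨(A) * R.relIndex U := by
    have := relIndex_mul_relIndex (U ⊓ 𝐂[s]) (U ⊓ R) U (le_inf inf_le_left hB) inf_le_left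
    rw [inf_relIndex_left, inf_relIndex_left] at this
    rw [key _ (Mx.mem_cent1.2 h.comm) (self_mem_cent1 s), ← this]
    refine Nat.mul_le_mul_right _ (le_trans (le_of_eq ?_) k1)
    rw [← inf_relIndex_left (U ⊓ R), ← inf_relIndex_left (U ⊓ R) 𝐂[s]]
    congr 1
    rw [inf_assoc, inf_left_comm R, ← inf_assoc, inf_idem, ← inf_assoc]
  have k3 := h.le_fifteen
  have k4 : (𝐂[t] : Subgroup G).relIndex L * R.index ≤
      R.relIndex U * (⊤ ⊓ 𝐂[t] : Subgroup G).relIndex ⊤ := by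
    rw [← key R (hn.1 tL) (hn.1 sL), top_inf_eq, relIndex_top_right, ← inf_relIndex_right R,
      relIndex_mul_index inf_le_right, ← relIndex_mul_index (inf_le_left : R ⊓ 𝐂[t] ≤ R),
      inf_relIndex_left]
    exact Nat.mul_le_mul_right _ (relIndex_le_of_le_right hn.1 index_ne_zero_of_finite)
  have k5 := relIndex_mul_le_index h.Ut tL h.t1 h.tt hn.2 ti
  have k6 : 4 * 𝐨(A) * (𝐂[t] : Subgroup G).relIndex L = 𝐨(L) := by
    rw [← hL.hyp.card_H, ← inf_relIndex_left]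
    exact H1.card_mul_relIndex inf_le_left
  obtain ⟨q, -, hq, k7⟩ := hL.ord
  obtain ⟨m, k8⟩ : Odd (R.relIndex U) := h.odd.of_dvd_nat (relIndex_dvd_card _ _)
  have k9 : R.relIndex U ≠ 1 := fun e => hU (relIndex_eq_one.1 e)
  rw [k8] at k2 k4 k5 k9 hm
  rw [Nat.add_sub_cancel] at k5
  generalize (𝐂[t] : Subgroup G).relIndex L = N at *
  generalize (𝐂[s] : Subgroup G).relIndex (⊤ ⊓ 𝐂[t]) = k at *
  generalize (⊤ ⊓ 𝐂[t] : Subgroup G).relIndex ⊤ = M at *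
  generalize R.index = r at *
  generalize 𝐨(A) = κ at *
  have hm1 : 1 ≤ m := by omega
  have hN6 : 6 * κ ^ 2 ≤ N := by
    obtain ⟨y, rfl⟩ : ∃ y, q = y + 1 := ⟨q - 1, by omega⟩
    rw [← k6, show (y + 1) ^ 2 - 1 = y * (y + 2) from Nat.sub_eq_of_eq_add (by ring)] at k7
    refine Nat.le_of_mul_le_mul_left (c := 8 * κ) ?_ (by omega)
    rw [show 8 * κ * N = 2 * (4 * κ * N) by ring, k7]
    rcases hq with e | e
    · obtain rfl : y = 4 * κ := by omega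
      nlinarith
    · obtain ⟨z, rfl⟩ : ∃ z, κ = z + 3 := ⟨κ - 3, by omega⟩
      obtain rfl : y = 4 * z + 10 := by omega
      nlinarith
  have a1 : N * (N * (2 * m)) ≤ (2 * m + 1) * (15 * (κ * (2 * m + 1)) ^ 2) :=
    (Nat.mul_le_mul_left _ k5).trans (k4.trans (Nat.mul_le_mul_left _
      (k3.trans (Nat.mul_le_mul_left _ (Nat.pow_le_pow_left k2 2)))))
  have a2 : 6 * κ ^ 2 * (6 * κ ^ 2 * (2 * m)) ≤ N * (N * (2 * m)) :=
    Nat.mul_le_mul hN6 (Nat.mul_le_mul_right _ hN6)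
  have a3 : (2 * m + 1) * (15 * (κ * (2 * m + 1)) ^ 2) ≤ (2 * m + 1) * (15 * (κ * κ) ^ 2) :=
    Nat.mul_le_mul_left _ (Nat.mul_le_mul_left _ (Nat.pow_le_pow_left (Nat.mul_le_mul_left _ hm) 2))
  have a4 : κ ^ 4 * (72 * m) ≤ κ ^ 4 * (30 * m + 15) := by nlinarith
  have := Nat.le_of_mul_le_mul_left a4 (by have : 0 < κ := by omega
                                           positivity)
  omega

end Cfsg.Agent.P5
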