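import Cfsg.Agent.P5.CharB

/-! The last configuration: `U / D` is a Frobenius group with kernel of order `p ^ 2`. -/

set_option autoImplicit false
set_option linter.unusedSectionVars false

namespace Cfsg.Agent.P5

open Subgroup Cfsg Cfsg.Agent Cfsg.Agent.FT
open scoped ComplexConjugate commutatorElement

universe u

variable {G : Type u} [Group G]

/-- `D` is central in `U`, `C` is a central product of `D` with a group of order `p ^ 3`. -/
structure Ex (U C D Z : Subgroup G) (p : ℕ) : Prop where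
  pp : p.Prime
  card : 𝐨(Z) = p
  ZD : Z ≤ D
  fr : FrobKerMod U C D
  cD : U ≤ 𝐂(D)
  idx : D.relIndex C = p ^ 2
  cm : ∀ c ∈ C, c ∉ D → ∃ w ∈ C, ⁅w, c⁆ ∈ Z ∧ ⁅w, c⁆ ≠ 1
  der : ⁅C, C⁆ ≤ D
  cyc : CycMod U C
  num : 2 * C.relIndex U ≤ p + 1

variable [Finite G]

theorem irr_central {H : Subgroup G} {z : G} (hz : z ∈ H) (hH : H ≤ 𝐂[z]) {φ : G → ℂ}
    (hφ : φ ∈ Irr H) (g : G) : φ 1 * φ (z * g) = φ z * φ g := by
  have := P1.sum_conj_mul hφ hz g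
  rw [sum_fs_congr (g := fun _ => φ (z * g)) (fun a ha => by
    rw [mem_cent1_iff_conj.1 (hH ha)]), sum_fs_const, nsmul_eq_mul, mul_left_comm] at this
  exact mul_left_cancel₀ (card_ne_zero_C H) this

theorem sum_le_of_normedTI {A : Set G} {X L : Subgroup G} (h : NormedTI A X L) {χ : G → ℂ}
    (hχ : χ ∈ Irr X) : ∑ g ∈ fs A, ‖χ g‖ ^ 2 ≤ 𝐨(L) := by
  classical
  let f : G → ℂ := fun g => if g ∈ A then χ g else 0
  have hf : f ∈ CFon L A := mem_CFon.2 ⟨mem_CF.2 ⟨fun g hg => if_neg fun e => hg (h.subset e),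
    fun g hg a => by
      by_cases e : a ∈ A
      · simp only [f, if_pos e, if_pos (h.norm g hg a e), CF_conj (irr_mem_CF hχ) (h.le hg)]
      · simp only [f, if_neg e]
        exact if_neg fun e' => e (by simpa [mul_assoc] using h.norm _ (L.inv_mem hg) _ e')⟩,
    fun g hg => if_neg hg⟩
  have h1 : nsq L f = (𝐨(L) : ℝ)⁻¹ * ∑ g ∈ fs A, ‖χ g‖ ^ 2 := by
    rw [nsq_def, ← sum_fs_subset h.subset fun g _ hg => by simp [f, hg]]
    exact congrArg _ (sum_fs_congr fun g hg => by simp only [f, if_pos hg])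
  have h2 := nsq_nonneg X (ind X L f - χ)
  rw [nsq_sub, nsq_eq_of_ip_eq (h.ip_ind hf hf), nsq_irr hχ, ip_ind_left h.le _ (irr_mem_CF hχ),
    ip_congr_of_supp (A := A) (ψ' := f) (fun g _ hg => if_neg hg) (fun g hg => (if_pos hg).symm),
    ← nsq_eq_re, h1] at h2
  have h3 := card_pos_R L
  have h4 : (𝐨(L) : ℝ)⁻¹ * ∑ g ∈ fs A, ‖χ g‖ ^ 2 ≤ 1 := by linarith
  rwa [inv_mul_le_iff₀ h3, mul_one] at h4

namespace Ex

variable {U C D Z : Subgroup G} {p : ℕ} (e : Ex U C D Z p)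
include e

theorem vanish {K : Subgroup G} (hC : C ≤ K) (hK : K ≤ U) {β : G → ℂ} (hβ : β ∈ Irr K)
    (hZ : ¬ Z ≤ cfKer β) {c : G} (hc : c ∈ C) (hD : c ∉ D) : β c = 0 := by
  obtain ⟨w, hw, h1, h2⟩ := e.cm c hc hD
  have := irr_central (hC (e.fr.ltN.le (e.ZD h1)))
    (hK.trans (e.cD.trans (cent_le_cent1 (e.ZD h1)))) hβ c
  rw [commutatorElement_def, inv_mul_cancel_right, CF_conj (irr_mem_CF hβ) (hC hw),
    ← commutatorElement_def] at this
  refine (mul_eq_mul_right_iff.1 this).resolve_left fun e' => hZ ?_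
  rw [← zpowers_eq_of_card_prime (e.card ▸ e.pp) h1 h2, zpowers_le,
    (irr_isChar hβ).mem_cfKer_iff, e']

theorem dg_eq {β : G → ℂ} (hβ : β ∈ Irr U) (hZ : ¬ Z ≤ cfKer β) : dg β = p := by
  have hn : C ⊲ U := ⟨e.fr.ltK.le, e.fr.normK⟩
  have hDC := e.fr.ltN.le
  obtain ⟨θ, hθ⟩ := exists_constt_res hn.1 hβ
  have h1 := (mem_constt.1 hθ).1
  have h2 : ¬ Z ≤ cfKer θ := mt (le_cfKer_iff_of_constt_res hn (e.ZD.trans hDC)
    ((e.cD.trans (cent_anti e.ZD)).trans (cent_le_norm _)) hβ hθ).2 hZ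
  have h3 : dg θ = p := by
    obtain ⟨l, hl, h4⟩ := res_central hDC h1 (by
      rw [comm_eq_bot_iff.2 (hn.1.trans e.cD)]; exact bot_le)
    have h5 := ip_eq_ip_of_supp hDC (fun c hc hD => e.vanish le_rfl hn.1 h1 h2 hc hD) θ
    rw [ip_irr_self h1, ← ip_res_left, ← ip_res_right, h4, ip_smul_left, ip_smul_right,
      ip_irr_self hl.mem_Irr, irr_one_eq h1, e.idx, map_natCast] at h5
    have : p ^ 2 = dg θ ^ 2 := by exact_mod_cast (by push_cast at h5 ⊢; linear_combination h5 :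
      ((p ^ 2 : ℕ) : ℂ) = (dg θ ^ 2 : ℕ))
    exact (Nat.pow_left_injective two_ne_zero this).symm
  obtain ⟨χ, h4, rfl⟩ := exists_extension_of_cycMod hn e.cyc h1 fun u hu => mem_inertia.2 (CF_ext
    (cfConj_mem_CF_of_norm (irr_mem_CF h1) (hn.2 hu)) (irr_mem_CF h1) fun c hc => by
      rw [cfConj_apply]
      by_cases hD : c ∈ D
      · rw [mul_assoc, mem_centralizer_iff.1 (e.cD hu) c hD, inv_mul_cancel_left]
      · rw [e.vanish le_rfl hn.1 h1 h2 hc hD, e.vanish le_rfl hn.1 h1 h2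
          (H1.conj_mem_of_le_normalizer' le_rfl (hn.2 hu) hc) fun h => hD (by
            simpa [mul_assoc] using (mem_normalizer_iff.1 (e.fr.normN hu) _).1 h)])
  obtain ⟨γ, h5, rfl⟩ := (gallagher hn (irr_isChar h4) h1).1.surjOn
    ((mem_constt_ind_iff hn.1 h1 hβ).2 hθ)
  have h6 := isLin_of_der_le_cfKer (mem_irrKer.1 h5).1
    ((e.cyc.der_le hn.2 hn.1).trans (mem_irrKer.1 h5).2)
  rw [h6.isChar.dg_mul (irr_isChar h4), h6.dg, one_mul, ← h3, dg_res]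

theorem three_le (ho : Odd 𝐨(U)) : 3 ≤ C.relIndex U := by
  obtain ⟨k, hk⟩ := ho.of_dvd_nat (relIndex_dvd_card C U)
  have : C.relIndex U ≠ 1 := fun h => e.fr.ltK.not_ge (relIndex_eq_one.1 h)
  omega

theorem mass (ho : Odd 𝐨(U)) {φ : G → ℂ} (hφ : IsChar U φ) (hZ : ¬ Z ≤ cfKer φ)
    (h2 : ∀ β ∈ Irr U, ¬ Z ≤ cfKer β → ∃ m : ℕ, ip U φ β = 2 * m)
    (h3 : ∑ g ∈ fs (sharp D), ‖φ g‖ ^ 2 + ∑ g ∈ fs ((U : Set G) \ C), ‖φ g‖ ^ 2 ≤ 3 * 𝐨(U)) :
    2 * p * (C.relIndex U * (p - 1)) ≤ dg φ := by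
  classical
  have hDC := e.fr.ltN.le
  have hCU := e.fr.ltK.le
  choose! m hm using h2
  set S := (Irr U).filter fun β => ¬ Z ≤ cfKer β with hS
  have mS : ∀ β ∈ S, β ∈ Irr U ∧ ¬ Z ≤ cfKer β := fun β => Finset.mem_filter.1
  set φ₀ := ∑ β ∈ (Irr U).filter (fun β => Z ≤ cfKer β), ip U φ β • β with hφ₀
  set φ₁ := ∑ β ∈ S, ((2 * m β : ℤ) : ℂ) • β with hφ₁
  have a1 : φ = φ₀ + φ₁ := by
    rw [hφ₁, Finset.sum_congr rfl (g := fun β => ip U φ β • β) fun β hβ => by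
      rw [hm β (mS β hβ).1 (mS β hβ).2]; push_cast; rfl, hφ₀,
      Finset.sum_filter_add_sum_filter_not]
    exact eq_sum_irr hφ.mem_CF
  have a2 : IsChar U φ₀ := IsChar.sum fun β hβ => by
    have := irr_isChar (Finset.mem_filter.1 hβ).1
    obtain ⟨n, hn⟩ := hφ.ip_nat this
    exact hn ▸ this.nat_smul n
  have a3 : Z ≤ cfKer φ₀ := le_cfKer_sum fun β hβ z hz => mem_cfKer.2 fun y => by
    rw [Pi.smul_apply, Pi.smul_apply, mem_cfKer.1 ((Finset.mem_filter.1 hβ).2 hz)]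
  have a4 : nsq U φ = nsq U φ₀ + 4 * ∑ β ∈ S, (m β : ℝ) ^ 2 := by
    conv_lhs => rw [a1]
    rw [nsq_add_of_orth (by
      rw [ip_sum_left]
      refine Finset.sum_eq_zero fun β hβ => ?_
      rw [ip_smul_left, ip_sum_right, Finset.sum_eq_zero fun γ hγ => ?_, mul_zero]
      rw [ip_smul_right, ip_irr_of_ne (Finset.mem_filter.1 hβ).1 (mS γ hγ).1
        fun h => (mS γ hγ).2 (h ▸ (Finset.mem_filter.1 hβ).2), mul_zero]), hφ₁,
      ((on_Irr U).mono (Finset.filter_subset _ _)).nsq_sum_int_smul, Finset.mul_sum]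
    exact congrArg _ (Finset.sum_congr rfl fun β _ => by push_cast; ring)
  have a5 : dg φ = dg φ₀ + 2 * p * ∑ β ∈ S, m β := by
    have := congrFun a1 1
    rw [Pi.add_apply, hφ.one_eq, a2.one_eq, hφ₁, Finset.sum_apply, Finset.sum_congr rfl
      (g := fun β => 2 * p * (m β : ℂ)) fun β hβ => by
        rw [Pi.smul_apply, irr_one_eq (mS β hβ).1, e.dg_eq (mS β hβ).1 (mS β hβ).2, smul_eq_mul]
        push_cast; ring, ← Finset.mul_sum] at this
    exact_mod_cast this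
  have a6 : 1 ≤ ∑ β ∈ S, m β := Nat.one_le_iff_ne_zero.2 fun h => hZ (by
    rw [a1, hφ₁, Finset.sum_eq_zero fun β hβ => by simp [Finset.sum_eq_zero_iff.1 h β hβ], add_zero]
    exact a3)
  have a7 : ((∑ β ∈ S, m β : ℕ) : ℝ) ≤ ∑ β ∈ S, (m β : ℝ) ^ 2 := by
    exact_mod_cast Finset.sum_le_sum fun β _ => Nat.le_self_pow two_ne_zero _
  have split : ∀ ψ : G → ℂ, 𝐨(U) * nsq U ψ = ∑ g ∈ fs (D : Set G), ‖ψ g‖ ^ 2 +
      ∑ g ∈ fs ((C : Set G) \ D), ‖ψ g‖ ^ 2 + ∑ g ∈ fs ((U : Set G) \ C), ‖ψ g‖ ^ 2 := fun ψ => by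
    rw [nsq_def, mul_inv_cancel_left₀ (card_ne_zero_R U), sum_fs_diff hCU, sum_fs_diff hDC]
  have b1 := split φ
  have b2 := split φ₀
  rw [sum_fs_sharp, hφ.one_eq, a4, sum_fs_congr (A := (C : Set G) \ D)
    (g := fun g => ‖φ₀ g‖ ^ 2) fun g hg => by
      rw [a1, Pi.add_apply, hφ₁, Finset.sum_apply, Finset.sum_eq_zero fun β hβ => by
        rw [Pi.smul_apply, e.vanish hCU le_rfl (mS β hβ).1 (mS β hβ).2 hg.1 hg.2, smul_zero],
        add_zero], Complex.norm_natCast, a5] at b1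
  have b3 : (p : ℝ) * dg φ₀ ^ 2 ≤ ∑ g ∈ fs (D : Set G), ‖φ₀ g‖ ^ 2 := by
    refine le_trans (le_of_eq ?_) (Finset.sum_le_sum_of_subset_of_nonneg (fs_subset e.ZD)
      fun _ _ _ => by positivity)
    rw [sum_fs_congr (g := fun _ => (dg φ₀ : ℝ) ^ 2) fun z hz => by
      rw [apply_of_mem_cfKer (a3 hz), a2.one_eq, Complex.norm_natCast], sum_fs_const, e.card,
      nsmul_eq_mul]
  have b4 : 0 ≤ ∑ g ∈ fs ((U : Set G) \ C), ‖φ₀ g‖ ^ 2 := by positivity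
  have b5 : p * p ^ 2 * C.relIndex U ≤ 𝐨(U) := by
    rw [← H1.card_mul_relIndex hCU, ← H1.card_mul_relIndex hDC, e.idx, ← e.card]
    gcongr
    exact card_le_of_le e.ZD
  have b6 := e.three_le ho
  have b7 := e.num
  rw [a5]
  generalize ∑ β ∈ S, m β = M at *
  generalize C.relIndex U = n at *
  obtain ⟨r, rfl⟩ : ∃ r, p = r + 1 := ⟨p - 1, by omega⟩
  rw [Nat.add_sub_cancel]
  suffices n * r ≤ M by nlinarith
  by_contra! hlt
  have c1 : ((r + 1) * (r + 1) ^ 2 * n : ℝ) ≤ 𝐨(U) := by exact_mod_cast b5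
  have c2 : (1 : ℝ) ≤ M := by exact_mod_cast a6
  have c3 : (M + 1 : ℝ) ≤ n * r := by exact_mod_cast hlt
  have c4 : (12 : ℝ) ≤ n * r := by exact_mod_cast (by nlinarith : 12 ≤ n * r)
  have c5 : (0 : ℝ) < r := by exact_mod_cast (by omega : 0 < r)
  push_cast at b1 b3
  generalize (dg φ₀ : ℝ) = y at *
  have c6 : (r + 1) * (r + 1) ^ 2 * n * (4 * M - 3) ≤ (y + 2 * (r + 1) * M) ^ 2 - (r + 1) * y ^ 2 := by
    nlinarith
  have c7 : r * ((y + 2 * (r + 1) * M) ^ 2 - (r + 1) * y ^ 2) ≤ (r + 1) * (2 * (r + 1) * M) ^ 2 := by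
    nlinarith [sq_nonneg (2 * (r + 1) * M - r * y)]
  have c8 : (r + 1) ^ 3 * (n * r * (4 * M - 3)) ≤ (r + 1 : ℝ) ^ 3 * (4 * M ^ 2) := by nlinarith
  have c9 := le_of_mul_le_mul_left c8 (by positivity)
  nlinarith [mul_nonneg (sub_nonneg.2 c2) (sub_nonneg.2 c3)]

theorem false_of [IsSimpleGroup G] {t s x b : G} (h : Hyp ⊤ U t s) (tri : Tri x t s)
    (hB : U ⊓ 𝐂[s] ≤ 𝐂[x]) (nk : ¬ Ker3 ⊤ U s) (sC : s ∈ 𝐍(C)) (sD : s ∈ 𝐍(D)) (bC : b ∈ C)
    (bD : b ∉ D) (bs : Commute s b)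
    (cent : ∀ g ∈ U, g ≠ 1 → g ∈ D ∨ g ∉ C → 𝐂[g] ≤ 𝐂[t]) : False := by
  have hDC := e.fr.ltN.le
  have hCU := e.fr.ltK.le
  have tc : ∀ {K}, K ≤ U → t ∈ 𝐍(K) := fun hK =>
    cent_le_norm _ (mem_centralizer_iff.2 fun g hg => (h.cU (hK hg)).eq.symm)
  have HC : ⊤ ⊓ 𝐂[t] ≤ 𝐍(C) := h.H_le e.fr.normK (tc hCU) sC
  have HD : ⊤ ⊓ 𝐂[t] ≤ 𝐍(D) := h.H_le e.fr.normN (tc (hDC.trans hCU)) sD
  obtain ⟨μ, hμ, hb⟩ := exists_irrKer_notMem_cfKer ⟨hDC, hCU.trans e.fr.normN⟩ bD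
  obtain ⟨μ1, μ2⟩ := mem_irrKer.1 hμ
  have μ3 := isLin_of_der_le_cfKer μ1 (e.der.trans μ2)
  have l1 := μ3.mul (μ3.cfConj_of_norm sC)
  have l2 : D ≤ cfKer (μ * cfConj s μ) :=
    (le_inf μ2 ((le_cfKer_cfConj_iff sD).2 μ2)).trans (inf_cfKer_le_mul _ _)
  have l3 : μ * cfConj s μ ≠ cf1 C := fun e' => hb (by
    obtain ⟨w, hw, e1⟩ := exists_sqrt h.odd (hCU bC)
    obtain ⟨k, rfl⟩ := mem_powers_iff_mem_zpowers.2 hw
    have := congrFun e' b
    rw [Pi.mul_apply, cfConj_apply, mul_assoc, ← bs.eq, inv_mul_cancel_left, cf1_of_mem bC] at this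
    rw [μ3.mem_cfKer_iff, ← e1, μ3.2.2 _ (pow_mem bC k) _ (pow_mem bC k), μ3.pow_apply bC,
      ← mul_pow, this, one_pow])
  have l4 : cfConj s (μ * cfConj s μ) = μ * cfConj s μ := by
    rw [cfConj_mul, cfConj_cfConj, h.ss, cfConj_one, mul_comm]
  generalize μ * cfConj s μ = l at l1 l2 l3 l4
  have α1 := e.fr.ind_mem_Irr (mem_irrKer.2 ⟨l1.mem_Irr, l2⟩) l3
  have α2 : dg (ind U C l) = C.relIndex U := by rw [l1.isChar.dg_ind hCU, l1.dg, mul_one]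
  have α3 : Z ≤ cfKer (ind U C l) := e.ZD.trans ((le_cfKer_ind_irr_iff hCU e.fr.normN
    l1.mem_Irr).2 l2)
  obtain ⟨ψ, ψ1, ψ2⟩ := h.exists_extension α1 (by
    rw [mem_inertia, cfConj_ind_of_norm h.sU sC, l4])
  rw [← ψ2] at α1 α2 α3
  rw [dg_res] at α2
  have n3 := e.three_le h.odd
  obtain ⟨k, hk⟩ := h.odd.of_dvd_nat (relIndex_dvd_card C U)
  obtain ⟨r, hr, r1⟩ : ∃ r : ℤ, ψ s = r ∧ 1 ≤ r ^ 2 := by
    have := IsChar.one_eq (H := (⊥ : Subgroup G)) (isChar_half (mem_zpowers s) h.ss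
      (zpowers_le.2 ((mem_cent1 (x := s)).2 rfl)) bot_le
      ((irr_isChar ψ1).res (zpowers_le.2 h.sH)) (.inl rfl))
    rw [Pi.smul_apply, Pi.add_apply, res_one, res_one, one_smul, tw_apply _ _ (one_mem ⊥), one_mul,
      res_of_mem _ (mem_zpowers s), irr_one_eq ψ1, α2, hk] at this
    generalize dg (G := G) _ = m at this
    refine ⟨2 * m - (2 * k + 1), by rw [smul_eq_mul] at this; push_cast at this ⊢
                                    linear_combination 2 * this, ?_⟩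
    exact Int.add_one_le_of_lt (sq_pos_iff.2 (by omega))
  have hst : Stab ⊤ U ψ := h.stab trivial tri (fun g hg u _ => CF_conj (irr_mem_CF ψ1) hg u)
    fun b hb => by rw [mem_cent1_iff_conj.1 (mem_cent1.2 (mem_cent1.1 (hB hb)).symm)]
  have hv := irr_mem_VChar α1
  obtain ⟨χ, c1, -, -, c4, c5⟩ := h.exists_four α1 fun g hg x hx => by
    rw [res_of_mem _ hx, res_of_mem _ ((mem_normalizer_iff.1 (h.HU hg) x).1 hx),
      CF_conj (irr_mem_CF ψ1) hg]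
  have : ∀ i, ∃ δ : ℤ, (δ = 1 ∨ δ = -1) ∧ ip U (tw U t (χ i)) (res U ψ) = δ := fun i => by
    rcases c4 i with e | e
    exacts [⟨1, .inl rfl, by simpa using e⟩, ⟨-1, .inr rfl, by simpa using e⟩]
  choose δ d1 d2 using this
  have d3 : ∀ i, tw U t (χ i) = (δ i : ℂ) • res U ψ := fun i => by
    rw [h.tw_eq_sum (E := {res U ψ}) (by simpa) (fun g hg u hu e => by
      simp only [Finset.sum_singleton, res_of_mem _ hu, res_of_mem _ e, hst g hg u hu e]) (c1 i)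
      (Finset.mem_singleton_self _) (by rcases c4 i with e | e <;> simp [e]),
      Finset.sum_singleton, d2]
  have d4 : ∀ i, χ i t = δ i * dg ψ := fun i => by
    have := congrFun (d3 i) 1
    rwa [tw_apply _ _ (one_mem U), one_mul, Pi.smul_apply, res_one, irr_one_eq ψ1] at this
  have d5 : ∑ i, δ i * dg (χ i) = 0 := by
    have := h.sum_deg hv
    rw [c5] at this
    simp only [d2, irr_one_eq (c1 _)] at this
    exact_mod_cast this
  have d6 : ((⊤ ⊓ 𝐂[t] : Subgroup G).relIndex ⊤ : ℚ) * dg ψ ^ 3 *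
      ∑ i, (1 : ℚ) / (δ i * dg (χ i) : ℤ) = 8 * (𝐂[s].relIndex (⊤ ⊓ 𝐂[t]) : ℚ) ^ 2 * r ^ 2 := by
    have := h.product ψ1 hv
    simp only [← ip_res_right U _ ψ] at this
    rw [c5, hr, irr_one_eq ψ1, Finset.sum_congr rfl (g := fun i =>
      (dg ψ : ℂ) ^ 2 * (1 / (δ i * dg (χ i) : ℤ))) fun i _ => by
        rw [d2, d4, irr_one_eq (c1 i)]
        rcases d1 i with e | e <;> simp [e, div_eq_mul_inv], ← Finset.mul_sum] at this
    have h0 : (dg ψ : ℂ) ≠ 0 := by exact_mod_cast (irr_dg_pos ψ1).ne'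
    apply Rat.cast_injective (α := ℂ)
    push_cast at this ⊢
    rw [← mul_div_assoc, eq_div_iff h0] at this
    linear_combination this
  have odd : ∀ g a : G, a * t ∈ U → g * a * g⁻¹ ∉ U := fun g a h1 h2 => h.t1 (by
    have := pow_card_of_mem h2
    rwa [conj_pow, conj_eq_one_iff, h.pow_eq h1] at this)
  have mU : ∀ a ∈ sharp D ∪ (U : Set G) \ C, a ∈ U ∧ a ≠ 1 ∧ (a ∈ D ∨ a ∉ C) := by
    rintro a (ha | ha)
    exacts [⟨hCU (hDC ha.1), ha.2, .inl ha.1⟩, ⟨ha.1, fun e => ha.2 (e ▸ one_mem C), .inr ha.2⟩]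
  have ti : NormedTI ({g | g * t ∈ U} ∪ (sharp D ∪ (U : Set G) \ C)) ⊤ (⊤ ⊓ 𝐂[t]) := {
    nonempty := h.normedTI.nonempty.inl
    one_notMem := fun e => e.elim h.normedTI.one_notMem fun e => (mU 1 e).2.1 rfl
    subset := Set.union_subset h.normedTI.subset fun a ha => h.UH (mU a ha).1
    le := le_top
    norm := by
      rintro g hg a (ha | ha | ha)
      · exact .inl (h.normedTI.norm g hg a ha)
      · exact .inr (.inl ⟨(mem_normalizer_iff.1 (HD hg) a).1 ha.1, mt conj_eq_one_iff.1 ha.2⟩)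
      · exact .inr (.inr ⟨(mem_normalizer_iff.1 (h.HU hg) a).1 ha.1,
          mt (mem_normalizer_iff.1 (HC hg) a).2 ha.2⟩)
    ti := by
      rintro g hg a (ha | ha) (ha' | ha')
      · exact h.normedTI.ti g hg a ha ha'
      · exact (odd g a ha (mU _ ha').1).elim
      · exact (odd g⁻¹ _ ha' (by simpa [mul_assoc] using (mU a ha).1)).elim
      · obtain ⟨k, hk, e⟩ := h.fusion trivial tri hB hg (mU a ha).1 (mU _ ha').1
        have : k⁻¹ * g ∈ 𝐂[t] := cent a (mU a ha).1 (mU a ha).2.1 (mU a ha).2.2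
          (mem_cent1_iff_conj.2 (by
            rw [mul_assoc k⁻¹, mul_inv_rev, ← mul_assoc, mul_assoc k⁻¹, ← e]; group))
        exact ⟨trivial, by simpa using mul_mem hk.2 this⟩ }
  have deg : ∀ i, 2 * p * (C.relIndex U * (p - 1)) ≤ dg (χ i) := fun i => by
    have hc := irr_isChar (c1 i)
    have h1 := sum_le_of_normedTI ti (c1 i)
    rw [sum_fs_union (A := {g | g * t ∈ U}) (Set.disjoint_left.2 fun a h1 h2 =>
      odd 1 a h1 (by simpa using (mU a h2).1)),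
      sum_fs_union (Set.disjoint_left.2 fun a h1 h2 => h2.2 (hDC h1.1)), h.card_H,
      ← sum_fs_bij (A := U) (B := {g | g * t ∈ U}) (· * t) ⟨fun u hu => by simpa [mul_assoc, h.tt] using hu,
        fun _ _ _ _ => mul_right_cancel, fun g hg => ⟨g * t, hg, by simp [mul_assoc, h.tt]⟩⟩] at h1
    have h2 : nsq U (tw U t (χ i)) = 1 := by
      rw [d3, nsq_int_smul, nsq_irr α1]; rcases d1 i with e | e <;> simp [e]
    rw [nsq_def, inv_mul_eq_one₀ (card_ne_zero_R U),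
      sum_fs_congr (g := fun u => ‖χ i (u * t)‖ ^ 2) fun u hu => by rw [tw_apply _ _ hu]] at h2
    rw [← dg_res U]
    refine e.mass h.odd (hc.res le_top) (fun hZ => ?_) (fun β h3 h4 => ?_) ?_
    · rw [hc.le_cfKer_res_iff (e.ZD.trans (hDC.trans hCU)) le_top] at hZ
      rcases (normal_iff_top_le.2 (le_norm_cfKer hc.mem_CF)).eq_bot_or_eq_top with h3 | h3
      · have := e.card
        rw [eq_bot_iff.2 (hZ.trans h3.le), card_bot] at this
        exact e.pp.one_lt.ne this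
      · have := d4 i
        rw [(irr_eq_cf1_iff (c1 i)).2 h3.ge, cf1_top_apply, α2] at this
        have : (1 : ℤ) = δ i * C.relIndex U := by exact_mod_cast this
        rcases d1 i with e | e <;> rw [e] at this <;> omega
    · obtain ⟨m, hm⟩ := (h.isChar_half hc (.inl rfl)).ip_nat (irr_isChar h3)
      rw [ip_smul_left, ip_add_left, one_smul, d3, ip_smul_left,
        ip_irr_of_ne α1 h3 fun e => h4 (e ▸ α3)] at hm
      exact ⟨m, by linear_combination 2 * hm⟩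
    · rw [sum_fs_congr (g := fun g => ‖χ i g‖ ^ 2) fun g hg => by
        rw [res_of_mem _ (hCU (hDC hg.1))], sum_fs_congr (A := (U : Set G) \ C)
        (g := fun g => ‖χ i g‖ ^ 2) fun g hg => by rw [res_of_mem _ hg.1]]
      push_cast at h1
      linarith
  have b7 := e.num
  have h9 := h.nine_le nk
  have hk0 : 0 < 𝐂[s].relIndex (⊤ ⊓ 𝐂[t]) := Nat.pos_of_ne_zero (CH1.relIndex_ne_zero' _ _)
  rw [α2] at d6
  generalize C.relIndex U = n at *
  obtain ⟨q, rfl⟩ : ∃ r, p = r + 1 := ⟨p - 1, by omega⟩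
  rw [Nat.add_sub_cancel] at deg
  have c0 : (3 : ℚ) ≤ n := by exact_mod_cast n3
  have c2 : (2 * n : ℚ) ≤ q + 1 + 1 := by exact_mod_cast b7
  have c3 : (0 : ℚ) < 2 * (q + 1) * (n * q) := by
    have : (0 : ℚ) < q := by linarith
    positivity
  have := sum_inv_le (z := fun i => δ i * dg (χ i)) (fun i => mul_ne_zero
    (by rcases d1 i with e | e <;> simp [e]) (by exact_mod_cast (irr_dg_pos (c1 i)).ne')) d5 c3
    fun i hi => by
      rcases d1 i with e | e <;> rw [e] at hi ⊢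
      · exact_mod_cast (by simpa using deg i)
      · omega
  have c4 : (9 * (⊤ ⊓ 𝐂[t] : Subgroup G).relIndex ⊤ : ℚ) ≤
      91 * (𝐂[s].relIndex (⊤ ⊓ 𝐂[t]) : ℚ) ^ 2 := by exact_mod_cast h9
  have c5 : (0 : ℚ) < (𝐂[s].relIndex (⊤ ⊓ 𝐂[t]) : ℚ) ^ 2 := by positivity
  have c6 : (1 : ℚ) ≤ r ^ 2 := by exact_mod_cast r1
  have c7 : (0 : ℚ) ≤ (⊤ ⊓ 𝐂[t] : Subgroup G).relIndex ⊤ * n ^ 3 := by positivity
  have c8 := mul_le_mul_of_nonneg_left this c7
  rw [d6, ← mul_div_assoc, le_div_iff₀ (by positivity)] at c8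
  generalize (𝐂[s].relIndex (⊤ ⊓ 𝐂[t]) : ℚ) ^ 2 = K at *
  have c9 : K * n * (54 * ((q + 1) * q)) ≤ K * n * (91 * n ^ 2) := by
    nlinarith [mul_le_mul_of_nonneg_left c6 (mul_pos c5 c3).le,
      mul_le_mul_of_nonneg_left c4 (by positivity : (0 : ℚ) ≤ n ^ 3)]
  have := le_of_mul_le_mul_left c9 (by positivity)
  nlinarith

end Ex

end Cfsg.Agent.P5
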