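import Cfsg.Agent.P5.K3
import Cfsg.Agent.P5.Char3

/-! Centralizers of elements in the last configuration. -/

set_option autoImplicit false
set_option linter.unusedSectionVars false

namespace Cfsg.Agent.P5

open Subgroup Cfsg Cfsg.Agent Cfsg.Agent.FT
open Cfsg.Agent.H2 (pPrimeCoreOf)
open scoped commutatorElement Pointwise

universe u

variable {G : Type u} [Group G] [Finite G] {U C D Z : Subgroup G} {p : ℕ} {t s x : G}

/-- An element that is centralized by `U` or more generally generates a subgroup normalized by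
`U` and `s` has its centralizer in `C(t)`. -/
theorem Hyp.cent1_le [IsSimpleGroup G] (h : Hyp ⊤ U t s) (co : IsCoatom 𝐂[t]) {d : G}
    (hd : d ∈ U) (d1 : d ≠ 1) (hU : U ≤ 𝐍(zpowers d)) (hs : s * d * s⁻¹ = d⁻¹) :
    𝐂[d] ≤ 𝐂[t] := by
  have h1 : ⊤ ⊓ 𝐂[t] ≤ 𝐍(zpowers d) := h.H_le hU
    (Mx.cent1_le_norm_zpowers d (Mx.mem_cent1.2 (h.cU hd))) (mem_normalizer_fintype fun y hy => by
      rw [inverts_of_mem_zpowers hs hy]; exact inv_mem hy)
  rw [top_inf_eq] at h1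
  rw [← Mx.norm_eq co (mt zpowers_eq_bot.1 d1) (zpowers_le.2 (h.Ut hd)) h1]
  exact Mx.cent1_le_norm_zpowers d

theorem Ex.exists_conj (e : Ex U C D Z p) {i b : G} (hi : i ∈ U) (hiC : i ∉ C) (hb : b ∈ C) :
    ∃ c ∈ C, ∃ d ∈ D, b * i = c * (i * d) * c⁻¹ := by
  have CU := e.fr.ltK.le
  have mem : ∀ c : C, (c : G) * (i * (c : G)⁻¹ * i⁻¹) ∈ C := fun c =>
    mul_mem c.2 ((mem_normalizer_iff.1 (e.fr.normK hi) _).1 (inv_mem c.2))
  have cD : ∀ u ∈ U, ∀ d ∈ D, d * u = u * d := fun u hu d hd => mem_centralizer_iff.1 (e.cD hu) d hd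
  let F : C ⧸ D.subgroupOf C → C ⧸ D.subgroupOf C := fun q =>
    ((⟨_, mem q.out⟩ : C) : C ⧸ D.subgroupOf C)
  have hF : Function.Injective F := fun q q' h => by
    have h1 : ((q.out : G) * (i * (q.out : G)⁻¹ * i⁻¹))⁻¹ *
        ((q'.out : G) * (i * (q'.out : G)⁻¹ * i⁻¹)) ∈ D :=
      (QuotientGroup.eq (s := D.subgroupOf C)).1 h
    rw [← q.out_eq', ← q'.out_eq']
    refine QuotientGroup.eq.2 (by_contra fun hn => hiC
      (e.fr.cent _ (q.out⁻¹ * q'.out).2 hn i hi ?_))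
    have h2 := (mem_normalizer_iff.1 (e.fr.normN (inv_mem (mul_mem (mul_mem hi (CU q.out.2))
      (inv_mem hi)))) _).1 (inv_mem h1)
    convert h2 using 1
    simp only [commutatorElement_def, coe_mul, InvMemClass.coe_inv]
    group
  obtain ⟨q, hq⟩ := Finite.surjective_of_injective hF ((⟨b, hb⟩ : C) : C ⧸ D.subgroupOf C)
  have h1 : ((q.out : G) * (i * (q.out : G)⁻¹ * i⁻¹))⁻¹ * b ∈ D :=
    (QuotientGroup.eq (s := D.subgroupOf C)).1 hq
  refine ⟨q.out, q.out.2, _, h1, ?_⟩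
  have h2 := cD _ (mul_mem (inv_mem (CU q.out.2)) (inv_mem hi)) _ h1
  generalize (q.out : G) = c at h2 ⊢
  calc b * i = c * i * (c⁻¹ * i⁻¹ * ((c * (i * c⁻¹ * i⁻¹))⁻¹ * b)) * i := by group
    _ = _ := by rw [← h2]; group

theorem Ex.cent_le_of_inv [IsSimpleGroup G] (e : Ex U C D Z p) (h : Hyp ⊤ U t s)
    (tri : Tri x t s) (inv : ∀ d ∈ D, s * d * s⁻¹ = d⁻¹) (hB : U ⊓ 𝐂[s] ≤ C)
    (ha : ∀ d ∈ D, d ≠ 1 → 𝐂[d] ≤ 𝐂[t]) {g : G} (hg : g ∈ U) (hgC : g ∉ C)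
    (hs : s * g * s⁻¹ = g⁻¹) : 𝐂[g] ≤ 𝐂[t] := by
  have h8 : ¬ 8 ∣ Nat.card G := card_top (G := G) ▸ h.not_eight_dvd
  have DU : D ≤ U := e.fr.ltN.le.trans e.fr.ltK.le
  have fix : ∀ a ∈ U, s * a * s⁻¹ = a⁻¹ → Commute s a → a = 1 := fun a ha h1 h2 =>
    eq_one_of_odd h.odd ha (by rw [h2.eq, mul_inv_cancel_right] at h1; exact mul_eq_one_iff_eq_inv.2 h1)
  have g1 : g ≠ 1 := fun e => hgC (e ▸ one_mem C)
  have gs : ¬ Commute s g := fun hc => g1 (fix g hg hs hc)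
  have tg : t ∈ 𝐂[g] := Mx.mem_cent1.2 (h.cU hg)
  have CM : 𝐂[g] ≤ 𝐍(zpowers g) := Mx.cent1_le_norm_zpowers g
  have MC : 𝐍(zpowers g) ≤ 𝐍(𝐂[g]) := by
    rw [← Mx.cent_zpowers]; exact H1.le_normalizer_centralizer le_rfl
  have sM : s ∈ 𝐍(zpowers g) := mem_normalizer_fintype fun y hy => by
    rw [inverts_of_mem_zpowers hs hy]; exact inv_mem hy
  set M := 𝐍(zpowers g) with hM
  have hO : M ≤ pPrimeCoreOf 2 M ⊔ closure {t, s} :=
    (normal_compl_or_tri h8 h.v4 (CM tg) sM).resolve_right fun ⟨y, hy, tr⟩ =>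
      gs (Mx.mem_cent1.1 (tr.1 ▸ (mem_normalizer_iff.1 (MC hy) t).1 tg))
  have VM : closure {t, s} ≤ M := V4.le_iff.2 ⟨CM tg, sM⟩
  set W := pPrimeCoreOf 2 M ⊓ 𝐂[g] with hW
  have oW : Odd 𝐨(W) := Mx.odd_of_le inf_le_left (Mx.odd_O M)
  have MW : M ≤ 𝐍(W) := H1.le_normalizer_inf (H2.le_normalizer_pPrimeCoreOf 2 M) MC
  have Zg : Z ≤ 𝐂[g] := fun z hz => Mx.mem_cent1.2 (mem_centralizer_iff.1 (e.cD hg) z (e.ZD hz))
  have oZ : Odd 𝐨(Z) := Mx.odd_of_le (e.ZD.trans DU) h.odd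
  have ZW : Z ≤ W := le_inf (Mx.le_O_of_le_sup VM h.v4.isPGroup hO (Zg.trans CM) oZ) Zg
  haveI := Fact.mk e.pp
  have pZ : IsPGroup p Z := IsPGroup.of_card (n := 1) (by rw [e.card, pow_one])
  have Z1 : Z ≠ ⊥ := fun h => e.pp.ne_one (by rw [← e.card, h, card_bot])
  have CZ : 𝐂(Z) ≤ 𝐂[t] := by
    obtain ⟨z, hz, z1⟩ := (bot_or_exists_ne_one Z).resolve_left Z1
    exact fun y hy => ha z (e.ZD hz) z1 (Mx.mem_cent1.2 (mem_centralizer_iff.1 hy z hz).symm)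
  have key : ∀ r : ℕ, r.Prime → zpowers t ≤ 𝐂(pCoreOf r W) := by
    intro r hr
    set Y := pCoreOf r W with hY
    have YW : Y ≤ W := H2.pCoreOf_le r W
    have pY : IsPGroup r Y := H2.isPGroup_pCoreOf r W
    have oY : Odd 𝐨(Y) := Mx.odd_of_le YW oW
    have MY : M ≤ 𝐍(Y) := MW.trans (H2.normalizer_le_normalizer_pCoreOf r W)
    have ZY : Z ≤ 𝐍(Y) := ((Zg.trans CM).trans MY)
    rcases eq_or_ne r p with rfl | hrp
    · refine H1.pxq_lemma pZ pY ZY (zpowers_le.2 (MY (CM tg))) ?_ (Mx.coprime_zpowers h.tt oY) ?_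
      · rw [Mx.cent_zpowers]; exact (e.ZD.trans DU).trans h.Ut
      · rw [Mx.cent_zpowers]; exact inf_le_right.trans CZ
    rw [Mx.zpowers_le_cent_iff]
    have cs : 𝐨(zpowers s) = 2 := by
      rw [Nat.card_zpowers]; exact orderOf_eq_prime (by rw [sq, h.ss]) h.s1
    have sZ : zpowers s ≤ 𝐍(Z) := zpowers_le.2 (mem_normalizer_fintype fun y hy => by
      rw [inv y (e.ZD hy)]; exact inv_mem hy)
    have fr : Frob Z (zpowers s) := ⟨Z1, mt zpowers_eq_bot.1 h.s1, sZ, fun y hy y1 => by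
      have : y = s := by
        obtain ⟨k, rfl⟩ := mem_zpowers_iff.1 hy
        rcases Int.even_or_odd' k with ⟨m, rfl | rfl⟩
        · exact absurd (by rw [zpow_mul, zpow_two, h.ss, one_zpow]) y1
        · rw [zpow_add_one, zpow_mul, zpow_two, h.ss, one_zpow, one_mul]
      rw [this]
      exact eq_bot_iff.2 fun z hz => fix z (DU (e.ZD hz.1)) (inv z (e.ZD hz.1))
        (Mx.mem_cent1.1 hz.2).symm⟩
    have cYZ := Mx.coprime_of_primes hr e.pp hrp pY pZ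
    have wf := fr.wielandt_fix ZY (zpowers_le.2 (MY sM))
      ((cYZ.mul_right (Mx.coprime_zpowers h.ss oY).symm).coprime_dvd_right
        (by rw [sup_comm, mul_comm]; exact H1.card_sup_dvd sZ)) (isSolvable_of_odd oY)
    have e0 : Y ⊓ 𝐂((Z ⊔ zpowers s : Subgroup G)) = ⊥ := eq_bot_iff.2 fun y hy => by
      have y1 : y ∈ U := h.le_of_odd (W := Y ⊓ 𝐂(Z)) (le_inf le_top (inf_le_right.trans CZ))
        (Mx.odd_of_le inf_le_left oY) ⟨hy.1, centralizer_le (le_sup_left (a := Z)) hy.2⟩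
      have y2 : Commute s y := mem_centralizer_iff.1 hy.2 s (mem_sup_right (mem_zpowers s))
      have y3 : y ∈ D := by_contra fun hn => hgC (e.fr.cent y (hB ⟨y1, Mx.mem_cent1.2 y2.symm⟩) hn
        g hg (by rw [commutatorElement_eq_one_iff_commute.2 (Mx.mem_cent1.1 (YW hy.1).2).symm]
                 exact one_mem _))
      exact fix y y1 (inv y y3) y2
    rw [e0, card_bot, one_pow, one_mul, cs, Mx.cent_zpowers] at wf
    have md := H2.card_modEq_card_inf_centralizer pZ ZY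
    have le : 𝐨((Y ⊓ 𝐂[s] : Subgroup G)) ≤ C.relIndex U := by
      have xs : x⁻¹ * s * x⁻¹⁻¹ = t := by rw [← tri.1]; group
      have a1 : MulAut.conj x⁻¹ • (Y ⊓ 𝐂[s]) ≤ U := h.le_of_odd
        (le_inf le_top (by rw [← xs, ← Mx.conj_smul_cent1]; exact smul_mono_right _ inf_le_right))
        (by rw [H2.card_conj_smul]; exact Mx.odd_of_le inf_le_left oY)
      have a2 : C ⊓ MulAut.conj x⁻¹ • (Y ⊓ 𝐂[s]) = ⊥ := eq_bot_iff.2 fun y hy => by
        obtain ⟨w, hw, rfl⟩ := hy.2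
        replace hy : x⁻¹ * w * x⁻¹⁻¹ ∈ C := hy.1
        change x⁻¹ * w * x⁻¹⁻¹ = 1
        haveI := H1.normal_subgroupOf_of_le (e.fr.ltK.le.trans e.fr.normN)
        have b1 : (x⁻¹ * w * x⁻¹⁻¹) ^ p ^ 2 ∈ D := by
          rw [← e.idx]; exact (D.subgroupOf C).pow_index_mem ⟨_, hy⟩
        have b2 : x⁻¹ * w * x⁻¹⁻¹ ∈ D := H8.mem_of_pow_mem_of_coprime (by
          rw [show orderOf (x⁻¹ * w * x⁻¹⁻¹) = orderOf w from (MulAut.conj x⁻¹).orderOf_eq w]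
          exact ((e.card ▸ cYZ).coprime_dvd_left (orderOf_dvd_card_of_mem hw.1)).pow_right 2) b1
        by_contra hn
        have b3 := ha _ b2 hn (Mx.mem_cent1.2 (commute_cj x⁻¹ (Mx.mem_cent1.1 (YW hw.1).2).symm))
        have b4 := commute_cj x (Mx.mem_cent1.1 b3)
        rw [tri.1, show x * (x⁻¹ * g * x⁻¹⁻¹) * x⁻¹ = g by group] at b4
        exact gs b4.symm
      rw [← H2.card_conj_smul _ x⁻¹, ← relIndex_bot_left, ← a2, inf_relIndex_right]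
      exact relIndex_le_of_le_right a1 index_ne_zero_of_finite
    have o2 : Odd 𝐨((Y ⊓ 𝐂[s] : Subgroup G)) := Mx.odd_of_le inf_le_left oY
    have c3 : ¬ p ∣ 𝐨((Y ⊓ 𝐂(Z) : Subgroup G)) := (Nat.Prime.coprime_iff_not_dvd e.pp).1
      ((e.card ▸ cYZ).coprime_dvd_left (Subgroup.card_dvd_of_le inf_le_left)).symm
    have num := e.num
    have n1 : 𝐨((Y ⊓ 𝐂[s] : Subgroup G)) = 1 := by
      rw [wf] at md
      obtain ⟨k, hk⟩ := o2
      rw [hk] at md le ⊢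
      have d1 := (Nat.modEq_iff_dvd' (Nat.le_mul_of_pos_left _ (by positivity))).1 md.symm
      rw [← Nat.sub_one_mul, show (2 * k + 1) ^ 2 - 1 = 2 * k * (2 * k + 2) from
        Nat.sub_eq_of_eq_add (by ring), e.pp.dvd_mul, e.pp.dvd_mul] at d1
      by_contra hk0
      rcases d1 with (d | d) | d
      · have := Nat.le_of_dvd (by omega) d
        omega
      · have := Nat.le_of_dvd (by omega) d
        omega
      · exact c3 d
    rw [n1, one_pow, one_mul] at wf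
    exact (eq_of_le_of_card_ge inf_le_left wf.le).ge.trans (inf_le_right.trans CZ)
  have tW : W ≤ 𝐂[t] := Mx.zpowers_le_cent_iff.1 (coprime_cent_fitting (zpowers_le.2 (MW (CM tg)))
    (Mx.coprime_zpowers h.tt oW) (isSolvable_of_odd oW) (Mx.le_cent_fittingOf key))
  intro y hy
  obtain ⟨v, hv, o, ho, rfl⟩ := (H1.mem_sup_iff_of_le_normalizer
    (VM.trans (H2.le_normalizer_pPrimeCoreOf 2 M))).1 (sup_comm (pPrimeCoreOf 2 M) _ ▸ hO (CM hy))
  refine mul_mem ((h.v4.k4 h8).le_cent1 V4.t_mem hv) ?_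
  have a1 : (v * o)⁻¹ * t * (v * o) * t ∈ W := by
    refine mem_inf.2 ⟨?_, mul_mem (mul_mem (mul_mem (inv_mem hy) tg) hy) tg⟩
    have a2 := Mx.mem_cent1.1 ((h.v4.k4 h8).le_cent1 V4.t_mem hv)
    have := mul_mem (inv_mem ho)
      ((mem_normalizer_iff.1 (H2.le_normalizer_pPrimeCoreOf 2 M (CM tg)) o).1 ho)
    convert this using 1
    rw [inv_eq_of_sq h.tt, mul_inv_rev, mul_assoc o⁻¹ v⁻¹, a2.inv_left.eq]
    group
  have a2 := Mx.mem_cent1.1 (tW a1)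
  have a3 := eq_one_of_odd oW a1 (by
    rw [mul_assoc _ t, ← a2.eq, mul_assoc _ t t, h.tt, mul_one]
    calc _ = (v * o)⁻¹ * (t * t) * (v * o) := by group
      _ = 1 := by rw [h.tt]; group)
  refine (mul_mem_cancel_left ((h.v4.k4 h8).le_cent1 V4.t_mem hv)).1 (Mx.mem_cent1.2 ?_)
  rw [mul_eq_one_iff_eq_inv, inv_eq_of_sq h.tt, mul_assoc, inv_mul_eq_iff_eq_mul] at a3
  exact a3.symm

theorem Ex.cent_le [IsSimpleGroup G] (e : Ex U C D Z p) (h : Hyp ⊤ U t s) (tri : Tri x t s)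
    (co : IsCoatom 𝐂[t]) (inv : ∀ d ∈ D, s * d * s⁻¹ = d⁻¹) (hB : U ⊓ 𝐂[s] ≤ C) :
    ∀ g ∈ U, g ≠ 1 → g ∈ D ∨ g ∉ C → 𝐂[g] ≤ 𝐂[t] := by
  have DU : D ≤ U := e.fr.ltN.le.trans e.fr.ltK.le
  have ha : ∀ d ∈ D, d ≠ 1 → 𝐂[d] ≤ 𝐂[t] := fun d hd d1 => h.cent1_le co (DU hd) d1
    (fun u hu => Mx.cent1_le_norm_zpowers d
      (Mx.mem_cent1.2 (mem_centralizer_iff.1 (e.cD hu) d hd).symm)) (inv d hd)
  rintro g hg g1 (hD | hC)
  · exact ha g hD g1
  obtain ⟨b, hb, i, hi, bs, si, rfl⟩ := Mx.exists_cent_mul_inv h.odd h.ss h.sU hg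
  have bC : b ∈ C := hB ⟨hb, Mx.mem_cent1.2 bs⟩
  have iC : i ∉ C := fun hi => hC (mul_mem bC hi)
  obtain ⟨c, hc, d, hd, e1⟩ := e.exists_conj hi iC bC
  have := e.cent_le_of_inv h tri inv hB ha (mul_mem hi (DU hd))
    (fun hn => iC ((mul_mem_cancel_right (e.fr.ltN.le hd)).1 hn)) (by
      rw [← conj_mul, inv d hd, inv_eq_of_sq h.ss, si, ← mul_inv_rev,
        mem_centralizer_iff.1 (e.cD hi) d hd])
  rw [e1, ← Mx.conj_smul_cent1, ← mem_cent1_iff_conj.1 (h.Ut (e.fr.ltK.le hc)),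
    ← Mx.conj_smul_cent1]
  exact smul_mono_right _ this

end Cfsg.Agent.P5
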