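import Cfsg.Agent.P5.B2
import Cfsg.Agent.P5.GL2
import Cfsg.Agent.P5.Count
import Cfsg.Agent.P5.ExCent

/-! Section B, last part: `C_U(s) = 1`. -/

set_option autoImplicit false
set_option linter.unusedSectionVars false

namespace Cfsg.Agent.P5

open Subgroup Cfsg Cfsg.Agent Cfsg.Agent.FT
open Cfsg.Agent.H2 (pPrimeCoreOf layerOf)
open scoped commutatorElement

universe u

variable {G : Type u} [Group G] [Finite G] [IsSimpleGroup G]

namespace TC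

variable {U L A : Subgroup G} {t s x : G} {p : ℕ} (c : TC U L A t s x p)
include c

local notation "𝐐" => pCoreOf p U
local notation "𝐄" => omegaOne p (pCoreOf p U ⊓ 𝐍(L))
local notation "𝐚" => omegaOne p (A ⊓ pCoreOf p U)
local notation "𝐛" => omegaOne p (pCoreOf p U ⊓ 𝐂[s])
local notation "𝐖" => omegaOne p (center2 (pCoreOf p U))

theorem not_normal : ¬ U ≤ 𝐍(𝐄) := fun hE =>
  count_false c.bh.hyp c.lt c.xL c.tri ⟨le_norm_self L, le_rfl⟩ (Mx.norm_eq c.co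
    (fun e => c.lt.hyp.t1 (mem_bot.1 (e ▸ le_norm_self L c.lt.hyp.tX))) le_rfl
    (le_norm_self _)).le c.BR c.not_le (c.ti_inv hE) (c.relIndex_le hE)

theorem exists_b : ∃ b ∈ 𝐛, b ≠ 1 :=
  (bot_or_exists_ne_one _).resolve_left (ne_bot_of_card_prime (c.card_b.symm ▸ c.pp))

theorem cent_b : 𝐂(𝐛) ≤ 𝐍(L) := by
  obtain ⟨b, hb, b1⟩ := c.exists_b
  exact (cent_le_cent1 hb).trans (c.cent b (omegaOne_le p _ hb) b1)

theorem b_le {Y : Subgroup G} (h : 𝐐 ⊓ 𝐂[s] ⊓ Y ≠ ⊥) : 𝐛 ≤ Y :=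
  (inf_eq_bot_or_le_of_card_prime (c.card_b.symm ▸ c.pp) Y).resolve_left fun e =>
    inf_ne_bot_of_isCyclic c.pp c.cyc ((H2.isPGroup_pCoreOf p U).to_le inf_le_left)
      (omegaOne_le p _) inf_le_left (ne_bot_of_card_prime (c.card_b.symm ▸ c.pp)) h
      (eq_bot_iff.2 (e ▸ inf_le_inf_left _ inf_le_right))

theorem dich {Y : Subgroup G} (hY : Y ≤ 𝐐) (he : ∀ y ∈ Y, y ^ p = 1) (hU : U ≤ 𝐍(Y))
    (hs : s ∈ 𝐍(Y)) : 𝐛 ≤ Y ∨ Y ≤ 𝐚 := by
  refine or_iff_not_imp_left.2 fun h => ?_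
  have h1 := Agent.L.inverts_of_fpf c.bh.hyp.ss hs fun y hy e => mem_bot.1
    ((of_not_not (mt c.b_le h)).le ⟨⟨hY hy, mem_cent1_iff_commute.2 e⟩, hy⟩)
  have h2 := (cent_comm.1 (((omegaOne_le p _).trans (inf_le_left.trans
    (H2.pCoreOf_le p U))).trans (c.le_cent hU h1))).trans c.cent_b
  exact le_omegaOne_of_exp (le_inf (fun y hy => c.bh.mem_A c.lt (H2.pCoreOf_le p U (hY hy)) (h2 hy)
    (h1 y hy)) hY) he

theorem omega_center : omegaOne p 𝐙(𝐐) = 𝐚 := by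
  have hQ := H2.isPGroup_pCoreOf p U
  have h1 := (c.bh.H_norm p).trans ((norm_le_norm_center _).trans (norm_le_norm_omegaOne _ p))
  have h2 := elemAb_omegaOne (p := p) (isMulComm_center 𝐐)
  rcases c.dich ((omegaOne_le p _).trans inf_le_left) h2.2 (c.bh.UH.trans h1) (h1 c.bh.sH) with
    h3 | h3
  · have h4 : omegaOne p 𝐙(𝐐) ≤ 𝐄 := omegaOne_mono (inf_le_inf_left _
      ((cent_anti ((omegaOne_le p _).trans inf_le_left)).trans c.cent_b))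
    have h5 := c.elem.card_eq_of_two c.pp h4 (fun e => ne_bot_of_card_prime
      (c.card_b.symm ▸ c.pp) (eq_bot_iff.2 (e ▸ h3))) fun e => c.not_normal (e ▸ c.bh.UH.trans h1)
    rw [← H1.eq_of_le_of_card_le h3 (h5.trans c.card_b.symm).le] at h1
    obtain ⟨b, hb, b1⟩ := c.exists_b
    exact (c.not_le fun u hu => c.ti (omegaOne_le p _ hb) b1
      (omegaOne_le p _ ((mem_normalizer_iff.1 (h1 (c.bh.UH hu)) b).1 hb))).elim
  · refine (eq_bot_or_eq_of_card_prime (c.card_a.symm ▸ c.pp) h3).resolve_left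
      (omegaOne_ne_bot c.pp (prime_dvd_card_of_isPGroup c.pp (hQ.to_le inf_le_left)
        (center_ne_bot (isNilpotent_of_isPGroup c.pp hQ) fun e => c.ne (by rw [e, bot_inf_eq]))))

theorem norm_a : 𝐂[t] ≤ 𝐍(𝐚) := c.omega_center ▸
  (c.bh.H_norm p).trans ((norm_le_norm_center _).trans (norm_le_norm_omegaOne _ p))

theorem cent_a : U ≤ 𝐂(𝐚) :=
  c.le_cent (c.bh.UH.trans c.norm_a) fun _ ha => c.inv (omegaOne_le p _ ha).1

theorem W_spec : ¬ IsCyclic 𝐖 ∧ ∀ w ∈ 𝐖, w ^ p = 1 :=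
  omega_center2 c.pp c.p2 (H2.isPGroup_pCoreOf p U) fun e => c.elem.not_isCyclic c.pp le_rfl
    (isCyclic_of_le ((omegaOne_le p _).trans inf_le_left) e)

omit c in
theorem W_le : 𝐖 ≤ 𝐐 := (omegaOne_le p _).trans (center2_le _)

theorem norm_W : 𝐂[t] ≤ 𝐍(𝐖) :=
  (c.bh.H_norm p).trans ((norm_le_norm_center2 _).trans (norm_le_norm_omegaOne _ p))

theorem comm_W {w g : G} (hw : w ∈ 𝐖) (hg : g ∈ 𝐐) : ⁅w, g⁆ ∈ 𝐚 := by
  have h1 := (mem_center2.1 (omegaOne_le p _ hw)).2 g hg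
  rw [← c.omega_center]
  refine mem_omegaOne ⟨der_le _ (commutator_mem_commutator (W_le hw) hg), h1⟩ ?_
  rw [← H1.commutatorElement_pow_left_of_central (mem_cent.1 h1 w (W_le hw)), c.W_spec.2 w hw,
    commutatorElement_one_left]

theorem a_le_W : 𝐚 ≤ 𝐖 := c.omega_center ▸ omegaOne_mono (center_le_center2 _)

theorem b_le_W : 𝐛 ≤ 𝐖 :=
  (c.dich W_le c.W_spec.2 (c.bh.UH.trans c.norm_W) (c.norm_W c.bh.sH)).resolve_right fun e =>
    c.W_spec.1 (isCyclic_of_le e (isCyclic_of_card_prime (c.card_a.symm ▸ c.pp)))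

theorem dprod_E : DProd 𝐛 𝐚 𝐄 :=
  c.elem.sup_eq_of_two c.pp (omegaOne_mono c.dprod.le_left) (omegaOne_mono c.dprod.le_right)
    c.card_b c.card_a fun e => ne_bot_of_card_prime (c.card_b.symm ▸ c.pp) (eq_bot_iff.2
      (c.dprod.disj ▸ le_inf (omegaOne_le p _) (e ▸ omegaOne_le p _)))

theorem E_lt_W : 𝐄 < 𝐖 := lt_of_le_of_ne (c.dprod_E.sup ▸ sup_le c.b_le_W c.a_le_W)
  fun e => c.not_normal (e ▸ c.bh.UH.trans c.norm_W)

theorem inf_cent_le : 𝐖 ⊓ 𝐂(𝐛) ≤ 𝐄 :=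
  le_omegaOne_of_exp (inf_le_inf W_le c.cent_b) fun w hw => c.W_spec.2 w hw.1

theorem card_W : 𝐨(𝐖) = p ^ 3 := by
  obtain ⟨b, hb, b1⟩ := c.exists_b
  have h1 := relIndex_cent1_le fun w hw => c.comm_W hw (W_le (c.b_le_W hb))
  rw [c.card_a, cent1_eq_of_card_prime (c.card_b.symm ▸ c.pp) hb b1] at h1
  have h2 := H1.card_inf_mul_relIndex 𝐂(𝐛) 𝐖
  have h3 := card_le_of_le c.inf_cent_le
  obtain ⟨n, hn⟩ := exists_card_eq_pow c.pp ((H2.isPGroup_pCoreOf p U).to_le (W_le (p := p)))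
  have h4 := H1.card_lt_of_lt c.E_lt_W
  rw [c.elem.card] at h3 h4
  rw [inf_comm] at h2
  have h5 : p ^ n ≤ p ^ 3 := by rw [← hn, ← h2, pow_succ]; exact Nat.mul_le_mul h3 h1
  rw [hn, Nat.pow_lt_pow_iff_right c.pp.one_lt] at h4
  rw [hn, le_antisymm ((Nat.pow_le_pow_iff_right c.pp.one_lt).1 h5) h4]

theorem eq_W {Y : Subgroup G} (h1 : 𝐄 < Y) (h2 : Y ≤ 𝐖) : Y = 𝐖 := by
  obtain ⟨n, hn⟩ := exists_card_eq_pow c.pp
    ((H2.isPGroup_pCoreOf p U).to_le (h2.trans (W_le (p := p))))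
  have h4 := H1.card_lt_of_lt h1
  rw [c.elem.card, hn, Nat.pow_lt_pow_iff_right c.pp.one_lt] at h4
  exact H1.eq_of_le_of_card_le h2 (by rw [c.card_W, hn]; exact Nat.pow_le_pow_right c.pp.pos h4)

theorem irr (Y : Subgroup G) (h1 : 𝐚 ≤ Y) (h2 : Y ≤ 𝐖) (hU : U ≤ 𝐍(Y)) (hs : s ∈ 𝐍(Y)) :
    Y = 𝐚 ∨ Y = 𝐖 :=
  (c.dich (h2.trans W_le) (fun y hy => c.W_spec.2 y (h2 hy)) hU hs).symm.imp
    (fun e => le_antisymm e h1) fun e => c.eq_W (lt_of_le_of_ne (c.dprod_E.sup ▸ sup_le e h1)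
      fun e => c.not_normal (e ▸ hU)) h2

theorem exists_z : ∃ z ∈ 𝐖, z ∉ 𝐄 ∧ s * z * s = z⁻¹ := by
  obtain ⟨w, h1, h2⟩ := SetLike.exists_of_lt c.E_lt_W
  obtain ⟨b, hb, i, hi, e1, e2, rfl⟩ := Mx.exists_cent_mul_inv (Mx.odd_of_le
    (W_le.trans (H2.pCoreOf_le p U)) c.bh.hyp.odd) c.bh.hyp.ss (c.norm_W c.bh.sH) h1
  exact ⟨i, hi, fun e => h2 (mul_mem (mem_omegaOne (c.dprod.le_left
    ⟨W_le hb, mem_cent1_iff_commute.2 e1.symm⟩) (c.W_spec.2 b hb)) e), e2⟩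

theorem not_comm : ¬ 𝐛 ≤ 𝐂(𝐖) := fun e =>
  c.E_lt_W.not_ge ((le_inf le_rfl (cent_comm.1 e)).trans c.inf_cent_le)

theorem core_inf {r : ℕ} (hr : r.Prime) : pCoreOf r U ⊓ 𝐂[s] ⊓ 𝐂(𝐖) = ⊥ := by
  by_contra h
  by_cases e : r = p
  · exact c.not_comm (c.b_le (e ▸ h))
  obtain ⟨L', A', y, c'⟩ := c.bh.exists_TC hr c.tri c.Bx fun e => h (by rw [e, bot_inf_eq])
  obtain ⟨z, z1, z2, z3⟩ := c'.exists_z
  have h1 : ∀ a ∈ pCoreOf r U, s * a * s = a⁻¹ → a ∈ A := fun a h1 => c.bh.mem_A c.lt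
    (H2.pCoreOf_le r U h1) (c.cent_b (cent_anti ((omegaOne_le p _).trans inf_le_left)
      (Mx.pCoreOf_le_cent hr c.pp e U h1)))
  have h2 := omegaOne_le r (A' ⊓ pCoreOf r U)
  refine z2 (c'.dprod_E.le_right ?_)
  rw [eq_omegaOne_of_isCyclic hr c.lt.cyc (fun a ha => h1 a (h2 ha).2 (c'.inv (h2 ha).1)) c'.card_a]
  exact mem_omegaOne (h1 z (W_le z1) z3) (c'.W_spec.2 z z1)

theorem norm_D : 𝐂[t] ≤ 𝐍((U ⊓ 𝐂(𝐖) : Subgroup G)) :=
  H1.le_normalizer_inf c.bh.HU (H1.le_normalizer_centralizer c.norm_W)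

theorem cent_D : U ≤ 𝐂((U ⊓ 𝐂(𝐖) : Subgroup G)) := by
  have h1 : U ≤ 𝐂(fittingOf (U ⊓ 𝐂(𝐖))) := Mx.le_cent_fittingOf fun r hr => by
    have h2 := c.norm_D.trans (H2.normalizer_le_normalizer_pCoreOf r _)
    have h3 := H2.pCoreOf_le r (U ⊓ 𝐂(𝐖))
    exact c.le_cent (c.bh.UH.trans h2) (Agent.L.inverts_of_fpf c.bh.hyp.ss (h2 c.bh.sH) fun a ha e =>
      mem_bot.1 ((c.core_inf hr).le ⟨⟨le_pCoreOf ⟨h3.trans inf_le_left, c.bh.UH.trans h2⟩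
        (H2.isPGroup_pCoreOf r _) ha, mem_cent1_iff_commute.2 e⟩, (h3 ha).2⟩))
  exact h1.trans (cent_anti ((le_inf le_rfl (inf_le_left.trans h1)).trans
    (cent_fittingOf_le (isSolvable_of_odd (Mx.odd_of_le inf_le_left c.bh.hyp.odd)))))

theorem D_inf : U ⊓ 𝐂(𝐖) ⊓ 𝐂[s] = ⊥ := by
  by_contra h
  obtain ⟨X, h1, h2⟩ := exists_le_card_prime h
  have h3 := h1.trans inf_le_left
  exact ne_bot_of_card_prime h2 (eq_bot_iff.2 ((c.core_inf h2).le.trans' (le_inf (le_inf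
    (le_pCoreOf ⟨h3.trans inf_le_left, (c.cent_D.trans (cent_anti h3)).trans (cent_le_norm _)⟩
      (isPGroup_of_card_prime rfl)) (h1.trans inf_le_right)) (h3.trans inf_le_right))))

theorem false : False := by
  have h := c.bh.hyp
  have hQ := H2.pCoreOf_le p U
  have WU : 𝐖 ≤ U := W_le.trans hQ
  have der : ⁅𝐖, 𝐖⁆ ≤ 𝐚 := commutator_le.2 fun w hw g hg => c.comm_W hw (W_le hg)
  have idx : (𝐚).relIndex 𝐖 = p ^ 2 := by
    have := H1.card_mul_relIndex c.a_le_W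
    rw [c.card_a, c.card_W, pow_succ'] at this
    exact Nat.eq_of_mul_eq_mul_left c.pp.pos this
  obtain ⟨g1, g2, g3, g4⟩ := gl2_mod c.pp c.p2 c.a_le_W WU c.bh.UH c.bh.sH c.norm_a c.norm_W h.sU
    der (fun z hz => c.W_spec.2 z hz ▸ one_mem _) idx h.odd h.ss c.comm c.irr
  have nC : 𝐂[t] ≤ 𝐍((U ⊓ centMod 𝐖 𝐚 : Subgroup G)) :=
    H1.le_normalizer_inf c.bh.HU (norm_le_norm_centMod c.norm_W c.norm_a)
  have aD : 𝐚 ≤ U ⊓ 𝐂(𝐖) := le_inf (c.a_le_W.trans WU) (cent_comm.1 (WU.trans c.cent_a))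
  have WD : 𝐖 ⊓ 𝐂(𝐖) = 𝐚 := (c.irr _ (le_inf c.a_le_W (aD.trans inf_le_right)) inf_le_left
    (c.bh.UH.trans (c.norm_W.trans (norm_le_norm_center _)))
    (norm_le_norm_center _ (c.norm_W c.bh.sH))).resolve_right fun e =>
      c.not_comm (c.b_le_W.trans (e.ge.trans inf_le_right))
  have WC : 𝐖 ≤ U ⊓ centMod 𝐖 𝐚 :=
    le_inf WU (le_centMod_iff.2 ⟨WU.trans (c.bh.UH.trans c.norm_a), der⟩)
  have DC : U ⊓ 𝐂(𝐖) ≤ U ⊓ centMod 𝐖 𝐚 := le_inf inf_le_left (le_centMod_iff.2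
    ⟨inf_le_left.trans (c.bh.UH.trans c.norm_a), by
      rw [comm_eq_bot_iff.2 (cent_comm.1 inf_le_right)]; exact bot_le⟩)
  have nD := WU.trans (c.bh.UH.trans c.norm_D)
  have i1 : (U ⊓ 𝐂(𝐖)).relIndex (𝐖 ⊔ U ⊓ 𝐂(𝐖)) = p ^ 2 := by
    rw [H1.relIndex_sup_of_le_normalizer nD, ← inf_relIndex_left, ← inf_assoc, inf_of_le_left WU,
      WD, idx]
  obtain ⟨b, hb, b1⟩ := c.exists_b
  obtain ⟨z, z1, z2, z3⟩ := c.exists_z
  have i2 : (U ⊓ 𝐂(𝐖)).relIndex (U ⊓ centMod 𝐖 𝐚) ≤ p ^ 2 := by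
    have k : ∀ w ∈ 𝐖, (𝐂[w] : Subgroup G).relIndex (U ⊓ centMod 𝐖 𝐚) ≤ p := fun w hw =>
      (relIndex_cent1_le fun g hg => by
        rw [← commutatorElement_inv]; exact inv_mem ((mem_centMod.1 hg.2).2 w hw)).trans
        c.card_a.le
    refine le_trans ?_ (relIndex_inf_le.trans (pow_two p ▸ Nat.mul_le_mul (k b (c.b_le_W hb))
      (k z z1)))
    rw [← inf_relIndex_left (K := 𝐂[b] ⊓ 𝐂[z])]
    refine relIndex_le_of_le_left (le_inf (inf_le_left.trans inf_le_left) ?_)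
      (CH1.relIndex_ne_zero' _ _)
    rw [← c.eq_W (Y := 𝐄 ⊔ zpowers z) (left_lt_sup.2 (mt zpowers_le.1 z2))
      (sup_le c.E_lt_W.le (zpowers_le.2 z1)), ← c.dprod_E.sup, cent_sup, cent_sup, cent_zpowers,
      ← cent1_eq_of_card_prime (c.card_b.symm ▸ c.pp) hb b1]
    exact le_inf (le_inf (inf_le_right.trans inf_le_left) (inf_le_left.trans
      (inf_le_left.trans c.cent_a))) (inf_le_right.trans inf_le_right)
  have CW : 𝐖 ⊔ U ⊓ 𝐂(𝐖) = U ⊓ centMod 𝐖 𝐚 := H1.eq_of_le_of_card_le (sup_le WC DC) (by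
    rw [← H1.card_mul_relIndex DC, ← H1.card_mul_relIndex (le_sup_right : _ ≤ 𝐖 ⊔ _), i1]
    exact Nat.mul_le_mul_left _ i2)
  rw [CW] at i1
  have dec : ∀ g ∈ U ⊓ centMod 𝐖 𝐚, ∃ w ∈ 𝐖, ∃ d ∈ U ⊓ 𝐂(𝐖), g = w * d ∧
      ∀ u ∈ U, ⁅u, g⁆ = ⁅u, w⁆ := fun g hg => by
    rw [← CW] at hg
    obtain ⟨w, hw, d, hd, rfl⟩ := (H1.mem_sup_iff_of_le_normalizer nD).1 hg
    refine ⟨w, hw, d, hd, rfl, fun u hu => ?_⟩
    simp only [commutatorElement_def, mul_inv_rev, mul_assoc]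
    rw [← mul_assoc d, mem_cent.1 (c.cent_D (inv_mem hu)) d hd, mul_assoc, mul_inv_cancel_left]
  have num : 2 * (U ⊓ centMod 𝐖 𝐚).relIndex U ≤ p + 1 := by rwa [inf_relIndex_left]
  have inv := Agent.L.inverts_of_fpf h.ss (c.norm_D c.bh.sH) fun a ha e =>
    mem_bot.1 (c.D_inf.le ⟨ha, mem_cent1_iff_commute.2 e⟩)
  have cyc : CycMod U (U ⊓ centMod 𝐖 𝐚) := by
    obtain ⟨T, hT, sT⟩ := H1.exists_invariant_isPiHallOf (zpowers_le.2 h.sU)
      (Mx.coprime_zpowers h.ss h.odd) (isSolvable_of_odd h.odd) {p}ᶜ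
    have k0 := hall_le hT
    have k1 := (isPi_compl_singleton_iff c.pp).1 (hall_isPi hT)
    have k2 := Agent.L.inverts_of_fpf h.ss (zpowers_le.1 sT) fun y hy e => by
      have k3 : y ∈ U ⊓ centMod 𝐖 𝐚 := ⟨k0 hy, g2 ⟨k0 hy, mem_cent1_iff_commute.2 e⟩⟩
      have := H1.normal_subgroupOf_of_le ((inf_le_left (b := centMod 𝐖 𝐚)).trans
        (c.bh.UH.trans c.norm_D))
      have k4 : y ^ p ^ 2 = 1 := mem_bot.1 (c.D_inf.le ⟨by
        have := pow_index_mem ((U ⊓ 𝐂(𝐖)).subgroupOf (U ⊓ centMod 𝐖 𝐚)) ⟨y, k3⟩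
        rwa [← relIndex, i1] at this, mem_cent1_iff_commute.2 (e.pow_right _)⟩)
      exact orderOf_eq_one_iff.1 (Nat.eq_one_of_dvd_coprimes (k1.pow_right 2)
        (orderOf_dvd_card_of_mem hy) (orderOf_dvd_of_pow_eq_one k4))
    by_contra hn
    refine c.W_spec.1 (isCyclic_of_le (H1.le_of_forall_cocyclic (H := 𝐚) (isMulComm_iff_le_cent.2
      fun a ha => mem_cent.2 fun b hb => Agent.L.commute_of_inverts h.ss k2 hb ha)
      (k0.trans (c.bh.UH.trans c.norm_W)) (c.card_W ▸ k1.pow_right 3) fun B hB ⟨a, ha, e⟩ w hw => ?_)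
      (isCyclic_of_card_prime (c.card_a.symm ▸ c.pp)))
    by_contra hw'
    refine hn ⟨a, k0 ha, le_of_forall_exists_isSyl_le fun q hq _ => ?_⟩
    by_cases e' : q = p
    · obtain ⟨S, hS⟩ := exists_isSyl hq (U ⊓ centMod 𝐖 𝐚)
      refine ⟨S, hS.trans hq inf_le_left fun e => ?_, hS.le.trans le_sup_right⟩
      have := Nat.le_of_dvd (Nat.pos_of_ne_zero (CH1.relIndex_ne_zero' _ _)) e
      have := c.pp.two_le
      omega
    · obtain ⟨S, hS⟩ := exists_isSyl hq T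
      refine ⟨S, hS.trans_hall hq hT e', hS.le.trans (e.ge.trans (sup_le (le_sup_of_le_right
        fun y hy => ⟨k0 (hB hy), g1 y (k0 (hB hy)) w hw.1 hw' ?_⟩) le_sup_left))⟩
      rw [commutatorElement_eq_one_iff_mul_comm.2 (mem_cent.1 hw.2 y hy)]
      exact one_mem _
  have ex : Ex U (U ⊓ centMod 𝐖 𝐚) (U ⊓ 𝐂(𝐖)) 𝐚 p := {
    pp := c.pp
    card := c.card_a
    ZD := aD
    fr := {
      ltN := lt_of_le_of_ne DC fun e => c.not_comm (c.b_le_W.trans (WC.trans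
        (e.ge.trans inf_le_right)))
      ltK := inf_lt_left.2 g3
      normK := c.bh.UH.trans nC
      normN := c.bh.UH.trans c.norm_D
      cent := fun g hg h1 u hu h2 => by
        obtain ⟨w, hw, d, hd, rfl, e⟩ := dec g hg
        rw [e u hu] at h2
        exact ⟨hu, g1 u hu w hw (fun e => h1 (mul_mem (aD e) hd)) (WD.le ⟨comm_le_right_iff.2
          (c.bh.UH.trans c.norm_W) (commutator_mem_commutator hu hw), h2.2⟩)⟩ }
    cD := c.cent_D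
    idx := i1
    cm := fun g hg h1 => by
      obtain ⟨w, hw, d, hd, rfl, e⟩ := dec g hg
      by_contra! h2
      refine h1 (mul_mem ⟨WU hw, mem_cent.2 fun v hv => ?_⟩ hd)
      have := h2 v (WC hv)
      rw [e v (WU hv)] at this
      exact commutatorElement_eq_one_iff_mul_comm.1 (this (c.comm_W hv (W_le hw)))
    der := commutator_le.2 fun u hu g hg => by
      obtain ⟨w, hw, d, hd, rfl, e⟩ := dec g hg
      rw [e u hu.1, ← commutatorElement_inv]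
      exact aD (inv_mem ((mem_centMod.1 hu.2).2 w hw))
    cyc := cyc
    num := num }
  exact ex.false_of h c.tri c.Bx c.bh.nk (nC c.bh.sH) (c.norm_D c.bh.sH) (WC (c.b_le_W hb))
    (fun e => b1 (mem_bot.1 (c.D_inf.le ⟨e, (omegaOne_le p _ hb).2⟩)))
    (mem_cent1_iff_commute.1 (omegaOne_le p _ hb).2)
    (ex.cent_le h c.tri c.bh.co (fun d hd => by rw [inv_eq_of_sq h.ss, inv d hd])
      (le_inf inf_le_left g2))

end TC

theorem B_bot {U : Subgroup G} {t s x : G} (h8 : ¬ 8 ∣ Nat.card G) (hI : Ind.{u} (Nat.card G))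
    (h : Hyp ⊤ U t s) (tri : Tri x t s) (co : IsCoatom 𝐂[t]) : U ⊓ 𝐂[s] = ⊥ := by
  have b : BH U t s := ⟨h8, hI, h, co, x, tri⟩
  by_contra hB
  obtain ⟨y, tri', hy⟩ := b.exists_tri_cent hB
  have h1 : ⁅U, zpowers s⁆ ≤ 𝐂(fittingOf U) := Mx.le_cent_fittingOf fun p hp =>
    b.comm_le_cent (H2.le_normalizer_pCoreOf p U) (.inr (Agent.L.inverts_of_fpf h.ss (b.H_norm p b.sH)
      fun a ha hc => by
        by_contra a1
        obtain ⟨L, A, z, c⟩ := b.exists_TC hp tri' hy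
          fun e => a1 (mem_bot.1 (e.le ⟨ha, mem_cent1_iff_commute.2 hc⟩))
        exact c.false))
  have hc := Mx.coprime_zpowers h.ss h.odd
  have h2 := (le_inf h.comm_normal.1 h1).trans (cent_fittingOf_le (isSolvable_of_odd h.odd))
  have h3 := H1.centralizer_inf_commutator_eq_bot (isMulComm_iff_le_cent.2 (h1.trans (cent_anti h2)))
    H1.le_normalizer_commutator_self (hc.coprime_dvd_right (FT.card_dvd_of_le h.comm_normal.1))
  rw [H1.commutator_commutator_eq (zpowers_le.2 h.sU) hc, cent_zpowers, inf_comm] at h3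
  exact hB (h.B_eq_bot b.perf b.nk trivial tri h3)

end Cfsg.Agent.P5
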