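import Cfsg.Agent.P5.Defs

/-! Fusion of elements of odd order centralizing an involution. -/

set_option autoImplicit false

namespace Cfsg.Agent.P5

open Subgroup Cfsg Cfsg.Agent Cfsg.Agent.FT

universe u

variable {G : Type u} [Group G]

/-- `φ` is constant on the intersections of `U` with the classes of `X`. -/
def Stab {β : Type*} (X U : Subgroup G) (φ : G → β) : Prop :=
  ∀ g ∈ X, ∀ u ∈ U, g * u * g⁻¹ ∈ U → φ (g * u * g⁻¹) = φ u

theorem cj {X : Subgroup G} {g a : G} (hg : g ∈ X) (ha : a ∈ X) : g * a * g⁻¹ ∈ X :=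
  mul_mem (mul_mem hg ha) (inv_mem hg)

theorem commute_cj {a b : G} (g : G) (e : Commute a b) :
    Commute (g * a * g⁻¹) (g * b * g⁻¹) := by
  rw [Commute, SemiconjBy, conj_mul, conj_mul, e.eq]

theorem isPGroup_zpowers_of_sq {j : G} (jj : j * j = 1) : IsPGroup 2 (zpowers j) :=
  elemAb_isPGroup (elemAb_zpowers (by rw [sq, jj]))

theorem isMulComm_of_dvd_four [Finite G] {P : Subgroup G} (h : 𝐨(P) ∣ 4) : IsMulCommutative P := by
  obtain ⟨n, hn, e⟩ := (Nat.dvd_prime_pow Nat.prime_two (m := 2)).1 h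
  interval_cases n
  · exact isMulComm_of_isCyclic (isCyclic_of_card_dvd_prime (p := 2) (by simp [e]))
  · exact isMulComm_of_isCyclic (isCyclic_of_card_dvd_prime (p := 2) (by simp [e]))
  · exact ⟨⟨IsPGroup.commutative_of_card_eq_prime_sq e⟩⟩

namespace Hyp

variable {X U : Subgroup G} {t s x : G} (h : Hyp X U t s)
include h

theorem sq_mem {g : G} (hg : g ∈ X ⊓ 𝐂[t]) : g * g ∈ U := by
  have e1 : g * t * (g * t) = g * g := by
    rw [mul_assoc, ← mul_assoc t, (cH hg).eq, mul_assoc g t t, h.tt, mul_one]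
  have e2 : ∀ g : G, s * g ∈ U → g * g ∈ U := fun g e => by
    have := mul_mem (h.sus e) e
    rwa [← mul_assoc s s, h.ss, one_mul, mul_assoc, ← mul_assoc s s, h.ss, one_mul] at this
  rcases h.cover g hg with e | e | e | e
  · exact mul_mem e e
  · exact e1 ▸ mul_mem e e
  · exact e2 g e
  · exact e1 ▸ e2 _ (by rwa [← mul_assoc])

theorem mem_of_odd {g : G} (hg : g ∈ X ⊓ 𝐂[t]) {n : ℕ} (hn : Odd n) (e : g ^ n = 1) : g ∈ U := by
  obtain ⟨m, rfl⟩ := hn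
  have := pow_mem (h.sq_mem hg) (m + 1)
  rwa [← sq, ← pow_mul, mul_add, mul_one, pow_succ, e, one_mul] at this

variable [Finite G]

theorem card_dvd_four {P : Subgroup G} (hP : IsPGroup 2 P) (hX : P ≤ X) : 𝐨(P) ∣ 4 := by
  by_cases h1 : P = ⊥
  · simp [h1]
  obtain ⟨z, hz, ho⟩ := exists_mem_orderOf_eq_prime Nat.prime_two
    (prime_dvd_card_of_isPGroup Nat.prime_two (hP.to_le inf_le_left)
      (center_ne_bot (isNilpotent_of_isPGroup Nat.prime_two hP) h1))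
  obtain ⟨g, hg, rfl⟩ := h.conj z (hX hz.1) (by rintro rfl; simp at ho)
    (by rw [← sq, ← ho, pow_orderOf_eq_one])
  have h2 : P ≤ (X ⊓ 𝐂[t]) ^ᵍ g := by
    rw [conj_inf, conj_eq_of_mem hg, ← cent1_conj]
    exact le_inf hX (mem_cent_iff_cent1.1 hz.2)
  have h3 := FT.card_dvd_of_le h2
  rw [card_conj, h.card_H] at h3
  obtain ⟨n, hn⟩ := exists_card_eq_pow Nat.prime_two hP
  refine Nat.Coprime.dvd_of_dvd_mul_right ?_ h3
  rw [hn]
  exact (Nat.coprime_two_left.2 h.odd).pow_left n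

theorem exists_commute {Y : Subgroup G} (hY : Y ≤ X) {j j' : G} (hj : j ∈ Y) (hj' : j' ∈ Y)
    (jj : j * j = 1) (jj' : j' * j' = 1) : ∃ y ∈ Y, Commute j (y * j' * y⁻¹) := by
  obtain ⟨P, hP, h1⟩ := exists_isSyl_ge Nat.prime_two (isPGroup_zpowers_of_sq jj) (zpowers_le.2 hj)
  obtain ⟨y, hy, h2⟩ := hP.exists_conj_le Nat.prime_two (isPGroup_zpowers_of_sq jj')
    (zpowers_le.2 hj')
  exact ⟨y, hy, mem_cent.1 (isMulComm_iff_le_cent.1 (isMulComm_of_dvd_four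
    (h.card_dvd_four hP.pgrp (hP.1.trans hY))) (h2 (conj_mem_conj (mem_zpowers _) y))) _
    (h1 (mem_zpowers _))⟩

/-- The involutions of `C_X(t)`. -/
theorem invol_conj (tri : Tri x t s) {Y : Subgroup G} (sY : s ∈ Y) (tY : t ∈ Y) {j : G}
    (hj : j ∈ X ⊓ 𝐂[t]) (hY : j ∈ Y) (j1 : j ≠ 1) (jj : j * j = 1) :
    j = t ∨ ∃ w ∈ U ⊓ Y, ∃ y, (y = x ∨ y = x * x) ∧ w * (y * t * y⁻¹) * w⁻¹ = j := by
  have ho : Odd 𝐨((U ⊓ Y : Subgroup G)) := h.odd.of_dvd_nat (FT.card_dvd_of_le inf_le_left)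
  rcases h.invol_cases hj j1 jj with e | e | e
  · exact .inl e
  · obtain ⟨w, hw, e'⟩ := exists_conj_of_odd ho h.ss jj ⟨e, mul_mem sY hY⟩
    exact .inr ⟨w, hw, x, .inl rfl, by rw [tri.1, e']⟩
  · rw [mul_assoc, ← (cH hj).eq, ← mul_assoc] at e
    obtain ⟨w, hw, e'⟩ := exists_conj_of_odd ho h.stst jj ⟨e, mul_mem (mul_mem sY tY) hY⟩
    refine .inr ⟨w, hw, x * x, .inr rfl, ?_⟩
    rw [← e', ← h.comm.eq, ← tri.2, ← tri.1]; group

theorem sub {M : Subgroup G} (hM : M ≤ X) (tM : t ∈ M) (sM : s ∈ M) (xM : x ∈ M)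
    (tri : Tri x t s) : Hyp M (U ⊓ M) t s where
  tX := tM
  sX := sM
  t1 := h.t1
  s1 := h.s1
  ts := h.ts
  tt := h.tt
  ss := h.ss
  comm := h.comm
  UX := inf_le_right
  Ut := inf_le_left.trans h.Ut
  odd := h.odd.of_dvd_nat (FT.card_dvd_of_le inf_le_left)
  sU := inf_normalizer_le_normalizer_inf ⟨h.sU, le_norm_self M sM⟩
  cover g hg := by
    rcases h.cover g ⟨hM hg.1, hg.2⟩ with e | e | e | e
    · exact .inl ⟨e, hg.1⟩
    · exact .inr (.inl ⟨e, mul_mem hg.1 tM⟩)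
    · exact .inr (.inr (.inl ⟨e, mul_mem sM hg.1⟩))
    · exact .inr (.inr (.inr ⟨e, mul_mem (mul_mem sM hg.1) tM⟩))
  conj j hj j1 jj := by
    obtain ⟨y, hy, e⟩ := h.exists_commute hM tM hj h.tt jj
    have h1 := cj hy hj
    rcases h.invol_conj tri sM tM ⟨hM h1, mem_cent1_iff_commute.2 e⟩ h1 (by simpa using j1)
      (by rw [conj_mul, jj]; simp) with e' | ⟨w, hw, z, hz, e'⟩
    · exact ⟨y⁻¹, inv_mem hy, by rw [← e']; group⟩
    · refine ⟨y⁻¹ * w * z, mul_mem (mul_mem (inv_mem hy) hw.2) ?_, ?_⟩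
      · rcases hz with rfl | rfl
        exacts [xM, mul_mem xM xM]
      · rw [show j = y⁻¹ * (y * j * y⁻¹) * y by group, ← e']; group

theorem mem_norm_B (xX : x ∈ X) (tri : Tri x t s) : x ∈ 𝐍((U ⊓ 𝐂[s] : Subgroup G)) := by
  refine inv_mem_iff.1 (mem_norm_of_conj_le fun g hg => ?_)
  obtain ⟨b, hb, rfl⟩ := mem_conj'.1 hg
  have c : ∀ y, Commute (x * y * x⁻¹) b → x⁻¹ * b * x⁻¹⁻¹ ∈ 𝐂[y] := fun y e => by
    rw [← conj_mem_conj_iff (g := x), ← cent1_conj, mem_cent1_iff_commute]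
    convert e using 1; group
  have cs := mem_cent1_iff_commute.1 hb.2
  refine ⟨h.mem_of_odd ⟨cj (X.inv_mem xX) (h.UX hb.1), c t (tri.1 ▸ cs)⟩
    h.odd (by rw [conj_pow, pow_card_of_mem hb.1]; simp), c s (tri.2 ▸ (h.cU hb.1).mul_left cs)⟩

theorem stab {β : Type*} (xX : x ∈ X) (tri : Tri x t s) {φ : G → β}
    (h1 : ∀ g ∈ X ⊓ 𝐂[t], ∀ u ∈ U, φ (g * u * g⁻¹) = φ u)
    (h2 : ∀ b ∈ U ⊓ 𝐂[s], φ (x * b * x⁻¹) = φ b) : Stab X U φ := by
  intro g hg u hu hu'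
  obtain ⟨y, hy, e⟩ := h.exists_commute (Y := X ⊓ 𝐂[g * u * g⁻¹]) inf_le_left
    ⟨h.tX, mem_cent1_iff_commute.2 (h.cU hu').symm⟩
    ⟨cj hg h.tX, mem_cent1_iff_commute.2 (commute_cj g (h.cU hu).symm)⟩
    h.tt (by rw [conj_mul, h.tt]; simp)
  have e1 : y * g * u * (y * g)⁻¹ = g * u * g⁻¹ := by
    rw [← mem_cent1_iff_conj.1 hy.2]; group
  have e2 : y * (g * t * g⁻¹) * y⁻¹ = y * g * t * (y * g)⁻¹ := by group
  have hz : y * g ∈ X := X.mul_mem hy.1 hg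
  rw [e2] at e
  rw [← e1] at hu' ⊢
  generalize y * g = z at *
  rcases h.invol_conj tri (mem_top s) (mem_top t) ⟨cj hz h.tX,
    mem_cent1_iff_commute.2 e⟩ (mem_top _) (by simpa using h.t1) (by rw [conj_mul, h.tt]; simp)
    with e' | ⟨w, hw, v, hv, e'⟩
  · exact h1 z ⟨hz, mem_cent1_iff_conj.2 e'⟩ u hu
  have vX : v ∈ X := by
    rcases hv with rfl | rfl
    exacts [xX, mul_mem xX xX]
  have hk : v⁻¹ * w⁻¹ * z ∈ X ⊓ 𝐂[t] := ⟨X.mul_mem (X.mul_mem (X.inv_mem vX) (X.inv_mem (h.UX hw.1))) hz,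
    mem_cent1_iff_conj.2 (by
      rw [show v⁻¹ * w⁻¹ * z * t * (v⁻¹ * w⁻¹ * z)⁻¹ = v⁻¹ * w⁻¹ * (z * t * z⁻¹) * w * v by group,
        ← e']
      group)⟩
  obtain ⟨k, rfl⟩ : ∃ k, z = w * v * k := ⟨v⁻¹ * w⁻¹ * z, by group⟩
  rw [show v⁻¹ * w⁻¹ * (w * v * k) = k by group] at hk
  have hb := (mem_normalizer_iff.1 (h.HU hk) u).1 hu
  have e3 : w * v * k * u * (w * v * k)⁻¹ = w * (v * (k * u * k⁻¹) * v⁻¹) * w⁻¹ := by group
  rw [e3] at hu' ⊢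
  rw [← h1 k hk u hu]
  generalize k * u * k⁻¹ = b at *
  have hb' := (mem_normalizer_iff.1 (le_norm_self U hw.1) _).2 hu'
  rw [h1 w (h.UH hw.1) _ hb']
  have c1 : Commute (v * t * v⁻¹) (v * b * v⁻¹) := commute_cj v (h.cU hb)
  have hN := mem_normalizer_iff.1 (h.mem_norm_B xX tri)
  rcases hv with rfl | rfl
  · exact h2 b ((hN b).2 ⟨hb', mem_cent1_iff_commute.2 (tri.1 ▸ c1)⟩)
  · have e4 : ∀ b, x * x * b * (x * x)⁻¹ = x * (x * b * x⁻¹) * x⁻¹ := fun b => by group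
    rw [e4] at hb' ⊢
    rw [e4, e4, tri.1, tri.2] at c1
    have c2 := ((h.cU hb').mul_left c1)
    rw [← mul_assoc, h.tt, one_mul] at c2
    have hb1 := (hN _).2 ⟨hb', mem_cent1_iff_commute.2 c2⟩
    rw [h2 _ hb1, h2 _ ((hN _).2 hb1)]

/-- `C_X(t)` controls fusion in `U` when `x` centralizes `C_U(s)`. -/
theorem fusion (xX : x ∈ X) (tri : Tri x t s) (hB : U ⊓ 𝐂[s] ≤ 𝐂[x]) {g u : G} (hg : g ∈ X)
    (hu : u ∈ U) (hu' : g * u * g⁻¹ ∈ U) : ∃ k ∈ X ⊓ 𝐂[t], k * u * k⁻¹ = g * u * g⁻¹ := by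
  have := h.stab xX tri (φ := fun v => ∃ k ∈ X ⊓ 𝐂[t], k * u * k⁻¹ = v) (fun a ha v _ => propext
    ⟨fun ⟨k, hk, e⟩ => ⟨a⁻¹ * k, mul_mem (inv_mem ha) hk, by
      rw [show v = a⁻¹ * (a * v * a⁻¹) * a by group, ← e]; group⟩,
    fun ⟨k, hk, e⟩ => ⟨a * k, mul_mem ha hk, by rw [← e]; group⟩⟩)
    (fun b hb => by rw [mem_cent1_iff_conj.1 (mem_cent1_comm.1 (hB hb))]) g hg u hu hu'
  exact this.mpr ⟨1, one_mem _, by simp⟩

end Hyp

end Cfsg.Agent.P5
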