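import Mathlib

/-! Numerical lemmas for blocks with four characters. -/

set_option autoImplicit false

namespace Cfsg.Agent.P5

theorem inv_step {a m r : ℚ} (hm : 0 < m) (ha : m ≤ a) (hr : 0 ≤ r) :
    1 / a - 1 / (a + r) ≤ 1 / m - 1 / (m + r) := by
  have h1 : 0 < a := hm.trans_le ha
  rw [div_sub_div _ _ h1.ne' (by positivity), div_sub_div _ _ hm.ne' (by positivity),
    show 1 * (a + r) - a * 1 = r by ring, show 1 * (m + r) - m * 1 = r by ring]
  exact div_le_div_of_nonneg_left hr (by positivity) (by gcongr)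

theorem inv_neg' {a b : ℚ} (h : a + b = 0) : 1 / b = -(1 / a) := by
  rw [eq_neg_of_add_eq_zero_right h, div_neg]

theorem sum_inv_le {z : Fin 4 → ℤ} (h0 : ∀ i, z i ≠ 0) (hs : ∑ i, z i = 0) {m : ℚ} (hm : 0 < m)
    (hz : ∀ i, 0 < z i → m ≤ z i) : ∑ i, (1 : ℚ) / z i ≤ 8 / (3 * m) := by
  have H : ∀ a b c d : ℚ, m ≤ a → m ≤ b → m ≤ c → a + b + c + d = 0 →
      1 / a + 1 / b + 1 / c + 1 / d ≤ 8 / (3 * m) := fun a b c d ha hb hc e => by
    have h1 := inv_step hm ha (r := b + c) (by linarith)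
    have h2 := inv_step hm hb (r := m + c) (by linarith)
    have h3 := inv_step hm hc (r := m + m) (by linarith)
    have h4 : 8 / (3 * m) = 3 * (1 / m) - 1 / (m + (m + m)) := by field_simp; ring
    rw [inv_neg' e, add_assoc a]
    rw [add_left_comm b] at h2
    rw [add_comm c, add_assoc] at h3
    linarith
  have hP : ∀ i, ((m ≤ z i ∧ (1 : ℚ) / z i ≤ 1 / m) ∨ ((z i : ℚ) < 0 ∧ (1 : ℚ) / z i < 0)) :=
    fun i => by
      rcases lt_or_gt_of_ne (h0 i) with h | h
      · have : (z i : ℚ) < 0 := by exact_mod_cast h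
        exact .inr ⟨this, div_neg_of_pos_of_neg one_pos this⟩
      · exact .inl ⟨hz i h, one_div_le_one_div_of_le hm (hz i h)⟩
  have hs' : (z 0 : ℚ) + z 1 + z 2 + z 3 = 0 := by
    rw [Fin.sum_univ_four] at hs; exact_mod_cast hs
  have h5 : 8 / (3 * m) = 8 / 3 * (1 / m) := by field_simp
  have h6 : 0 < 1 / m := by positivity
  rw [Fin.sum_univ_four]
  rcases hP 0 with ⟨a0, b0⟩ | ⟨a0, b0⟩ <;> rcases hP 1 with ⟨a1, b1⟩ | ⟨a1, b1⟩ <;>
    rcases hP 2 with ⟨a2, b2⟩ | ⟨a2, b2⟩ <;> rcases hP 3 with ⟨a3, b3⟩ | ⟨a3, b3⟩ <;>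
    first
      | linarith
      | linarith [H _ _ _ (z 3) a0 a1 a2 (by linarith)]
      | linarith [H _ _ _ (z 2) a0 a1 a3 (by linarith)]
      | linarith [H _ _ _ (z 1) a0 a2 a3 (by linarith)]
      | linarith [H _ _ _ (z 0) a1 a2 a3 (by linarith)]

theorem exists_le_neg {z : Fin 4 → ℤ} (h4 : ∀ i, z i % 4 = 1) (h1 : ∀ i, z i ≠ 1)
    (hs : ∑ i, z i = 0) (h : (2 : ℚ) / 5 < ∑ i, (1 : ℚ) / z i) : ∃ i, z i ≤ -15 := by
  have hP : ∀ i, ((5 ≤ z i ∧ (1 : ℚ) / z i ≤ 1 / 5) ∨ (z i < 0 ∧ (1 : ℚ) / z i < 0)) := fun i => by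
    have := h4 i
    have := h1 i
    rcases lt_or_ge (z i) 0 with h | h
    · exact .inr ⟨h, div_neg_of_pos_of_neg one_pos (by exact_mod_cast h)⟩
    · have h5 : 5 ≤ z i := by omega
      exact .inl ⟨h5, one_div_le_one_div_of_le (by norm_num) (by exact_mod_cast h5)⟩
  rw [Fin.sum_univ_four] at h hs
  by_contra hc
  push Not at hc
  have c0 := hc 0
  have c1 := hc 1
  have c2 := hc 2
  have c3 := hc 3
  rcases hP 0 with ⟨a0, b0⟩ | ⟨a0, b0⟩ <;> rcases hP 1 with ⟨a1, b1⟩ | ⟨a1, b1⟩ <;>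
    rcases hP 2 with ⟨a2, b2⟩ | ⟨a2, b2⟩ <;> rcases hP 3 with ⟨a3, b3⟩ | ⟨a3, b3⟩ <;>
    first
      | omega
      | linarith

theorem le_sum_inv {a b c m : ℤ} (hm : 1 ≤ m) (ha : 0 < a ∨ a ≤ -m) (hb : 0 < b ∨ b ≤ -m)
    (hc : 0 < c ∨ c ≤ -m) (hs : a + b + c = -1) :
    (1 : ℚ) / (m + (m - 1)) - 2 * (1 / m) ≤ 1 / a + 1 / b + 1 / c := by
  have hm' : (1 : ℚ) ≤ m := by exact_mod_cast hm
  have H1 : ∀ a b c : ℤ, 0 < a → 0 < b → a + b + c = -1 →
      (1 : ℚ) / (m + (m - 1)) - 2 * (1 / m) ≤ 1 / a + 1 / b + 1 / c := fun a b c ha hb e => by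
    have ha' : (0 : ℚ) < a := by exact_mod_cast ha
    have hb' : (0 : ℚ) < b := by exact_mod_cast hb
    have e' : (a + (b + 1) : ℚ) + c = 0 := by exact_mod_cast (by omega : a + (b + 1) + c = 0)
    have h1 : (1 : ℚ) / (a + (b + 1)) ≤ 1 / a := one_div_le_one_div_of_le ha' (by linarith)
    have h2 : (1 : ℚ) / (m + (m - 1)) ≤ 1 / m := one_div_le_one_div_of_le (by linarith) (by linarith)
    have h3 : (0 : ℚ) < 1 / m := by positivity
    have h4 : (0 : ℚ) < 1 / b := by positivity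
    rw [inv_neg' e']; linarith
  have H2 : ∀ a b c : ℤ, a ≤ -m → b ≤ -m → a + b + c = -1 →
      (1 : ℚ) / (m + (m - 1)) - 2 * (1 / m) ≤ 1 / a + 1 / b + 1 / c := fun a b c ha hb e => by
    have ha' : (m : ℚ) ≤ -a := by exact_mod_cast (by omega : m ≤ -a)
    have hb' : (m : ℚ) ≤ -b := by exact_mod_cast (by omega : m ≤ -b)
    have e' : (c : ℚ) = -a + (-b - 1) := by exact_mod_cast (by omega : c = -a + (-b - 1))
    have h1 := inv_step (by linarith) ha' (r := -b - 1) (by linarith)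
    have h2 := inv_step (by linarith) hb' (r := m - 1) (by linarith)
    rw [show (m : ℚ) + (-b - 1) = -b + (m - 1) by ring, div_neg] at h1
    rw [div_neg] at h2
    rw [e']; linarith
  rcases ha with ha | ha <;> rcases hb with hb | hb <;> rcases hc with hc | hc <;>
    first
      | omega
      | linarith [H1 a b c ha hb (by omega)]
      | linarith [H1 a c b ha hc (by omega)]
      | linarith [H1 b c a hb hc (by omega)]
      | linarith [H2 a b c ha hb (by omega)]
      | linarith [H2 a c b ha hc (by omega)]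
      | linarith [H2 b c a hb hc (by omega)]

theorem no_three_seven {a b c : ℤ} (ha : 5 ≤ a ∨ a ≤ -3) (hb : 5 ≤ b ∨ b ≤ -3)
    (hc : 5 ≤ c ∨ c ≤ -3) (ha4 : a % 4 = 1) (hb4 : b % 4 = 1) (hc4 : c % 4 = 1)
    (hs : a + b + c = -1) {r : ℚ} (hr : r = 1 / 7 ∨ r = 5 / 3)
    (h : (1 : ℚ) / a + 1 / b + 1 / c = r) : False := by
  have H0 : ∀ a b c : ℤ, 5 ≤ a → a ≤ b → a % 4 = 1 → a + b + c = -1 →
      (1 : ℚ) / a + 1 / b + 1 / c ≠ r := fun a b c ha hb h4 e h => by
    have ha' : (5 : ℚ) ≤ a := by exact_mod_cast ha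
    have hb' : (a : ℚ) ≤ b := by exact_mod_cast hb
    have e' : (b + (a + 1) : ℚ) + c = 0 := by exact_mod_cast (by omega : b + (a + 1) + c = 0)
    have h1 : (1 : ℚ) / (b + (a + 1)) < 1 / b := one_div_lt_one_div_of_lt (by linarith) (by linarith)
    have h2 : (0 : ℚ) < 1 / (b + (a + 1)) := div_pos one_pos (by linarith)
    have h3 : (1 : ℚ) / b ≤ 1 / a := one_div_le_one_div_of_le (by linarith) hb'
    have h5 : (1 : ℚ) / a ≤ 1 / 5 := one_div_le_one_div_of_le (by linarith) ha'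
    rw [inv_neg' e'] at h
    rcases hr with rfl | rfl
    swap
    · linarith
    have h6 : a < 14 := by
      by_contra h6
      have : (1 : ℚ) / a ≤ 1 / 14 :=
        one_div_le_one_div_of_le (by norm_num) (by exact_mod_cast not_lt.1 h6)
      linarith
    have h7 : (b : ℚ) ≠ 0 := by linarith
    have h8 : (b + (a + 1) : ℚ) ≠ 0 := by linarith
    have h9 : (a : ℚ) ≠ 0 := by linarith
    field_simp at h
    have h10 : (b + a) * (b + (a + 1)) * 7 - a * b * 7 = a * b * (b + (a + 1)) := by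
      have : ((b + a) * (b + (a + 1)) * 7 - a * b * 7 : ℚ) = a * b * (b + (a + 1)) := by
        linear_combination h
      exact_mod_cast this
    obtain rfl | rfl | rfl : a = 5 ∨ a = 9 ∨ a = 13 := by omega
    · nlinarith
    · rcases le_or_gt b 13 with h' | h' <;> nlinarith
    · ring_nf at h10; omega
  have H1 : ∀ a b c : ℤ, 5 ≤ a → 5 ≤ b → a % 4 = 1 → b % 4 = 1 → a + b + c = -1 →
      (1 : ℚ) / a + 1 / b + 1 / c ≠ r := fun a b c ha hb h4 h4' e => by
    rcases le_total a b with h | h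
    · exact H0 a b c ha h h4 e
    · rw [add_comm (1 / (a : ℚ))]; exact H0 b a c hb h h4' (by omega)
  have H2 : ∀ a b c : ℤ, a ≤ -3 → b ≤ -3 → a + b + c = -1 →
      (1 : ℚ) / a + 1 / b + 1 / c ≠ r := fun a b c ha hb e h => by
    have ha' : (3 : ℚ) ≤ -a := by exact_mod_cast (by omega : 3 ≤ -a)
    have hb' : (b : ℚ) < 0 := by exact_mod_cast (by omega : b < 0)
    have h1 : (1 : ℚ) / c ≤ 1 / -a :=
      one_div_le_one_div_of_le (by linarith) (by exact_mod_cast (by omega : -a ≤ c))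
    have h2 : (1 : ℚ) / b < 0 := div_neg_of_pos_of_neg one_pos hb'
    rw [div_neg] at h1
    rcases hr with rfl | rfl <;> linarith
  rcases ha with ha | ha <;> rcases hb with hb | hb <;> rcases hc with hc | hc <;>
    first
      | omega
      | exact H1 a b c ha hb ha4 hb4 (by omega) h
      | exact H1 a c b ha hc ha4 hc4 (by omega) (by linarith)
      | exact H1 b c a hb hc hb4 hc4 (by omega) (by linarith)
      | exact H2 a b c ha hb (by omega) h
      | exact H2 a c b ha hc (by omega) (by linarith)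
      | exact H2 b c a hb hc (by omega) (by linarith)

theorem exists_three (l : Fin 4) : ∃ i j k, i ≠ l ∧ j ≠ l ∧ k ≠ l ∧
    ∀ F : Fin 4 → ℚ, ∑ i, F i = F l + (F i + F j + F k) := by
  fin_cases l
  · exact ⟨1, 2, 3, by decide, by decide, by decide, fun F => by simp [Fin.sum_univ_four]; ring⟩
  · exact ⟨0, 2, 3, by decide, by decide, by decide, fun F => by simp [Fin.sum_univ_four]; ring⟩
  · exact ⟨0, 1, 3, by decide, by decide, by decide, fun F => by simp [Fin.sum_univ_four]; ring⟩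
  · exact ⟨0, 1, 2, by decide, by decide, by decide, fun F => by simp [Fin.sum_univ_four]; ring⟩

/-- Three orthogonal sign vectors of length four are columns of a Hadamard matrix. -/
theorem hadamard {a b c D : Fin 4 → ℤ} (ha : ∀ i, a i * a i = 1) (hb : ∀ i, b i * b i = 1)
    (hc : ∀ i, c i * c i = 1) (hab : ∑ i, a i * b i = 0) (hac : ∑ i, a i * c i = 0)
    (hbc : ∑ i, b i * c i = 0) (haD : ∑ i, a i * D i = 0) (hbD : ∑ i, b i * D i = 0)
    (hcD : ∑ i, c i * D i = 0) (i : Fin 4) :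
    4 * D i = a i * b i * c i * ∑ j, a j * b j * c j * D j := by
  let M : Matrix (Fin 4) (Fin 4) ℚ := Matrix.of fun i => ![a i, b i, c i, a i * b i * c i]
  have s : ∀ {f g : Fin 4 → ℤ} {n : ℤ}, (∀ i, f i = g i) → ∑ i, g i = n →
      ∑ i, ((f i : ℤ) : ℚ) = n := fun h1 h2 => by
    rw [← h2, Int.cast_sum]; exact Finset.sum_congr rfl fun i _ => by rw [h1]
  have o : ∑ _i : Fin 4, (1 : ℤ) = 4 := by simp
  have h1 : ((4 : ℚ)⁻¹ • M.transpose) * M = 1 := by
    rw [Matrix.smul_mul, inv_smul_eq_iff₀ (by norm_num)]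
    ext k l
    have e1 := s ha o
    have e2 := s hb o
    have e3 := s hc o
    have e4 := s (f := fun i => a i * b i * c i * (a i * b i * c i))
      (fun i => by linear_combination (b i * b i * (c i * c i)) * ha i + c i * c i * hb i + hc i) o
    have e5 := s (fun _ => rfl) hab
    have e6 := s (fun _ => rfl) hac
    have e7 := s (fun _ => rfl) hbc
    have e8 := s (f := fun i => a i * (a i * b i * c i))
      (fun i => by linear_combination (b i * c i) * ha i) hbc
    have e9 := s (f := fun i => b i * (a i * b i * c i))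
      (fun i => by linear_combination (a i * c i) * hb i) hac
    have e10 := s (f := fun i => c i * (a i * b i * c i))
      (fun i => by linear_combination (a i * b i) * hc i) hab
    simp only [Fin.sum_univ_four] at e1 e2 e3 e4 e5 e6 e7 e8 e9 e10
    push_cast at e1 e2 e3 e4 e5 e6 e7 e8 e9 e10
    rw [Matrix.mul_apply, Fin.sum_univ_four]
    fin_cases k <;> fin_cases l <;> simp [M] <;> linarith
  have h2 := mul_eq_one_comm.1 h1
  rw [Matrix.mul_smul, inv_smul_eq_iff₀ (by norm_num)] at h2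
  have h3 : ∀ j, a i * a j + b i * b j + c i * c j + a i * b i * c i * (a j * b j * c j) =
      if i = j then 4 else 0 := fun j => by
    have := congrFun (congrFun h2 i) j
    rw [Matrix.mul_apply, Fin.sum_univ_four] at this
    simp [M, Matrix.one_apply] at this
    split_ifs at this ⊢ <;> exact_mod_cast this
  have h4 : ∑ j, (if i = j then 4 else 0) * D j = 4 * D i := by simp
  rw [← h4]
  simp only [← h3, Fin.sum_univ_four] at haD hbD hcD ⊢
  linear_combination a i * haD + b i * hbD + c i * hcD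

end Cfsg.Agent.P5
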