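import Cfsg.Agent.P5.Char1
import Cfsg.Agent.P5.Fus
import Cfsg.Agent.P5.Num

/-! Blocks with four characters. -/

set_option autoImplicit false

namespace Cfsg.Agent.P5

open Subgroup Cfsg Cfsg.Agent Cfsg.Agent.FT
open scoped ComplexConjugate

universe u

variable {G : Type u} [Group G]

theorem exists_ext {X U : Subgroup G} (hUX : U ≤ X) {φ : G → ℂ} (hφ : Stab X U φ) :
    ∃ f ∈ CF X, (∀ u ∈ U, f u = φ u) ∧
      ∀ g, f g = 0 ∨ ∃ x ∈ X, x * g * x⁻¹ ∈ U ∧ f g = φ (x * g * x⁻¹) := by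
  classical
  let f : G → ℂ := fun g =>
    if h : ∃ x ∈ X, x * g * x⁻¹ ∈ U then φ (h.choose * g * h.choose⁻¹) else 0
  have key : ∀ g, ∀ x ∈ X, x * g * x⁻¹ ∈ U → f g = φ (x * g * x⁻¹) := fun g x hx e => by
    have h : ∃ x ∈ X, x * g * x⁻¹ ∈ U := ⟨x, hx, e⟩
    have e1 : h.choose * g * h.choose⁻¹ = h.choose * x⁻¹ * (x * g * x⁻¹) * (h.choose * x⁻¹)⁻¹ := by
      group
    rw [show f g = _ from dif_pos h, e1,
      hφ _ (mul_mem h.choose_spec.1 (inv_mem hx)) _ e (e1 ▸ h.choose_spec.2)]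
  refine ⟨f, mem_CF.2 ⟨fun g hg => dif_neg fun ⟨x, hx, e⟩ =>
    hg ((mem_normalizer_iff.1 (le_norm_self X hx) g).2 (hUX e)), fun a ha g => ?_⟩,
    fun u hu => by simpa using key u 1 (one_mem X) (by simpa), fun g => ?_⟩
  · by_cases h : ∃ x ∈ X, x * g * x⁻¹ ∈ U
    · obtain ⟨x, hx, e⟩ := h
      have e1 : x * a⁻¹ * (a * g * a⁻¹) * (x * a⁻¹)⁻¹ = x * g * x⁻¹ := by group
      rw [key g x hx e, key _ _ (mul_mem hx (inv_mem ha)) (e1 ▸ e), e1]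
    · rw [show f g = 0 from dif_neg h]
      exact dif_neg fun ⟨x, hx, e⟩ => h ⟨x * a, mul_mem hx ha, by convert e using 1; group⟩
  · by_cases h : ∃ x ∈ X, x * g * x⁻¹ ∈ U
    · obtain ⟨x, hx, e⟩ := h
      exact .inr ⟨x, hx, e, key g x hx e⟩
    · exact .inl (dif_neg h)

theorem exists_fin_four {α : Type*} {S : Finset α} (h : S.card = 4) :
    ∃ χ : Fin 4 → α, (∀ i, χ i ∈ S) ∧ (∀ a ∈ S, ∃ i, χ i = a) ∧ Function.Injective χ ∧
      ∀ F : α → ℂ, ∑ a ∈ S, F a = ∑ i, F (χ i) := by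
  let e := (S.equivFinOfCardEq h).symm
  exact ⟨fun i => e i, fun i => (e i).2, fun a ha => ⟨e.symm ⟨a, ha⟩, by simp⟩,
    fun i j hij => e.injective (Subtype.ext hij), fun F => by
      rw [← Finset.sum_coe_sort, ← e.sum_comp]⟩

variable [Finite G]

theorem isChar_quarter {X B : Subgroup G} {t s : G} (hV : V4 t s) (tX : t ∈ X) (sX : s ∈ X)
    (hB : B ≤ X ⊓ 𝐂[t] ⊓ 𝐂[s]) {φ : G → ℂ} (hφ : IsChar X φ) {ε ε' : ℂ} (hε : ε = 1 ∨ ε = -1)
    (hε' : ε' = 1 ∨ ε' = -1) : IsChar B ((4 : ℂ)⁻¹ • res B fun b =>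
      φ b + ε * φ (b * t) + ε' * φ (b * s) + ε * ε' * φ (b * s * t)) := by
  have tH : t ∈ X ⊓ 𝐂[t] ⊓ 𝐂[s] := ⟨⟨tX, self_mem_cent1 t⟩, mem_cent1_iff_commute.2 hV.comm.symm⟩
  have sH : s ∈ X ⊓ 𝐂[t] ⊓ 𝐂[s] := ⟨⟨sX, mem_cent1_iff_commute.2 hV.comm⟩, self_mem_cent1 s⟩
  have h1 := isChar_half tH hV.tt (inf_le_left.trans inf_le_right) le_rfl
    (hφ.res (inf_le_left.trans inf_le_left)) hε
  convert isChar_half sH hV.ss inf_le_right hB h1 hε' using 1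
  funext b
  by_cases hb : b ∈ B
  · have h2 := hB hb
    have h3 := mul_mem h2 sH
    simp only [Pi.smul_apply, Pi.add_apply, smul_eq_mul, res_of_mem _ hb, tw_apply _ _ hb,
      res_of_mem _ h2, tw_apply _ _ h2, res_of_mem _ h3, tw_apply _ _ h3,
      res_of_mem _ (mul_mem h2 tH), res_of_mem _ (mul_mem h3 tH)]
    ring
  · simp [tw, res_of_notMem _ hb]

namespace Hyp

variable {X U : Subgroup G} {t s : G} (h : Hyp X U t s)
include h

theorem sep {E : Finset (G → ℂ)} (hE : E ⊆ Irr U) (hst : Stab X U (∑ β ∈ E, β))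
    {χ α α' : G → ℂ} (hχ : χ ∈ Irr X) (hα : α ∈ E) (hα' : α' ∈ Irr U)
    (h1 : ip U (tw U t χ) α ≠ 0) (h2 : ip U (tw U t χ) α' ≠ 0) : α' ∈ E := by
  by_contra hn
  have := Fintype.ofFinite G
  obtain ⟨B, hv⟩ := P1.exists_val Nat.prime_two
  have hc : (𝐨(U)).Coprime 2 := Nat.coprime_two_right.2 h.odd
  obtain ⟨f, hf, f1, f2⟩ := exists_ext h.UX (φ := fun g => (𝐨(U) : ℂ)⁻¹ * conj ((∑ β ∈ E, β) g))
    fun g hg u hu e => by simp only [hst g hg u hu e]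
  have key : ∀ α ∈ Irr U, ip U (tw U t χ) α ≠ 0 →
      B.valuation (P1.om χ (P1.toA f) - ip U α (∑ β ∈ E, β) / α 1) < 1 := fun α hα hd => by
    have := smt (k := 1) Nat.prime_two hv h.tX (by rw [pow_one, sq, h.tt]) h.UX h.Ut hc hχ hα
      (by rwa [tw, ip_res_left] at hd) hf (fun g => by
        rcases f2 g with e | ⟨x, -, -, e⟩
        · simp [e]
        · rw [e]
          refine P1.val_mul_le (by rw [map_inv₀, P1.val_nat_eq_one hv hc, inv_one]) ?_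
          exact val_le_of_isIntegral _
            ((IsChar.sum fun β hβ => irr_isChar (hE hβ)).star.isIntegral _))
      fun g hg hU => (f2 g).resolve_right fun ⟨x, hx, e, _⟩ => hU (h.mem_of_odd
        ⟨(mem_normalizer_iff.1 (le_norm_self X hx) g).2 (h.UX e),
          mem_cent1.2 (mul_inv_eq_iff_eq_mul.1 hg)⟩ h.odd (by
        have := pow_card_of_mem e
        rwa [conj_pow, conj_eq_one_iff] at this))
    rwa [P1.om.eq_def α, P1.tr_apply, P1.coeff_toA,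
      P1.sum_univ_eq (H := U) (fun g hg => res_of_notMem _ hg), sum_fs_congr (g := fun g =>
        (𝐨(U) : ℂ)⁻¹ * (α g * conj ((∑ β ∈ E, β) g))) fun g hg => by
          rw [res_of_mem _ hg, f1 g hg]; ring, ← Finset.mul_sum, ← ip_def] at this
  have k1 := key α (hE hα) h1
  have k2 := key α' hα' h2
  rw [← conj_ip, (on_Irr U).ip_sum hE (hE hα), if_pos hα, map_one] at k1
  rw [← conj_ip, (on_Irr U).ip_sum hE hα', if_neg hn, map_zero, zero_div, sub_zero] at k2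
  have k3 := P1.val_mul_lt (B.valuation.map_sub_lt k2 k1)
    (val_le_of_isIntegral _ ((irr_isChar (hE hα)).isIntegral 1))
  rw [sub_sub_cancel, one_div_mul_cancel (irr_one_ne_zero (hE hα)), map_one] at k3
  exact lt_irrefl _ k3

theorem tw_eq_sum {E : Finset (G → ℂ)} (hE : E ⊆ Irr U) (hst : Stab X U (∑ β ∈ E, β))
    {χ α : G → ℂ} (hχ : χ ∈ Irr X) (hα : α ∈ E) (h1 : ip U (tw U t χ) α ≠ 0) :
    tw U t χ = ∑ β ∈ E, ip U (tw U t χ) β • β := by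
  rw [Finset.sum_subset hE fun β hβ hn => by
    rw [of_not_not (mt (h.sep hE hst hχ hα hβ h1) hn), zero_smul]]
  exact eq_sum_irr (vchar_mem_CF (h.tw_vchar (irr_mem_VChar hχ)))

theorem sum_deg {α : G → ℂ} (hα : α ∈ VChar U) : ∑ χ ∈ Irr X, ip U (tw U t χ) α * χ 1 = 0 := by
  rw [← h.Th_one α, apply_eq_sum_irr (vchar_mem_CF (h.Th_vchar hα))]
  exact Finset.sum_congr rfl fun χ hχ => by rw [h.ip_Th' (irr_mem_VChar hχ) hα]

theorem sum_orth {α β : G → ℂ} (hα : α ∈ VChar U) (hβ : β ∈ VChar U)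
    (inv : ∀ g ∈ X ⊓ 𝐂[t], ∀ x ∈ U, α (g * x * g⁻¹) = α x) :
    ∑ χ ∈ Irr X, ip U (tw U t χ) α * ip U (tw U t χ) β = 4 * ip U α β := by
  rw [← h.ip_Th_Th inv, ip_eq_sum_irr (vchar_mem_CF (h.Th_vchar hα))]
  exact Finset.sum_congr rfl fun χ hχ => by
    rw [h.ip_Th' (irr_mem_VChar hχ) hα, conj_ip, h.ip_Th (irr_mem_CF hχ)]

theorem exists_four {α : G → ℂ} (hα : α ∈ Irr U)
    (inv : ∀ g ∈ X ⊓ 𝐂[t], ∀ x ∈ U, α (g * x * g⁻¹) = α x) :
    ∃ χ : Fin 4 → G → ℂ, (∀ i, χ i ∈ Irr X) ∧ Function.Injective χ ∧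
      (∀ ψ ∈ Irr X, ip U (tw U t ψ) α ≠ 0 → ∃ i, χ i = ψ) ∧
      (∀ i, ip U (tw U t (χ i)) α = 1 ∨ ip U (tw U t (χ i)) α = -1) ∧
      ∀ F : (G → ℂ) → ℂ, ∑ ψ ∈ Irr X, ip U (tw U t ψ) α * F ψ =
        ∑ i, ip U (tw U t (χ i)) α * F (χ i) := by
  classical
  have hv := irr_mem_VChar hα
  set S := (Irr X).filter fun ψ => ip U (tw U t ψ) α ≠ 0
  have e1 : ∀ F : (G → ℂ) → ℂ, ∑ ψ ∈ Irr X, ip U (tw U t ψ) α * F ψ =
      ∑ ψ ∈ S, ip U (tw U t ψ) α * F ψ := fun F =>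
    (Finset.sum_filter_of_ne fun ψ _ e => left_ne_zero_of_mul e).symm
  have e2 : ∀ ψ ∈ S, ip U (tw U t ψ) α = 1 ∨ ip U (tw U t ψ) α = -1 := fun ψ hψ => by
    obtain ⟨h1, h2⟩ := Finset.mem_filter.1 hψ
    have := exists_four_dirr (h.Th_vchar hv) (by rw [h.ip_Th_Th inv, ip_irr_self hα, mul_one])
      (h.Th_one α) h1
    rw [h.ip_Th' (irr_mem_VChar h1) hv] at this
    exact this.resolve_left h2
  have e3 : S.card = 4 := by
    have := h.sum_orth hv hv inv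
    rw [e1, ip_irr_self hα, Finset.sum_congr rfl (g := fun _ => 1) fun ψ hψ => by
      rcases e2 ψ hψ with e | e <;> simp [e]] at this
    simp only [Finset.sum_const, nsmul_eq_mul, mul_one] at this
    exact_mod_cast this
  obtain ⟨χ, c1, c2, c3, c4⟩ := exists_fin_four e3
  exact ⟨χ, fun i => (Finset.mem_filter.1 (c1 i)).1, c3,
    fun ψ h1 h2 => c2 ψ (Finset.mem_filter.2 ⟨h1, h2⟩), fun i => e2 _ (c1 i),
    fun F => (e1 F).trans (c4 _)⟩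

theorem apply_invol {χ : G → ℂ} (hχ : χ ∈ CF X) {j : G} (hj : j ∈ X) (j1 : j ≠ 1)
    (jj : j * j = 1) : χ j = χ t := by
  obtain ⟨g, hg, rfl⟩ := h.conj j hj j1 jj
  exact CF_conj hχ hg t

theorem mod_four {χ : G → ℂ} (hχ : IsChar X χ) : ∃ n : ℕ, χ 1 + 3 * χ t = 4 * n := by
  have := (isChar_quarter h.v4 h.tX h.sX bot_le hχ (.inl rfl) (.inl rfl)).one_eq
  simp only [Pi.smul_apply, res_one, one_mul, smul_eq_mul, h.apply_invol hχ.mem_CF h.sX h.s1 h.ss,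
    h.apply_invol hχ.mem_CF (mul_mem h.sX h.tX) h.st1 h.stst] at this
  exact ⟨_, by rw [← this]; ring⟩

/-- The block of a fusion invariant character. -/
theorem pure_block {ψ : G → ℂ} (hψ : ψ ∈ Irr (X ⊓ 𝐂[t])) (hα : res U ψ ∈ Irr U)
    (hst : Stab X U ψ) (hs : ψ s ^ 2 = 1) :
    ∃ χ : Fin 4 → G → ℂ, (∀ i, χ i ∈ Irr X) ∧ Function.Injective χ ∧
      (∀ φ ∈ Irr X, ip U (tw U t φ) ψ ≠ 0 → ∃ i, χ i = φ) ∧ ∃ δ : Fin 4 → ℤ,
      (∀ i, δ i = 1 ∨ δ i = -1) ∧ (∀ i, tw U t (χ i) = (δ i : ℂ) • res U ψ) ∧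
      ∑ i, δ i * dg (χ i) = 0 ∧ (∀ i, (δ i * dg (χ i) + 3 * dg ψ) % 4 = 0) ∧
      ((X ⊓ 𝐂[t]).relIndex X : ℚ) * dg ψ ^ 3 * ∑ i, (1 : ℚ) / (δ i * dg (χ i) : ℤ) =
        8 * (𝐂[s].relIndex (X ⊓ 𝐂[t]) : ℚ) ^ 2 := by
  have hv := irr_mem_VChar hα
  obtain ⟨χ, c1, c2, c3, c4, c5⟩ := h.exists_four hα fun g hg x hx => by
    rw [res_of_mem _ hx, res_of_mem _ ((mem_normalizer_iff.1 (h.HU hg) x).1 hx),
      CF_conj (irr_mem_CF hψ) hg]
  have : ∀ i, ∃ δ : ℤ, (δ = 1 ∨ δ = -1) ∧ ip U (tw U t (χ i)) (res U ψ) = δ := fun i => by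
    rcases c4 i with e | e
    exacts [⟨1, .inl rfl, by simpa using e⟩, ⟨-1, .inr rfl, by simpa using e⟩]
  choose δ d1 d2 using this
  have d3 : ∀ i, tw U t (χ i) = (δ i : ℂ) • res U ψ := fun i => by
    rw [h.tw_eq_sum (E := {res U ψ}) (by simpa) (fun g hg u hu e => by
      simp only [Finset.sum_singleton, res_of_mem _ hu, res_of_mem _ e, hst g hg u hu e]) (c1 i)
      (Finset.mem_singleton_self _) (by rcases c4 i with e | e <;> simp [e]),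
      Finset.sum_singleton, d2]
  have d4 : ∀ i, χ i t = δ i * dg ψ := fun i => by
    have := congrFun (d3 i) 1
    rwa [tw_apply _ _ (one_mem U), one_mul, Pi.smul_apply, res_one, irr_one_eq hψ] at this
  refine ⟨χ, c1, c2, fun φ h1 h2 => c3 φ h1 (by rwa [ip_res_right]), δ, d1, d3, ?_, fun i => ?_, ?_⟩
  · have := h.sum_deg hv
    rw [c5] at this
    simp only [d2, irr_one_eq (c1 _)] at this
    exact_mod_cast this
  · obtain ⟨n, hn⟩ := h.mod_four (irr_isChar (c1 i))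
    rw [d4, irr_one_eq (c1 i)] at hn
    have : (dg (χ i) + 3 * (δ i * dg ψ) : ℤ) = 4 * n := by exact_mod_cast hn
    rcases d1 i with e | e <;> rw [e] at this ⊢ <;> omega
  · have := h.product hψ hv
    simp only [← ip_res_right U _ ψ] at this
    rw [c5, hs, irr_one_eq hψ, Finset.sum_congr rfl (g := fun i =>
      (dg ψ : ℂ) ^ 2 * (1 / (δ i * dg (χ i) : ℤ))) fun i _ => by
        rw [d2, d4, irr_one_eq (c1 i)]
        rcases d1 i with e | e <;> simp [e, div_eq_mul_inv], ← Finset.mul_sum] at this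
    have h0 : (dg ψ : ℂ) ≠ 0 := by exact_mod_cast (irr_dg_pos hψ).ne'
    apply Rat.cast_injective (α := ℂ)
    push_cast at this ⊢
    rw [mul_one_div, eq_div_iff h0] at this
    linear_combination this

end Hyp

end Cfsg.Agent.P5
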