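import Cfsg.Agent.P5.CharMain
import Cfsg.Agent.P5.Loc

/-! The case `U = [U, s] ⋊ C_U(s)`. -/

set_option autoImplicit false
set_option linter.unusedSectionVars false

namespace Cfsg.Agent.P5

open Subgroup Cfsg Cfsg.Agent Cfsg.Agent.FT
open scoped ComplexConjugate commutatorElement

universe u

variable {G : Type u} [Group G] [Finite G]

theorem hadamard_end {a b c D : Fin 4 → ℤ} (ha : ∀ i, a i * a i = 1) (hb : ∀ i, b i * b i = 1)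
    (hc : ∀ i, c i * c i = 1) (hab : ∑ i, a i * b i = 0) (hac : ∑ i, a i * c i = 0)
    (hbc : ∑ i, b i * c i = 0) (haD : ∑ i, a i * D i = 0) (hbD : ∑ i, b i * D i = 0)
    (hcD : ∑ i, c i * D i = 0) (hD : ∀ i, 0 < D i) (h4 : (D 0 + 3 * (a 0 + b 0 + c 0)) % 4 = 0)
    {N k : ℚ} (hN : 0 < N) (h9 : 9 * N ≤ 91 * k ^ 2)
    (h : N * ∑ i, (a i : ℚ) * ((a i + b i + c i) ^ 2 / D i) = 8 * k ^ 2) :
    N = 3 * k ^ 2 ∨ N = 7 * k ^ 2 := by
  have H := hadamard ha hb hc hab hac hbc haD hbD hcD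
  generalize ∑ j, a j * b j * c j * D j = S at H
  have he : ∀ i, a i * b i * c i = 1 ∨ a i * b i * c i = -1 := fun i => by
    rcases Int.eq_one_or_neg_one_of_mul_eq_one (ha i) with h1 | h1 <;>
      rcases Int.eq_one_or_neg_one_of_mul_eq_one (hb i) with h2 | h2 <;>
      rcases Int.eq_one_or_neg_one_of_mul_eq_one (hc i) with h3 | h3 <;> simp [h1, h2, h3]
  have e1 : ∀ i, a i * b i * c i = a 0 * b 0 * c 0 ∧ D i = D 0 := fun i => by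
    have h1 := H i
    have h2 := H 0
    have := hD i
    have := hD 0
    rcases he i with h3 | h3 <;> rcases he 0 with h4 | h4 <;> rw [h3] at h1 ⊢ <;>
      rw [h4] at h2 ⊢ <;> omega
  have e2 : ∀ {f : Fin 4 → ℤ}, ∑ i, f i * D i = 0 → ∑ i, f i = 0 := fun h => by
    simp only [(e1 _).2, ← Finset.sum_mul] at h
    exact (mul_eq_zero.1 h).resolve_right (hD 0).ne'
  have e3 : ∑ i, a i * (a i + b i + c i) ^ 2 = 8 * (a 0 * b 0 * c 0) := by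
    rw [Finset.sum_congr rfl (g := fun i => 3 * a i + 2 * b i + 2 * c i + 2 * (a 0 * b 0 * c 0))
      fun i _ => by
        rw [← (e1 i).1]
        linear_combination (a i + 2 * b i + 2 * c i) * ha i + a i * hb i + a i * hc i]
    simp only [Finset.sum_add_distrib, ← Finset.mul_sum, e2 haD, e2 hbD, e2 hcD]
    simp; ring
  have h0 : (0 : ℚ) < D 0 := by exact_mod_cast hD 0
  simp only [(e1 _).2, ← mul_div_assoc, ← Finset.sum_div] at h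
  rw [div_eq_iff h0.ne'] at h
  have e4 : ∑ i, (a i : ℚ) * (a i + b i + c i) ^ 2 = 8 * (a 0 * b 0 * c 0 : ℤ) := by
    exact_mod_cast e3
  rw [e4] at h
  have hk : 0 < k ^ 2 := by linarith
  rcases he 0 with e | e
  · rw [e] at h
    have h5 : (D 0 : ℚ) < 11 := by push_cast at h; nlinarith
    have h6 : D 0 < 11 := by exact_mod_cast h5
    have h7 := hD 0
    have : D 0 = 3 ∨ D 0 = 7 := by
      rcases Int.eq_one_or_neg_one_of_mul_eq_one (ha 0) with h1 | h1 <;>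
        rcases Int.eq_one_or_neg_one_of_mul_eq_one (hb 0) with h2 | h2 <;>
        rcases Int.eq_one_or_neg_one_of_mul_eq_one (hc 0) with h3 | h3 <;>
        rw [h1, h2, h3] at e h4 <;> omega
    rcases this with e | e <;> rw [e] at h <;> push_cast at h
    · left; linarith
    · right; linarith
  · rw [e] at h
    push_cast at h
    nlinarith

namespace Hyp

variable {X U : Subgroup G} {t s x : G} (h : Hyp X U t s)
include h

theorem comm_normal : ⁅U, zpowers s⁆ ⊲ U := ⟨comm_le_left_iff.2 (zpowers_le.2 h.sU), by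
  rw [commutator_comm]; exact H1.le_normalizer_commutator_self⟩

theorem comm_sup : ⁅U, zpowers s⁆ ⊔ U ⊓ 𝐂[s] = U := by
  rw [← cent_zpowers]
  exact H1.commutator_sup_centralizer (zpowers_le.2 h.sU) (Mx.coprime_zpowers h.ss h.odd)
    (.inr (isSolvable_of_odd h.odd))

theorem parity (xX : x ∈ X) (tri : Tri x t s) {χ l₀ l₁ l₂ : G → ℂ} (hχ : IsChar X χ)
    (h0 : l₀ ∈ Irr (U ⊓ 𝐂[s])) (h1 : l₁ ∈ Irr (U ⊓ 𝐂[s])) (h2 : l₂ ∈ Irr (U ⊓ 𝐂[s]))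
    (n1 : l₁ ≠ l₀) (n2 : l₂ ≠ l₀) (e0 : ∀ b, l₀ (x⁻¹ * b * x) = l₁ b)
    (e1 : ∀ b, l₁ (x⁻¹ * b * x) = l₂ b) (e2 : ∀ b, l₂ (x⁻¹ * b * x) = l₀ b) {d₀ d₁ d₂ : ℤ}
    (e : ∀ b ∈ U ⊓ 𝐂[s], χ (b * t) = d₀ * l₀ b + d₁ * l₁ b + d₂ * l₂ b) :
    (d₀ + d₁) % 2 = 0 ∧ (d₁ + d₂) % 2 = 0 := by
  have hN : ∀ b ∈ U ⊓ 𝐂[s], x⁻¹ * b * x ∈ U ⊓ 𝐂[s] := fun b hb =>
    H1.conj_mem_of_le_normalizer' le_rfl (h.mem_norm_B xX tri) hb
  have f1 : ∀ b ∈ U ⊓ 𝐂[s], χ (b * s) = d₀ * l₁ b + d₁ * l₂ b + d₂ * l₀ b := fun b hb => by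
    have := e _ (hN b hb)
    rw [e0, e1, e2, ← CF_conj hχ.mem_CF xX] at this
    rw [← this, ← tri.1]
    congr 1; group
  have f2 : ∀ b ∈ U ⊓ 𝐂[s], χ (b * s * t) = d₀ * l₂ b + d₁ * l₀ b + d₂ * l₁ b := fun b hb => by
    have := f1 _ (hN b hb)
    rw [e0, e1, e2, ← CF_conj hχ.mem_CF xX] at this
    rw [← this, mul_assoc, ← h.comm.eq, ← tri.2]
    congr 1; group
  obtain ⟨m, hm⟩ := CH1.ip_res_nat (inf_le_left.trans h.UX) hχ (irr_isChar h0)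
  have key : ∀ ε ε' : ℤ, ε = 1 ∨ ε = -1 → ε' = 1 ∨ ε' = -1 →
      ∃ n : ℕ, m + ε * d₀ + ε' * d₂ + ε * ε' * d₁ = 4 * n := fun ε ε' hε hε' => by
    obtain ⟨n, hn⟩ := (isChar_quarter h.v4 h.tX h.sX (B := U ⊓ 𝐂[s]) (inf_le_inf_right _ h.UH) hχ
      (ε := ε) (ε' := ε') (by exact_mod_cast hε) (by exact_mod_cast hε')).ip_nat (irr_isChar h0)
    rw [ip_smul_left, ip_res_left, ip_congr (φ' := χ + (ε * d₀ + ε' * d₂ + ε * ε' * d₁ : ℂ) • l₀ +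
      (ε * d₁ + ε' * d₀ + ε * ε' * d₂ : ℂ) • l₁ + (ε * d₂ + ε' * d₁ + ε * ε' * d₀ : ℂ) • l₂)
      (fun b hb => by
        simp only [Pi.add_apply, Pi.smul_apply, smul_eq_mul, e b hb, f1 b hb, f2 b hb]; ring)
      fun _ _ => rfl, ip_add_left, ip_add_left, ip_add_left, ip_smul_left, ip_smul_left,
      ip_smul_left, hm, ip_irr_self h0, ip_irr_of_ne h1 h0 n1, ip_irr_of_ne h2 h0 n2] at hn
    exact ⟨n, by exact_mod_cast (by linear_combination 4 * hn :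
      (m + ε * d₀ + ε' * d₂ + ε * ε' * d₁ : ℂ) = 4 * n)⟩
  obtain ⟨a, ha⟩ := key 1 1 (.inl rfl) (.inl rfl)
  obtain ⟨b, hb⟩ := key 1 (-1) (.inl rfl) (.inr rfl)
  obtain ⟨c, hc⟩ := key (-1) 1 (.inr rfl) (.inl rfl)
  omega

theorem B_eq_bot (perf : ⁅X, X⁆ = X) (nk : ¬ Ker3 X U s) (xX : x ∈ X) (tri : Tri x t s)
    (hK : ⁅U, zpowers s⁆ ⊓ 𝐂[s] = ⊥) : U ⊓ 𝐂[s] = ⊥ := by
  classical
  by_contra hB
  set B := U ⊓ 𝐂[s] with hBd
  have hBU : B ≤ U := inf_le_left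
  have sd : SdProd ⁅U, zpowers s⁆ B U := ⟨h.comm_sup, hBU.trans h.comm_normal.2,
    eq_bot_iff.2 (hK ▸ inf_le_inf_left _ inf_le_right)⟩
  have lift : ∀ l, IsLin B l → ∃ ψ, IsLin (X ⊓ 𝐂[t]) ψ ∧ ∀ b ∈ B, ψ b = l b := fun l hl => by
    obtain ⟨χ, h1, rfl⟩ := sd.exists_irrKer_res hl.mem_Irr
    obtain ⟨ψ, h2, rfl⟩ := h.exists_lin_extension
      ((irr_isChar (mem_irrKer.1 h1).1).isLin (by simpa using hl.2.1)) (mem_irrKer.1 h1).2
    exact ⟨ψ, h2, fun b hb => by rw [res_of_mem _ hb, res_of_mem _ (hBU hb)]⟩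
  have hx := h.mem_norm_B xX tri
  have hN : ∀ b, b ∈ B ↔ x * b * x⁻¹ ∈ B := mem_normalizer_iff.1 hx
  obtain ⟨l₀, k0, -, u, hu, hu1⟩ := exists_lin (isSolvable_of_odd (Mx.odd_of_le hBU h.odd))
    ⟨bot_le, by rw [norm_bot]; exact le_top⟩ (Ne.symm hB)
  have k1 := k0.cfConj_of_norm hx
  have k2 := k1.cfConj_of_norm hx
  obtain ⟨ψ₀, p0, q0⟩ := lift _ k0
  obtain ⟨ψ₁, p1, q1⟩ := lift _ k1
  obtain ⟨ψ₂, p2, q2⟩ := lift _ k2
  have e2 : cfConj x (cfConj x (cfConj x l₀)) = l₀ := by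
    have hx3 : x * (x * x) ∈ X ⊓ 𝐂[t] := ⟨X.mul_mem xX (X.mul_mem xX xX), mem_cent1_iff_conj.2 (by
      rw [← (tri.third h.v4), ← tri.2, ← tri.1]
      conv_lhs => rw [tri.1, tri.2, tri.third h.v4]
      group)⟩
    rw [cfConj_cfConj, cfConj_cfConj, mul_assoc]
    refine CF_ext (k0.cfConj_of_norm (mul_mem hx (mul_mem hx hx))).mem_CF k0.mem_CF fun b hb => ?_
    rw [cfConj_apply, ← q0 b hb, ← q0 _ (H1.conj_mem_of_le_normalizer' le_rfl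
      (mul_mem hx (mul_mem hx hx)) hb), CF_conj' p0.mem_CF hx3]
  by_cases n1 : cfConj x l₀ = l₀
  · exact nk (h.no_linear perf p0 (h.stab xX tri (fun g hg u _ => CF_conj p0.mem_CF hg u)
      fun b hb => by rw [q0 b hb, q0 _ ((hN b).1 hb), ← n1, cfConj_apply_conj, n1]) (hBU hu)
      (by rwa [q0 u hu])).1
  have n2 : cfConj x (cfConj x l₀) ≠ cfConj x l₀ := fun e => n1 (cfConj_injective x e)
  have n3 : cfConj x (cfConj x l₀) ≠ l₀ := fun e => n1 (by rw [e] at e2; exact e2)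
  generalize hl₁ : cfConj x l₀ = l₁ at *
  generalize hl₂ : cfConj x l₁ = l₂ at *
  have ne : ∀ {ψ ψ' l l' : G → ℂ}, IsLin B l → IsLin B l' → (∀ b ∈ B, ψ b = l b) →
      (∀ b ∈ B, ψ' b = l' b) → l ≠ l' → res U ψ ≠ res U ψ' := fun {ψ ψ' l l'} h1 h2 h3 h4 h5 e =>
    h5 (CF_ext h1.mem_CF h2.mem_CF fun b hb => by
      rw [← h3 b hb, ← h4 b hb, ← res_of_mem ψ (hBU hb), e, res_of_mem _ (hBU hb)])
  have m1 := ne k0 k1 q0 q1 (Ne.symm n1)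
  have m2 := ne k0 k2 q0 q2 (Ne.symm n3)
  have m3 := ne k1 k2 q1 q2 (Ne.symm n2)
  have i0 := (p0.res h.UH).mem_Irr
  have i1 := (p1.res h.UH).mem_Irr
  have i2 := (p2.res h.UH).mem_Irr
  have inv : ∀ {ψ}, IsLin (X ⊓ 𝐂[t]) ψ → ∀ g ∈ X ⊓ 𝐂[t], ∀ u ∈ U,
      res U ψ (g * u * g⁻¹) = res U ψ u := fun hψ g hg u hu => by
    rw [res_of_mem _ hu, res_of_mem _ ((mem_normalizer_iff.1 (h.HU hg) u).1 hu),
      CF_conj hψ.mem_CF hg]
  have sum3 : ∀ F : (G → ℂ) → G → ℂ, ∑ β ∈ {res U ψ₀, res U ψ₁, res U ψ₂}, F β =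
      F (res U ψ₀) + F (res U ψ₁) + F (res U ψ₂) := fun F => by
    rw [Finset.sum_insert (by simp [m1, m2]), Finset.sum_pair m3, add_assoc]
  have hE : {res U ψ₀, res U ψ₁, res U ψ₂} ⊆ Irr U := by
    simp [Finset.insert_subset_iff, i0, i1, i2]
  have hst : Stab X U (∑ β ∈ {res U ψ₀, res U ψ₁, res U ψ₂}, β) := by
    rw [sum3]
    refine h.stab xX tri (fun g hg u hu => by
      simp only [Pi.add_apply, inv p0 g hg u hu, inv p1 g hg u hu, inv p2 g hg u hu])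
      fun b hb => ?_
    have hb' := (hN b).1 hb
    simp only [Pi.add_apply, res_of_mem _ (hBU hb), res_of_mem _ (hBU hb'), q0 b hb, q1 b hb,
      q2 b hb, q0 _ hb', q1 _ hb', q2 _ hb']
    rw [← e2, cfConj_apply_conj, e2, ← hl₂, cfConj_apply_conj, hl₂, ← hl₁, cfConj_apply_conj, hl₁]
    ring
  have dc : ∀ {ψ}, IsLin (X ⊓ 𝐂[t]) ψ → ∀ χ ∈ Irr X, ∃ d : ℤ, ip U (tw U t χ) (res U ψ) = d ∧
      (d = 0 ∨ d = 1 ∨ d = -1) := fun hψ χ hχ => by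
    have hi := (hψ.res h.UH).mem_Irr
    have := exists_four_dirr (h.Th_vchar (irr_mem_VChar hi))
      (by rw [h.ip_Th_Th (inv hψ), ip_irr_self hi, mul_one]) (h.Th_one _) hχ
    rw [h.ip_Th' (irr_mem_VChar hχ) (irr_mem_VChar hi)] at this
    rcases this with e | e | e
    exacts [⟨0, by simp [e], by simp⟩, ⟨1, by simp [e], by simp⟩, ⟨-1, by simp [e], by simp⟩]
  choose! a ha ha' using dc p0
  choose! b hb hb' using dc p1
  choose! c hc hc' using dc p2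
  have tw3 : ∀ χ ∈ Irr X, ¬ (a χ = 0 ∧ b χ = 0 ∧ c χ = 0) → ∀ g ∈ B,
      χ (g * t) = a χ * l₀ g + b χ * l₁ g + c χ * l₂ g := fun χ hχ hn g hg => by
    obtain ⟨α, h1, h2⟩ : ∃ α ∈ ({res U ψ₀, res U ψ₁, res U ψ₂} : Finset _),
        ip U (tw U t χ) α ≠ 0 := by
      by_contra! e
      simp only [Finset.mem_insert, Finset.mem_singleton, forall_eq_or_imp, forall_eq, ha χ hχ,
        hb χ hχ, hc χ hχ, Int.cast_eq_zero] at e
      exact hn e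
    have := congrFun (h.tw_eq_sum hE hst hχ h1 h2) g
    rw [sum3, ha χ hχ, hb χ hχ, hc χ hχ, tw_apply _ _ (hBU hg)] at this
    simpa only [Pi.add_apply, Pi.smul_apply, smul_eq_mul, res_of_mem _ (hBU hg), q0 g hg, q1 g hg,
      q2 g hg] using this
  have par : ∀ χ ∈ Irr X, (a χ = 0 ∧ b χ = 0 ∧ c χ = 0) ∨
      (a χ * a χ = 1 ∧ b χ * b χ = 1 ∧ c χ * c χ = 1) := fun χ hχ => by
    refine or_iff_not_imp_left.2 fun hn => ?_
    have := h.parity xX tri (irr_isChar hχ) k0.mem_Irr k1.mem_Irr k2.mem_Irr n1 n3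
      (fun g => by rw [← hl₁, cfConj_apply]) (fun g => by rw [← hl₂, cfConj_apply])
      (fun g => by rw [← cfConj_apply x l₂, e2]) (tw3 χ hχ hn)
    rcases ha' χ hχ with h1 | h1 | h1 <;> rcases hb' χ hχ with h2 | h2 | h2 <;>
      rcases hc' χ hχ with h3 | h3 | h3 <;> rw [h1, h2, h3] at this hn ⊢ <;> simp at this hn ⊢
  obtain ⟨χ, c1, -, -, c4, c5⟩ := h.exists_four i0 (inv p0)
  have s1 : ∀ i, a (χ i) * a (χ i) = 1 ∧ b (χ i) * b (χ i) = 1 ∧ c (χ i) * c (χ i) = 1 := fun i =>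
    (par _ (c1 i)).resolve_left fun e => by have := c4 i; simp [ha _ (c1 i), e.1] at this
  have S : ∀ F : (G → ℂ) → ℤ, (∀ ψ ∈ Irr X, a ψ = 0 → b ψ = 0 → c ψ = 0 → F ψ = 0) →
      ∑ ψ ∈ Irr X, (F ψ : ℂ) = 0 → ∑ i, F (χ i) = 0 := fun F h1 h2 => by
    have := c5 fun ψ => a ψ * F ψ
    rw [Finset.sum_congr rfl (g := fun ψ => (F ψ : ℂ)) fun ψ hψ => by
      rw [ha ψ hψ, ← mul_assoc, ← Int.cast_mul]
      rcases par ψ hψ with e | e
      · simp [h1 ψ hψ e.1 e.2.1 e.2.2]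
      · simp [e.1], h2, Finset.sum_congr rfl (g := fun i => (F (χ i) : ℂ)) fun i _ => by
      rw [ha _ (c1 i), ← mul_assoc, ← Int.cast_mul, (s1 i).1]; simp] at this
    exact_mod_cast this.symm
  have o : ∀ {α β : G → ℂ} {d d' : (G → ℂ) → ℤ}, α ∈ Irr U → β ∈ Irr U → α ≠ β →
      (∀ g ∈ X ⊓ 𝐂[t], ∀ u ∈ U, α (g * u * g⁻¹) = α u) →
      (∀ χ ∈ Irr X, ip U (tw U t χ) α = d χ) → (∀ χ ∈ Irr X, ip U (tw U t χ) β = d' χ) →
      ∑ ψ ∈ Irr X, ((d ψ * d' ψ : ℤ) : ℂ) = 0 := fun h1 h2 h3 h4 h5 h6 => by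
    have := h.sum_orth (irr_mem_VChar h1) (irr_mem_VChar h2) h4
    rw [ip_irr_of_ne h1 h2 h3, mul_zero] at this
    rw [← this]
    exact Finset.sum_congr rfl fun ψ hψ => by rw [h5 ψ hψ, h6 ψ hψ, Int.cast_mul]
  have o' : ∀ {α : G → ℂ} {d : (G → ℂ) → ℤ}, α ∈ Irr U → (∀ χ ∈ Irr X, ip U (tw U t χ) α = d χ) →
      ∑ ψ ∈ Irr X, ((d ψ * dg ψ : ℤ) : ℂ) = 0 := fun h1 h2 => by
    rw [← h.sum_deg (irr_mem_VChar h1)]
    exact Finset.sum_congr rfl fun ψ hψ => by rw [h2 ψ hψ, irr_one_eq hψ]; push_cast; rfl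
  have vt : ∀ i, χ i t = (a (χ i) + b (χ i) + c (χ i) : ℤ) := fun i => by
    have := tw3 _ (c1 i) (fun e => by simpa [e.1] using (s1 i).1) 1 (one_mem B)
    rw [k0.2.1, k1.2.1, k2.2.1, one_mul] at this
    rw [this]; push_cast; ring
  have pr := h.product p0.mem_Irr (irr_mem_VChar i0)
  simp only [← ip_res_right U _ ψ₀] at pr
  rw [c5, h.lin_sq p0, p0.2.1] at pr
  simp only [ha _ (c1 _), vt, irr_one_eq (c1 _)] at pr
  obtain ⟨y₁, y₂, y₃, r1, r2, r3⟩ := h.principal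
  have r4 : ∀ y, y = y₁ ∨ y = y₂ ∨ y = y₃ → (5 ≤ y ∨ y ≤ -3) ∧ y % 4 = 1 := fun y hy => by
    obtain ⟨h1, h2, -⟩ := r3 y hy
    have := mt h2 (not_not.2 perf)
    omega
  have hN0 : (0 : ℚ) < (X ⊓ 𝐂[t]).relIndex X := by
    exact_mod_cast Nat.pos_of_ne_zero (CH1.relIndex_ne_zero' _ _)
  have := hadamard_end (D := fun i => dg (χ i)) (fun i => (s1 i).1) (fun i => (s1 i).2.1)
    (fun i => (s1 i).2.2) (S _ (by simp +contextual) (o i0 i1 m1 (inv p0) ha hb))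
    (S _ (by simp +contextual) (o i0 i2 m2 (inv p0) ha hc))
    (S _ (by simp +contextual) (o i1 i2 m3 (inv p1) hb hc))
    (S _ (by simp +contextual) (o' i0 ha)) (S _ (by simp +contextual) (o' i1 hb))
    (S _ (by simp +contextual) (o' i2 hc)) (fun i => by exact_mod_cast irr_dg_pos (c1 i)) (by
      obtain ⟨n, hn⟩ := h.mod_four (irr_isChar (c1 0))
      rw [vt, irr_one_eq (c1 0)] at hn
      have : (dg (χ 0) + 3 * (a (χ 0) + b (χ 0) + c (χ 0)) : ℤ) = 4 * n := by exact_mod_cast hn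
      omega) hN0 (k := 𝐂[s].relIndex (X ⊓ 𝐂[t])) (by exact_mod_cast h.nine_le nk) (by
      apply Rat.cast_injective (α := ℂ)
      push_cast at pr ⊢
      rw [pr]; ring)
  refine no_three_seven (r4 y₁ (by simp)).1 (r4 y₂ (by simp)).1 (r4 y₃ (by simp)).1
    (r4 y₁ (by simp)).2 (r4 y₂ (by simp)).2 (r4 y₃ (by simp)).2 r1 ?_ rfl
  rcases this with e | e
  · right
    refine mul_left_cancel₀ hN0.ne' ?_
    linarith
  · left
    refine mul_left_cancel₀ hN0.ne' ?_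
    linarith

end Hyp

end Cfsg.Agent.P5
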