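import Cfsg.Agent.P5.K1

/-!
The interface lemma `J3` of plan P5 (with the character theoretic fact `comm_eq` as a hypothesis).
-/

set_option autoImplicit false
set_option linter.unusedSectionVars false

namespace Cfsg.Agent.P5

open Subgroup Cfsg Cfsg.Agent Cfsg.Agent.FT
open Cfsg.Agent.H2 (pPrimeCoreOf fstarOf layerOf)
open scoped commutatorElement Pointwise

universe u

/-- The statement of `comm_eq`. -/
def CommEq : Prop :=
  ∀ (G : Type u) [Group G] [Finite G] (X U : Subgroup G) (t s x : G), Hyp X U t s → ⁅X, X⁆ = X →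
    (∀ N : Subgroup G, N ⊲ X → N = X ∨ N ≤ 𝐂(X)) → x ∈ X → Tri x t s → U ⊓ 𝐂[s] ≤ 𝐂[x] →
    ⁅U, zpowers s⁆ = U

variable {G : Type u} [Group G]

theorem bsw_conj {K : Subgroup G} {t s : G} (h : P3.BSW K t s) (g : G) :
    P3.BSW (MulAut.conj g • K) (g * t * g⁻¹) (g * s * g⁻¹) := by
  have m : ∀ {y : G}, y ∈ MulAut.conj g • K ↔ g⁻¹ * y * g ∈ K := H2.mem_conj_smul
  have one : ∀ {y : G}, g⁻¹ * y * g = 1 ↔ y = 1 := fun {y} =>
    ⟨fun e => by rw [← mul_left_inj g⁻¹, ← mul_right_inj g] at e; simpa [mul_assoc] using e,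
      fun e => by simp [e]⟩
  have sq : ∀ y : G, g⁻¹ * y * g * (g⁻¹ * y * g) = g⁻¹ * (y * y) * g := fun y => by group
  have cm : ∀ {a y : G}, Commute (g * a * g⁻¹) y → Commute a (g⁻¹ * y * g) := fun {a y} c => by
    show a * (g⁻¹ * y * g) = g⁻¹ * y * g * a
    calc a * (g⁻¹ * y * g) = g⁻¹ * (g * a * g⁻¹ * y) * g := by group
      _ = _ := by rw [c.eq]; group
  refine ⟨⟨⟨fun a b => Subtype.ext ?_⟩⟩, H2.conj_mem_conj_smul h.tK, by simpa using h.t1,
    by rw [conj_mul, h.tt, mul_one, mul_inv_cancel], fun y hy e => ?_, fun e => h.sK ?_,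
    by rw [conj_mul, h.ss, mul_one, mul_inv_cancel], fun y hy => ?_, fun y hy => ?_,
    fun y hy e z hz => ?_, fun u h1 h2 => ?_⟩
  · have := (h.commute (m.1 a.2) (m.1 b.2)).eq
    change (a : G) * b = b * a
    calc (a : G) * b = g * (g⁻¹ * a * g * (g⁻¹ * b * g)) * g⁻¹ := by group
      _ = _ := by rw [this]; group
  · refine (h.uniq _ (m.1 hy) (by rw [sq, e, mul_one, inv_mul_cancel])).imp one.1 fun f => ?_
    rw [← f]; group
  · simpa [mul_assoc] using m.1 e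
  · calc g * s * g⁻¹ * y * (g * s * g⁻¹) = g * (s * (g⁻¹ * y * g) * s) * g⁻¹ := by group
      _ = _ := by rw [h.inv _ (m.1 hy)]; group
  · refine (h.centt _ (cm hy)).imp m.2 fun f => m.2 ?_
    simpa [mul_assoc] using f
  · refine m.2 (h.cent _ (m.1 hy) (fun f => e (one.1 (sq y ▸ f))) _ (cm ?_))
    simpa [mul_assoc] using hz
  · exact (isConj_iff.2 ⟨g, rfl⟩).symm.trans (h.isConj u h1 h2)

theorem bsw_transfer {K : Subgroup G} {t₀ s₀ t s : G} (h : P3.BSW K t₀ s₀) (hV : V4 t s) :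
    ∃ K' : Subgroup G, P3.BSW K' t s := by
  obtain ⟨g, rfl⟩ := isConj_iff.1 (h.isConj t hV.t1 hV.tt)
  have k := bsw_conj h g
  have hs : s ∉ MulAut.conj g • K := fun e => (k.uniq s e hV.ss).elim hV.s1 hV.ts.symm
  have hs' := (k.centt s hV.comm).resolve_left hs
  refine ⟨_, k.comm, k.tK, k.t1, k.tt, k.uniq, hs, hV.ss, fun y hy => ?_, fun y hy => ?_, k.cent,
    k.isConj⟩
  · have := k.coset_inv hs' hy
    rwa [inv_eq_of_sq hV.ss] at this
  · exact (k.centt y hy).imp_right (k.coset_mul hs')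

variable [Finite G]

theorem bsw_mem_of_odd {K : Subgroup G} {t s u : G} (h : P3.BSW K t s) (hu : Commute t u)
    (ho : Odd (orderOf u)) : u ∈ K := by
  refine (h.centt u hu).elim id fun e => ?_
  rw [eq_one_of_odd (U := zpowers u) (by rwa [Nat.card_zpowers]) (mem_zpowers u) (h.coset_sq e)]
  exact one_mem K

theorem bsw_isCyclic {K W : Subgroup G} {t s : G} (h : P3.BSW K t s) (hW : W ≤ 𝐂[t])
    (ho : Odd 𝐨(W)) : IsCyclic W := by
  classical
  obtain ⟨F, _, _, h1, ⟨e⟩⟩ := h.exists_psl2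
  have hq : Odd (Nat.card F) := by
    rw [Nat.card_eq_fintype_card, Nat.odd_iff]; omega
  obtain ⟨X, a1, -, -, a4⟩ := P4.psl_cent_invol (P3.two_ne_zero_of_odd hq) (c := e t)
    (by simpa using h.t1) (by rw [← map_mul, h.tt, map_one])
  have key : ∀ w : W, (e.toMonoidHom.comp W.subtype) w ∈ X := fun w => by
    by_contra hn
    have hc : e w ∈ 𝐂[e t] := mem_cent1_iff_commute.2 ((mem_cent1_iff_commute.1 (hW w.2)).map e)
    have h2 := a4 (e w)⁻¹ (inv_mem hc) (fun f => hn ((inv_mem_iff).1 f)) (e w) hc hn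
    obtain ⟨m, hm⟩ := ho
    have h3 : e w = (e w * e w) ^ (m + 1) := by
      rw [← pow_two, ← pow_mul, show 2 * (m + 1) = 𝐨(W) + 1 by omega, pow_succ, ← map_pow,
        pow_card_of_mem w.2, map_one, one_mul]
    rw [inv_inv] at h2
    exact hn (show e w ∈ X from h3 ▸ pow_mem h2 _)
  exact isCyclic_of_injective ((e.toMonoidHom.comp W.subtype).codRestrict X key)
    fun a b hab => Subtype.ext (e.injective (congrArg Subtype.val hab))

omit [Finite G] in
theorem inverts_of_comm_eq {U : Subgroup G} {s : G} (hU : IsMulCommutative U) (ss : s * s = 1)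
    (hs : s ∈ 𝐍(U)) (h : ⁅U, zpowers s⁆ = U) : ∀ a ∈ U, s * a * s⁻¹ = a⁻¹ := by
  have hc : ∀ a ∈ U, ∀ b ∈ U, a * b = b * a := fun a ha b hb =>
    H2.le_centralizer_of_comm hU hb a ha
  have hsi := inv_eq_of_sq ss
  let I : Subgroup G :=
    { carrier := {a | a ∈ U ∧ s * a * s⁻¹ = a⁻¹}
      one_mem' := ⟨one_mem U, by simp⟩
      mul_mem' := fun {a b} ha hb => ⟨mul_mem ha.1 hb.1, by
        rw [← conj_mul, ha.2, hb.2, ← mul_inv_rev, hc b hb.1 a ha.1]⟩
      inv_mem' := fun {a} ha => ⟨inv_mem ha.1, by rw [← conj_inv, ha.2]⟩ }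
  have h1 : s ∈ 𝐍(I) := by
    refine mem_normalizer_iff.2 fun a => ⟨fun ha => ?_, fun ha => ?_⟩
    · rw [ha.2]; exact inv_mem ha
    · have e : a = s * (s * a * s⁻¹) * s⁻¹ := by
        rw [← mul_assoc, ← mul_assoc, ss, one_mul, mul_assoc, hsi, ss, mul_one]
      rw [e, ha.2]; exact inv_mem ha
  have h2 : ⁅U, zpowers s⁆ ≤ I := H1.commutator_zpowers_le h1 fun g hg => ⟨?_, ?_⟩
  · exact fun a ha => (h2 (h.ge ha)).2
  · rw [commutatorElement_def, mul_assoc, mul_assoc, ← mul_assoc s]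
    exact mul_mem hg ((mem_normalizer_iff.1 hs _).1 (inv_mem hg))
  · rw [commutatorElement_inv, commutatorElement_def, commutatorElement_def, hsi]
    calc s * (g * s * g⁻¹ * s) * s = s * g * s * g⁻¹ * (s * s) := by group
      _ = _ := by rw [ss, mul_one]

theorem lt_of_hom (hce : CommEq.{u}) {K U : Subgroup G} {t s x : G} (h : Hyp K U t s) (xK : x ∈ K)
    (tri : Tri x t s) (qs : IsQuasisimple K) {H : Type u} [Group H] [Finite H] (f : K →* H)
    (hf : ∀ k : K, f k = 1 → (k : G) ∈ 𝐂(K)) {K' : Subgroup H}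
    (hb : P3.BSW K' (f ⟨t, h.tX⟩) (f ⟨s, h.sX⟩)) : LT K U t s := by
  obtain ⟨perf, -, qs'⟩ := H2.isQuasisimple_subgroup_iff.1 qs
  obtain ⟨ψ, hψ⟩ : ∃ ψ : U →* H, ψ = f.comp (inclusion h.UX) := ⟨_, rfl⟩
  have e : ∀ u : U, ψ u = f ⟨u, h.UX u.2⟩ := fun u => by rw [hψ]; rfl
  have c1 : ∀ u : U, Commute (f ⟨t, h.tX⟩) (ψ u) := fun u => by
    rw [e]
    exact Commute.map (Subtype.ext (h.cU u.2).eq) f
  have hodd : Odd 𝐨(ψ.range) := h.odd.of_dvd_nat (card_range_dvd ψ)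
  have c2 : ∀ u : U, ψ u ∈ K' := fun u => bsw_mem_of_odd hb (c1 u)
    (hodd.of_dvd_nat (orderOf_dvd_card_of_mem ⟨u, rfl⟩))
  haveI : IsCyclic ψ.range := bsw_isCyclic hb
    (by rintro _ ⟨u, rfl⟩; exact mem_cent1_iff_commute.2 (c1 u)) hodd
  have hB : U ⊓ 𝐂[s] ≤ 𝐂[x] := by
    intro u hu
    have h1 := hb.inv _ (c2 ⟨u, hu.1⟩)
    have h2 : Commute (f ⟨s, h.sX⟩) (ψ ⟨u, hu.1⟩) := by
      rw [e]
      exact Commute.map (Subtype.ext (mem_cent1_iff_commute.1 hu.2).eq) f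
    rw [h2.eq, mul_assoc, hb.ss, mul_one] at h1
    have h3 := eq_one_of_odd hodd ⟨⟨u, hu.1⟩, rfl⟩ (mul_eq_one_iff_eq_inv.2 h1)
    rw [e] at h3
    exact mem_cent1_iff_commute.2 (mem_centralizer_iff.1 (hf _ h3) x xK)
  have hU : IsMulCommutative U := by
    refine ψ.rangeRestrict.isMulCommutative_of_isCyclic_of_ker_le_center fun u hu => ?_
    have h1 : ψ u = 1 := congrArg Subtype.val hu
    rw [e] at h1
    exact mem_center_iff.2 fun v => Subtype.ext (mem_centralizer_iff.1 (hf _ h1) v (h.UX v.2))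
  have inv := inverts_of_comm_eq hU h.ss h.sU
    (hce G K U t s x h perf (fun N hN => qs' N hN.1 hN.2) xK tri hB)
  have hV := h.v4
  have hZ : K ⊓ 𝐂(K) = ⊥ := by
    refine eq_bot_iff.2 fun z hz => mem_bot.2 ?_
    have k1 : ∀ w ∈ U, Commute s w → w = 1 := fun w hw c => eq_one_of_odd h.odd hw (by
      have := inv w hw
      rw [c.eq, mul_inv_cancel_right] at this
      exact mul_eq_one_iff_eq_inv.2 this)
    have cz : ∀ y ∈ K, Commute y z := fun y hy => mem_centralizer_iff.1 hz.2 y hy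
    have k2 : ∀ y, y * z = 1 → Commute x y := fun y e => by
      rw [eq_inv_of_mul_eq_one_left e]; exact (cz x xK).inv_right
    rcases h.cover z ⟨hz.1, mem_cent1_iff_commute.2 (cz t h.tX)⟩ with g | g | g | g
    · exact k1 z g (cz s h.sX)
    · exact absurd (k2 t ((cz t h.tX).eq ▸ k1 _ g ((cz s h.sX).mul_right h.comm.symm)))
        (tri.not_commute hV)
    · exact absurd (k2 s (k1 _ g ((Commute.refl s).mul_right (cz s h.sX))))
        ((tri.rot hV).not_commute hV.rot)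
    · refine absurd (k2 (t * s) ?_) (((tri.rot hV).rot hV.rot).not_commute hV.rot.rot)
      rw [← k1 _ g (((Commute.refl s).mul_right (cz s h.sX)).mul_right h.comm.symm), h.comm.eq,
        mul_assoc, (cz t h.tX).eq, mul_assoc]
  have hi : Function.Injective f := (injective_iff_map_eq_one f).2 fun k hk =>
    Subtype.ext (mem_bot.1 (hZ ▸ mem_inf.2 ⟨k.2, hf k hk⟩))
  have cent : ∀ a ∈ U, a ≠ 1 → ∀ g ∈ K, Commute a g → g ∈ U ∨ g * t ∈ U := by
    intro a ha ha1 g hg hc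
    have h1 : f ⟨g, hg⟩ ∈ K' := hb.cent _ (c2 ⟨a, ha⟩) (fun e' => ha1 (by
      have := eq_one_of_odd hodd ⟨⟨a, ha⟩, rfl⟩ e'
      rw [e, ← f.map_one] at this
      exact congrArg Subtype.val (hi this))) _ (by
        rw [e]; exact Commute.map (Subtype.ext hc.eq) f)
    have h2 : Commute t g := by
      have := (hb.commute hb.tK h1).eq
      rw [← map_mul, ← map_mul] at this
      exact congrArg Subtype.val (hi this)
    rcases h.cover g ⟨hg, mem_cent1_iff_commute.2 h2⟩ with k | k | k | k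
    · exact Or.inl k
    · exact Or.inr k
    · refine absurd ((mul_mem_cancel_right h1).1 ?_) hb.sK
      have := c2 ⟨_, k⟩
      rwa [e, show (⟨s * g, _⟩ : K) = ⟨s, h.sX⟩ * ⟨g, hg⟩ from rfl, map_mul] at this
    · refine absurd ((mul_mem_cancel_right h1).1 ((mul_mem_cancel_right hb.tK).1 ?_)) hb.sK
      have := c2 ⟨_, k⟩
      rwa [e, show (⟨s * g * t, _⟩ : K) = ⟨s, h.sX⟩ * ⟨g, hg⟩ * ⟨t, h.tX⟩ from rfl, map_mul,
        map_mul] at this
  refine ⟨h, inv, isCyclic_of_injective ψ.rangeRestrict fun a b hab => ?_, cent, perf,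
    fun N hN => (qs' N hN.1 hN.2).symm.imp_left fun k => eq_bot_iff.2 (hZ ▸ le_inf hN.1 k),
    ⟨x, xK, tri⟩, h.ord inv cent⟩
  have : ψ a = ψ b := congrArg Subtype.val hab
  rw [e, e] at this
  exact Subtype.ext (congrArg (fun z : K => (z : G)) (hi this))

/-- A nontrivial perfect subgroup normalized by `V` contains `V`. -/
theorem K4.le_of_perfect {V K : Subgroup G} (hV : K4 V) (hn : V ≤ 𝐍(K)) (hp : ⁅K, K⁆ = K)
    (h : K ≠ ⊥) : V ≤ K := by
  by_contra hc
  have h1 : ¬ 2 ∣ (V ⊓ K).relIndex K :=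
    H2.not_dvd_relIndex_inf (hV.not_dvd_relIndex le_top) le_top le_top hn
  have h2 : K ⊓ 𝐍(V ⊓ K) ≤ 𝐂(V ⊓ K) := by
    intro g hg
    refine mem_centralizer_iff.2 fun v hv => ?_
    have hv' := (mem_normalizer_iff.1 hg.2 v).1 hv
    by_contra hne
    have e1 : v ≠ 1 := fun e => hne (by simp [e])
    have e2 : g * v * g⁻¹ ≠ 1 := fun e => e1 (by simpa using e)
    have e3 : v ≠ g * v * g⁻¹ := fun e => hne (by
      calc v * g = g * v * g⁻¹ * g := by rw [← e]
        _ = g * v := by group)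
    exact hc (hV.le_of_mem hv.1 hv'.1 e1 e2 e3 hv.2 hv'.2)
  have hS : IsPGroup 2 (V ⊓ K : Subgroup G) := hV.isPGroup.to_le inf_le_left
  have h3 := Mx.isSolvable_of_le_sup inf_le_right hS (Mx.le_sup_of_burnside inf_le_right hS h1 h2)
  exact (H1.commutator_lt_of_isSolvable h3 h).ne hp

theorem exists_tri_of_not_solvable {X : Subgroup G} {t s : G} (h8 : ¬ 8 ∣ Nat.card G)
    (hV : V4 t s) (tX : t ∈ X) (sX : s ∈ X) (h : ¬ Group.IsSolvable X) : ∃ x ∈ X, Tri x t s :=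
  (normal_compl_or_tri h8 hV tX sX).resolve_left fun e =>
    h (Mx.isSolvable_of_le_sup (V4.le_iff.2 ⟨tX, sX⟩) hV.isPGroup e)

theorem exists_LT_of_quasisimple (hce : CommEq.{u}) {n : ℕ} (hI : Ind.{u} n) {K : Subgroup G}
    {t s : G} (h8 : ¬ 8 ∣ Nat.card G) (hV : V4 t s) (hK : 𝐨(K) < n) (tK : t ∈ K) (sK : s ∈ K)
    (qs : IsQuasisimple K) : LT K (pPrimeCoreOf 2 (K ⊓ 𝐂[t])) t s := by
  obtain ⟨x, xK, tri⟩ := exists_tri_of_not_solvable h8 hV tK sK (H2.QS.not_isSolvable qs)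
  have hf : ∀ k : K, QuotientGroup.mk' (center K) k = 1 → (k : G) ∈ 𝐂(K) := fun k hk =>
    mem_centralizer_iff.2 fun y hy => congrArg Subtype.val
      (mem_center_iff.1 ((QuotientGroup.eq_one_iff k).1 hk) ⟨y, hy⟩)
  have hd : Nat.card (K ⧸ center K) ∣ 𝐨(K) := card_quotient_dvd_card _
  obtain ⟨A, t₀, s₀, hb⟩ := hI (K ⧸ center K) ((Nat.le_of_dvd Nat.card_pos hd).trans_lt hK) qs.2
    (fun hc => H2.QS.not_le_centralizer qs (by
      refine (H2.QS.commutator_eq qs).ge.trans (Subgroup.commutator_le.2 fun a ha b hb => ?_)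
      refine hf ⁅(⟨a, ha⟩ : K), ⟨b, hb⟩⁆ ?_
      rw [map_commutatorElement, commutatorElement_eq_one_iff_mul_comm]
      exact hc.1.1 _ _))
    (fun h => h8 (h.trans (hd.trans (card_subgroup_dvd_card K))))
  have nc : ∀ y : K, ¬ Commute x (y : G) → QuotientGroup.mk' (center K) y ≠ 1 := fun y h e =>
    h (mem_centralizer_iff.1 (hf y e) x xK)
  obtain ⟨K', hb'⟩ := bsw_transfer hb ((hV.subtype tK sK).map (QuotientGroup.mk' (center K))
    (nc _ (tri.not_commute hV)) (nc _ ((tri.rot hV).not_commute hV.rot))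
    (nc _ (((tri.rot hV).rot hV.rot).not_commute hV.rot.rot)))
  exact lt_of_hom hce (hyp_of_tri h8 hV tK sK xK tri) xK tri qs _ hf hb'

theorem K4.layerOf_eq {V R K : Subgroup G} (hV : K4 V) (hR : V ≤ R) (hK : H2.CompIn R K) :
    layerOf R = K := by
  have key : ∀ K, H2.CompIn R K → V ≤ K := fun K hK => hV.le_of_perfect
    ((hV.le_layerOf hR fun e => H2.QS.ne_bot hK.2 (eq_bot_iff.2 (e ▸ hK.le_layerOf))).trans
      hK.layerOf_le_normalizer) (H2.QS.commutator_eq hK.2) (H2.QS.ne_bot hK.2)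
  refine le_antisymm ?_ hK.le_layerOf
  rw [H2.layerOf_eq_sSup]
  refine sSup_le fun K' hK' => le_of_eq ?_
  by_contra hne
  exact H2.QS.not_isSolvable hK.2 (hV.isSolvable_of_nc (key K hK) (inf_le_left.trans
    ((hK.le_centralizer_of_ne hK' (Ne.symm hne)).trans (H2.centralizer_anti (key K' hK')))))

theorem exists_LT' (hce : CommEq.{u}) {n : ℕ} {R : Subgroup G} {t s : G} (h8 : ¬ 8 ∣ Nat.card G)
    (hV : V4 t s) (hI : Ind.{u} n) (hR : 𝐨(R) < n) (tR : t ∈ R) (sR : s ∈ R)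
    (hE : layerOf R ≠ ⊥) : ∃ A, LT (layerOf R) A t s := by
  obtain ⟨K, hK⟩ := H2.exists_compIn_of_layerOf_ne_bot hE
  have k := hV.k4 h8
  have hVR := V4.le_iff.2 ⟨tR, sR⟩
  have h1 := V4.le_iff.1 (k.le_layerOf hVR hE)
  rw [k.layerOf_eq hVR hK] at h1 ⊢
  exact ⟨_, exists_LT_of_quasisimple hce hI h8 hV ((card_le_of_le hK.le).trans_lt hR) h1.1 h1.2
    hK.2⟩

end Cfsg.Agent.P5
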